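import Cfsg.Agent.Lib.FusionSystem.Inter.Dichotomy

/-!
The layer: the least normal subsystem containing all components.
-/

set_option autoImplicit false
set_option linter.style.haveILetI false
set_option linter.unusedSectionVars false

namespace Cfsg.Agent.Lib.FS.Inter

open Cfsg Cfsg.FusionSystem Cfsg.Agent.Lib Cfsg.Agent.Lib.FS Cfsg.Agent.Lib.FS.NormalCentralizer

variable {Ω : Type*} [Group Ω] {S T : Subgroup Ω} [Finite S] {p : ℕ} [hp : Fact p.Prime] {F : FusionSystem S}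

omit hp in
/-- A saturated system is normal in itself. -/
theorem self_isNormalIn (hF : F.IsSaturated p) : F.IsNormalIn F p := by
  refine ⟨⟨hF, hF, fun _ _ h => h, ⟨le_rfl, fun R _ φ hφ x => apply_mem hφ x⟩, fun P hP φ hφ α hα => ?_,
    fun P hP φ hφ => ⟨1, one_mem _, φ, hφ, fun x hx => rfl⟩⟩, fun α hα => ?_⟩
  · obtain ⟨a, ha, -, hae⟩ := exists_hom_of_aut le_rfl hα
    obtain ⟨b, hb, -, hbe⟩ := exists_hom_of_aut le_rfl ((F.autGroup S).inv_mem hα)
    set Q := (P.subgroupOf S).map (S.subtype.comp α.toMonoidHom) with hQ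
    have hQS : Q ≤ S := by rintro _ ⟨w, -, rfl⟩; exact (α w).2
    obtain ⟨b', hb', hb'e⟩ := exists_restrict hb hQS
    have hb'P : ∀ y, b' y ∈ P := by
      rintro ⟨_, w, hw, rfl⟩
      rw [hb'e, hbe, show (⟨S.subtype.comp α.toMonoidHom w, _⟩ : S) = α w from Subtype.ext rfl,
        MulAut.inv_apply_self]
      exact hw
    obtain ⟨c, hc, hce⟩ := exists_comp hb' hφ hb'P
    obtain ⟨d, hd, hde⟩ := exists_comp hc ha fun y => apply_mem hc y
    refine ⟨d, hd, fun x hφx hαx => ?_⟩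
    rw [hde, hae]
    refine congrArg (fun z => ((α z : S) : Ω)) (Subtype.ext ?_)
    show c ⟨_, hαx⟩ = φ x
    rw [hce]
    refine congrArg φ (Subtype.ext ?_)
    show b' ⟨_, hαx⟩ = (x : Ω)
    rw [hb'e, hbe]
    exact congrArg Subtype.val (MulAut.inv_apply_self _ α ⟨x, hP x.2⟩)
  · have hle : S ⊔ centralizerIn S S ≤ S := sup_le le_rfl (centralizerIn_le S)
    obtain ⟨a, ha, -, hae⟩ := exists_hom_of_aut le_rfl hα
    obtain ⟨a', ha', ha'e⟩ := exists_restrict ha hle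
    obtain ⟨β, hβ, hβe⟩ := exists_aut ha' fun x => (le_sup_left : S ≤ S ⊔ _) (apply_mem ha' x)
    refine ⟨β, hβ, fun x => (hβe _).trans ((ha'e _).trans (hae _)), fun c hc => ?_⟩
    rw [hβe, ha'e, hae]
    refine ⟨S.mul_mem (S.inv_mem hc.1) (SetLike.coe_mem _),
      (Subgroup.centralizer (S : Set Ω)).mul_mem ((Subgroup.centralizer (S : Set Ω)).inv_mem hc.2) ?_⟩
    intro s hs
    have h1 := (mem_centralizerIn.1 hc).2 _ (α⁻¹ ⟨s, hs⟩).2
    have h2 : α (α⁻¹ ⟨s, hs⟩ * ⟨c, hle c.2⟩) = α (⟨c, hle c.2⟩ * α⁻¹ ⟨s, hs⟩) :=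
      congrArg α (Subtype.ext h1)
    rw [map_mul, map_mul, MulAut.apply_inv_self] at h2
    exact congrArg Subtype.val h2

/-- The graphs over `S` of the maps of a system. -/
def graphsIn (S : Subgroup Ω) {T : Subgroup Ω} (E : FusionSystem T) :
    Set (Σ P : {P : Subgroup Ω // P ≤ S}, (↥P.1 → S)) :=
  {x | ∃ φ ∈ E.Hom x.1.1, ∀ y, φ y = (x.2 y : Ω)}

/-- The layer exists. -/
theorem exists_layer (hS : IsPGroup p S) (hF : F.IsSaturated p) :
    ∃ (T : Subgroup Ω) (E : FusionSystem T), E.IsLayerOf F p := by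
  classical
  let good : ℕ → Prop := fun n => ∃ (T : Subgroup Ω) (E : FusionSystem T), E.IsNormalIn F p ∧
    (∀ (U : Subgroup Ω) (C : FusionSystem U), C.IsComponentIn F p → C.IsSubsystemOf E) ∧
    (graphsIn S E).ncard = n
  have hne : ∃ n, good n :=
    ⟨_, S, F, self_isNormalIn hF, fun U C hC => subnormal_le hC.1, rfl⟩
  obtain ⟨T, E, hE, hEc, hn⟩ := Nat.find_spec hne
  refine ⟨T, E, hE, hEc, fun R D hD hDc => ?_⟩
  obtain ⟨W, ⟨hWF, hWE, hWD⟩, -⟩ := exists_inter hS hE hD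
  have hWc : ∀ (U : Subgroup Ω) (C : FusionSystem U), C.IsComponentIn F p → C.IsSubsystemOf W := by
    intro U C hC
    rcases component_dichotomy hC.1 hS hC.2 _ W hWF with h | ⟨h, -⟩
    · exact h
    have hU : U ≤ S := src_le (subnormal_le hC.1 U (subtype_mem C le_rfl))
    haveI := finite_sub hU
    exact absurd h (not_centralizes_self (isPGroup_of_le hS hU) hC.2
      (le_inf (src_le (hEc U C hC U (subtype_mem C le_rfl))) (src_le (hDc U C hC U (subtype_mem C le_rfl)))))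
  haveI : Finite (Σ P : {P : Subgroup Ω // P ≤ S}, (↥P.1 → S)) := by
    haveI := finite_subgroups_le (S := S)
    haveI : ∀ P : {P : Subgroup Ω // P ≤ S}, Finite ↥P.1 := fun P => finite_sub P.2
    infer_instance
  have hWsub : graphsIn S W ⊆ graphsIn S E := fun x ⟨φ, hφ, he⟩ => ⟨φ, hWE.1.2.2.1 _ hφ, he⟩
  have hle := Nat.find_min' hne ⟨_, W, hWF, hWc, rfl⟩
  have heq := Set.eq_of_subset_of_ncard_le hWsub (hn.trans_le hle) (Set.toFinite _)
  intro P φ hφ
  have hφF := hE.1.2.2.1 P hφ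
  obtain ⟨ψ, hψ, he⟩ := heq.ge (show (⟨⟨P, src_le hφF⟩, fun y => ⟨φ y, apply_mem hφF y⟩⟩ :
    Σ P : {P : Subgroup Ω // P ≤ S}, (↥P.1 → S)) ∈ graphsIn S E from ⟨φ, hφ, fun _ => rfl⟩)
  exact hWD.1.2.2.1 P (hom_congr hψ fun y => (he y).symm)

end Cfsg.Agent.Lib.FS.Inter
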