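import Cfsg.Agent.Lib.FusionSystem.Inter.PairNormal
import Cfsg.Agent.Lib.FusionSystem.Inter.Layer
import Cfsg.Agent.S5150

/-!
The generalized Fitting subsystem exists and is normal.
-/

set_option autoImplicit false
set_option linter.style.haveILetI false
set_option linter.unusedSectionVars false

namespace Cfsg.Agent.Lib.FS.Inter

open Cfsg Cfsg.FusionSystem Cfsg.Agent.Lib Cfsg.Agent.Lib.FS Cfsg.Agent.Lib.FS.NormalCentralizer
open Cfsg.Agent.Lib.FS.Fitting (inner_isSaturated centralProduct_base)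

variable {Ω : Type*} [Group Ω] {S T Q : Subgroup Ω} [Finite S] {p : ℕ} [hp : Fact p.Prime] {F : FusionSystem S}

/-- The inner system of a normal subgroup is normal. -/
theorem inner_isNormalIn (hS : IsPGroup p S) (hF : F.IsSaturated p) (hQ : F.IsNormal Q) :
    (innerFusionSystem Q).IsNormalIn F p := by
  have hQS := hQ.1
  haveI := finite_sub hQS
  have hsc := isNormal_stronglyClosed hQ
  refine ⟨⟨inner_isSaturated (isPGroup_of_le hS hQS), hF, ?_, hsc, ?_, fun P hP φ hφ => ?_⟩, fun δ hδ => ?_⟩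
  · rintro P φ ⟨hP, g, hg, he⟩
    exact mem_of_conj F (hP.trans hQS) (hQS hg) he
  · rintro P hP φ ⟨-, g, hg, he⟩ α hα
    refine ⟨_, (innerFusionSystem Q).conj_mem (P := (P.subgroupOf Q).map (Q.subtype.comp α.toMonoidHom))
      (by rintro _ ⟨w, -, rfl⟩; exact (α w).2) (α ⟨g, hg⟩).2, fun x hφx hαx => ?_⟩
    rw [show (⟨φ x, hφx⟩ : Q) = ⟨g, hg⟩ * ⟨x, hP x.2⟩ * ⟨g, hg⟩⁻¹ from Subtype.ext (he x), map_mul, map_mul,
      map_inv]
    rfl
  · obtain ⟨α, hα, he⟩ := (isNormal_iff_extend hS hF hQS).1 hQ P hP φ hφ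
    exact ⟨α, hα, P.subtype, subtype_mem _ hP, fun x hx => (he x).symm⟩
  · obtain ⟨φ, ⟨-, g, hg, he⟩, -, hφe⟩ := exists_hom_of_aut le_rfl hδ
    have hgN : g ∈ Subgroup.normalizer ((Q ⊔ centralizerIn S Q : Subgroup Ω) : Set Ω) :=
      Subgroup.le_normalizer (Subgroup.mem_sup_left hg)
    refine ⟨(Q ⊔ centralizerIn S Q).normalizerMonoidHom ⟨g, hgN⟩, autInducedBy_le_autGroup F (hull_le hQS)
      (mem_autInducedBy.2 ⟨g, hQS hg, fun _ => rfl⟩), fun x => (he x).symm.trans (hφe x), fun c hc => ?_⟩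
    rw [normalizerMonoidHom_coe]
    show (c : Ω)⁻¹ * (g * c * g⁻¹) ∈ Q ⊓ Subgroup.centralizer (Q : Set Ω)
    rw [(mem_centralizerIn.1 hc).2 g hg, mul_inv_cancel_right, inv_mul_cancel]
    exact one_mem _

/-- The core and a layer centralise each other. -/
theorem comm_core_layer (hS : IsPGroup p S) (hF : F.IsSaturated p) {E : FusionSystem T}
    (hE : E.IsLayerOf F p) : Comm F (innerFusionSystem F.core) E p := by
  have hT : T ≤ centralizerIn S F.core := (S5150.result p hS F hF E hE T (subtype_mem E le_rfl)).2.1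
  have hcomm : ∀ a ∈ F.core, ∀ b ∈ T, a * b = b * a := fun a ha b hb =>
    (mem_centralizerIn.1 (hT hb)).2 a ha
  refine ⟨hS, inner_isNormalIn hS hF (FusionAlperin.Join.isNormal_core F), hE.1, hcomm, ?_, ?_⟩
  · rintro P φ ⟨-, g, hg, he⟩ x hx
    rw [he, hcomm g hg x hx, mul_inv_cancel_right]
  · intro P φ hφ x hx
    obtain ⟨-, -, -, ψ, -, h1, h2⟩ := S5150.result p hS F hF E hE P hφ
    rw [← h1 x]
    exact (congrArg ψ (Subtype.ext rfl : Subgroup.inclusion le_sup_left x =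
      Subgroup.inclusion le_sup_right (⟨x, hx⟩ : F.core))).trans (h2 ⟨x, hx⟩)

/-- A generalized Fitting subsystem is normal. -/
theorem gf_isNormalIn (hS : IsPGroup p S) (hF : F.IsSaturated p) {U : Subgroup Ω} {D : FusionSystem U}
    (hD : D.IsGeneralizedFittingOf F p) : D.IsNormalIn F p := by
  obtain ⟨T, E, hE, hprod⟩ := hD
  obtain ⟨hQU, hTU, -, hdec⟩ := centralProduct_base hprod
  have hU : U = F.core ⊔ T := by
    refine le_antisymm (fun u hu => ?_) (sup_le hQU hTU)
    obtain ⟨a, ha, z, hz, rfl⟩ := hdec u hu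
    exact Subgroup.mul_mem_sup ha hz
  subst hU
  exact (comm_core_layer hS hF hE).product_isNormalIn hprod

/-- A generalized Fitting subsystem exists. -/
theorem exists_gf (hS : IsPGroup p S) (hF : F.IsSaturated p) :
    ∃ (U : Subgroup Ω) (D : FusionSystem U), D.IsGeneralizedFittingOf F p := by
  obtain ⟨T, E, hE⟩ := exists_layer hS hF
  obtain ⟨D, hD⟩ := (comm_core_layer hS hF hE).exists_product
  exact ⟨_, D, T, E, hE, hD⟩

end Cfsg.Agent.Lib.FS.Inter
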