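import Cfsg.Agent.Lib.FusionSystem.Inter.Saturated
import Cfsg.Agent.Lib.FusionP3.Prime.Least

/-!
The intersection of two normal subsystems: the greatest system over `T₁ ⊓ T₂` that is normal in the ambient
system and in both of them.
-/

set_option autoImplicit false
set_option linter.style.haveILetI false
set_option linter.unusedSectionVars false

namespace Cfsg.Agent.Lib.FS.Inter

open Cfsg Cfsg.FusionSystem Cfsg.Agent.Lib Cfsg.Agent.Lib.FS Cfsg.Agent.Lib.FS.NormalCentralizer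
open Cfsg.Agent.Lib.FusionP3.Prime (img img_le autRes autRes_range apply_mem_img mem_img Inv Dec gen0 agreeing agreeing_le twisted)
open Cfsg.Agent.Lib.FS.CentralLift (Restr congr_apply_map congr_inv)

variable {Ω : Type*} [Group Ω] {S T A T₁ T₂ : Subgroup Ω} [Finite S] {p : ℕ} [hp : Fact p.Prime]
  {F : FusionSystem S} {E : FusionSystem T} {E₁ : FusionSystem T₁} {E₂ : FusionSystem T₂}

omit hp in
/-- A strongly closed subgroup is fully centralised. -/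
theorem fullyCentralized_of_closed (hsc : F.StronglyClosed A) : F.IsFullyCentralized A := by
  haveI := finite_sub hsc.1
  refine ⟨hsc.1, fun Q hQ => ?_⟩
  obtain ⟨φ, hφ, rfl⟩ := hQ
  rw [range_eq_of_mem hφ (fun x => stronglyClosed_apply_mem hsc hφ x.2) le_rfl]

/-- The automorphisms of a normal subsystem over `A` lift moving `C_S(A)` within cosets of `A`. -/
theorem mv_of_normal {D : FusionSystem A} (hD : D.IsNormalIn F p) {a : MulAut A} (ha : a ∈ D.autGroup A) :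
    MV F A A a := by
  obtain ⟨β, hβ, hβa, hβc⟩ := hD.2 a ha
  have hAS : A ≤ S := hD.1.2.2.2.1.1
  obtain ⟨φ, hφ, -, hφe⟩ := exists_hom_of_aut (hull_le hAS) hβ
  refine ⟨φ, hφ, fun x => by rw [hφe]; exact hβa x, fun c => ?_⟩
  rw [hφe]
  exact (hβc (Subgroup.inclusion le_sup_right c) c.2).1

/-- Automorphisms of `A` in `F` carry liftable automorphisms to liftable ones. -/
theorem mv_conj (hS : IsPGroup p S) (hF : F.IsSaturated p) (hscA : F.StronglyClosed A)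
    (hscT : F.StronglyClosed T) (hAT : A ≤ T) (hsub : E.IsSubsystemOf F)
    (hEn : ∀ {U : Subgroup Ω}, U ≤ T → ∀ {b g : MulAut U}, b ∈ E.autGroup U → g ∈ F.autGroup U →
      g * b * g⁻¹ ∈ E.autGroup U)
    {a γ : MulAut A} (hγ : γ ∈ F.autGroup A) (ha : MV E A A a) : MV E A A (γ * a * γ⁻¹) := by
  obtain ⟨D, hD, hD1, hD2⟩ := ha
  haveI := finite_sub hscT.1
  haveI := finite_sub hscA.1
  obtain ⟨φ, hφ, hr, hφe⟩ := exists_hom_of_aut hscA.1 hγ
  obtain ⟨η, hη, hη1, hηc⟩ := exists_hull_map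
    (receptive_of_fullyCentralized hS hF (fullyCentralized_of_closed hscA)) hφ hr
  have hle : A ⊔ centralizerIn T A ≤ A ⊔ centralizerIn S A :=
    sup_le_sup_left (fun g hg => ⟨hscT.1 hg.1, hg.2⟩) A
  have hHT : A ⊔ centralizerIn T A ≤ T := hull_le hAT
  obtain ⟨η', hη', hη'e⟩ := exists_restrict hη hle
  have hη'm : ∀ w, η' w ∈ A ⊔ centralizerIn T A := mapsTo_of_sup
    (fun x => by
      rw [hη'e]
      exact (le_sup_left : A ≤ A ⊔ _) ((congrArg (· ∈ A) ((hη1 x).trans (hφe x))).mpr (γ x).2))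
    (fun c => (le_sup_right : _ ≤ A ⊔ centralizerIn T A) ⟨stronglyClosed_apply_mem hscT hη' c.2.1, by
      rw [hη'e]; exact (hηc ⟨c, hscT.1 c.2.1, c.2.2⟩).2⟩)
  haveI := finite_sub (hHT.trans hscT.1)
  obtain ⟨g, hg, hge⟩ := exists_aut hη' hη'm
  have hgA : Restr le_sup_left g γ := fun x =>
    (hge _).trans ((hη'e _).trans ((hη1 x).trans (hφe x)))
  have hDc : ∀ c : centralizerIn T A, D (Subgroup.inclusion le_sup_right c) ∈ centralizerIn T A := fun c =>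
    apply_centralizer_mem hD (fun y hy => ⟨a⁻¹ ⟨y, hy⟩, by rw [hD1, MulAut.apply_inv_self]⟩) c
  obtain ⟨b, hb, hbe⟩ := exists_aut hD (mapsTo_of_sup
    (fun x => by rw [hD1]; exact (le_sup_left : A ≤ A ⊔ _) (a x).2)
    (fun c => (le_sup_right : _ ≤ A ⊔ centralizerIn T A) (hDc c)))
  have hbA : Restr le_sup_left b a := fun x => (hbe _).trans (hD1 x)
  have hmove : ∀ w : ↥(A ⊔ centralizerIn T A), (w : Ω)⁻¹ * ((b w : ↥(A ⊔ centralizerIn T A)) : Ω) ∈ A := by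
    intro w
    obtain ⟨u, hu, c, hc, he⟩ := Odd.exists_mul w.2
    have hw : w = Subgroup.inclusion le_sup_left ⟨u, hu⟩ * Subgroup.inclusion le_sup_right ⟨c, hc⟩ :=
      Subtype.ext he.symm
    rw [hbe, hw, map_mul, hD1, Subgroup.coe_mul]
    show (u * c)⁻¹ * (((a ⟨u, hu⟩ : A) : Ω) * D (Subgroup.inclusion le_sup_right ⟨c, hc⟩)) ∈ A
    rw [show (u * c)⁻¹ * (((a ⟨u, hu⟩ : A) : Ω) * D (Subgroup.inclusion le_sup_right ⟨c, hc⟩)) =
      c⁻¹ * (u⁻¹ * ((a ⟨u, hu⟩ : A) : Ω)) * c * (c⁻¹ * D (Subgroup.inclusion le_sup_right ⟨c, hc⟩)) by group]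
    exact A.mul_mem (conj_inv_mem_of_normalizer (stronglyClosed_le_normalizer hscA (hscT.1 hc.1))
      (A.mul_mem (A.inv_mem hu) (a _).2)) (hD2 ⟨c, hc⟩)
  obtain ⟨D', hD', -, hD'e⟩ := exists_hom_of_aut hHT (hEn hHT hb hg)
  refine ⟨D', hD', fun x => ?_, fun c => ?_⟩
  · rw [hD'e]
    exact ((hgA.mul hbA).mul hgA.inv) x
  · rw [hD'e]
    set cX : ↥(A ⊔ centralizerIn T A) := Subgroup.inclusion le_sup_right c with hcX
    set c₀ := g⁻¹ cX with hc₀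
    set z : ↥(A ⊔ centralizerIn T A) := c₀⁻¹ * b c₀ with hz
    have hzA : (z : Ω) ∈ A := hmove c₀
    have e : cX⁻¹ * (g * b * g⁻¹) cX = g z := by
      rw [hz, map_mul, map_inv, hc₀, MulAut.apply_inv_self, MulAut.mul_apply, MulAut.mul_apply]
    have h1 : ((cX⁻¹ * (g * b * g⁻¹) cX : ↥(A ⊔ centralizerIn T A)) : Ω) ∈ A := by
      rw [e]
      exact (restr_mem hgA hzA)
    exact h1

/-- The twist of a weakly normal subsystem by liftable automorphisms is normal. -/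
theorem twist_isNormalIn (hS : IsPGroup p S) [Finite A] (hAp : IsPGroup p A) {W : FusionSystem A}
    (hW : W.IsWeaklyNormalIn F p) {G : Subgroup (MulAut A)} (hG : G ≤ W.autGroup A) (hag : agreeing W p ≤ G)
    (hconj : ∀ γ ∈ F.autGroup A, ∀ a ∈ G, γ * a * γ⁻¹ ∈ G) (hlift : ∀ a ∈ G, MV F A A a) :
    (twisted (p := p) hAp W G hG).IsNormalIn F p := by
  have hcl := hW.2.2.2.1
  have hAS : A ≤ S := hcl.1
  have hAc : W.IsCentric A := ⟨le_rfl, fun Q ⟨φ, hφ, hr⟩ => by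
    rw [← hr, range_eq_of_mem hφ (fun x => apply_mem hφ x) le_rfl]
    exact centralizerIn_le A⟩
  refine ⟨⟨FusionP3.Prime.twisted_saturated hAp hW.1 FusionP3.Prime.fam_centric hG
    (fun δ hδ P hP _ hd => hag (Subgroup.subset_closure ⟨hδ, P, hP, hd⟩)), hW.2.1,
    fun P φ hφ => hW.2.2.1 P hφ.1, hcl, fun P hP φ hφ α hα => ?_, fun P hP φ hφ => ?_⟩, fun δ hδ => ?_⟩
  · obtain ⟨-, γ, hγ, e, he, hde⟩ := hφ
    obtain ⟨χ₀, hχ₀, hχ₀e⟩ := FusionP3.Prime.Normality.gen0_inv_ambient hAp hW.1 hW.2.2 hα P hP e he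
    have hγ' := hconj α hα γ hγ
    obtain ⟨τ, hτ, -, hτe⟩ := exists_hom_of_aut le_rfl (hG hγ')
    obtain ⟨χ, hχ, hχe⟩ := exists_comp (FusionP3.Prime.gen0_le W p _ hχ₀) hτ fun x => apply_mem hχ₀ x
    refine ⟨χ, ⟨hχ, _, hγ', χ₀, hχ₀, fun x hx => (hχe x).trans (hτe _)⟩, fun x hφx hαx => ?_⟩
    refine ((hχe ⟨_, hαx⟩).trans (hτe _)).trans ?_
    have h1 := hχ₀e x (apply_mem he x) hαx
    refine congrArg (fun z : A => (z : Ω)) ?_
    rw [show (⟨χ₀ ⟨_, hαx⟩, apply_mem hχ₀ _⟩ : A) = α ⟨e x, apply_mem he x⟩ from Subtype.ext h1,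
      MulAut.mul_apply, MulAut.mul_apply, MulAut.inv_apply_self]
    exact congrArg α (Subtype.ext (hde x (apply_mem he x)).symm)
  · obtain ⟨α, hα, e, he, h⟩ := hW.2.2.2.2.2 P hP φ hφ
    obtain ⟨γ, hγ, e₀, he₀, h'⟩ := FusionP3.Prime.dec_of_mem hAp hW.1 he
    refine ⟨α * γ, (F.autGroup A).mul_mem hα (autE_le_autF hW.2.2.1 le_rfl hγ), e₀,
      ⟨FusionP3.Prime.gen0_le W p _ he₀, Dec.of_mem he₀⟩, fun x hx => ?_⟩
    rw [h x (apply_mem he x), MulAut.mul_apply]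
    exact congrArg (fun z => ((α z : A) : Ω)) (Subtype.ext (h' x hx))
  · obtain ⟨φ, hφ, -, hφe⟩ := exists_hom_of_aut le_rfl hδ
    obtain ⟨hφW, γ, hγ, e, he, hde⟩ := hφ
    have hδG : δ ∈ G := by
      obtain ⟨b, hb, hbe⟩ := exists_aut he (fun x => apply_mem he x)
      have hδb : δ = γ * b := MulEquiv.ext fun x => Subtype.ext (by
        rw [← hφe, hde x (apply_mem he x), MulAut.mul_apply]
        exact congrArg (fun u => ((γ u : A) : Ω)) (Subtype.ext (hbe x).symm))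
      rw [hδb]
      refine mul_mem hγ (hag (Subgroup.subset_closure
        ⟨autE_le_autF (FusionP3.Prime.gen0_le W p) le_rfl hb, A, hAc, ?_⟩))
      exact hom_congr he fun x => (hbe _)
    obtain ⟨D, hD, hD1, hD2⟩ := hlift δ hδG
    haveI := finite_sub (hull_le hAS)
    have hDc : ∀ c : centralizerIn S A, D (Subgroup.inclusion le_sup_right c) ∈ centralizerIn S A := fun c =>
      apply_centralizer_mem hD (fun y hy => ⟨δ⁻¹ ⟨y, hy⟩, by rw [hD1, MulAut.apply_inv_self]⟩) c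
    obtain ⟨β, hβ, hβe⟩ := exists_aut hD (mapsTo_of_sup
      (fun x => by rw [hD1]; exact (le_sup_left : A ≤ A ⊔ _) (δ x).2)
      (fun c => (le_sup_right : _ ≤ A ⊔ centralizerIn S A) (hDc c)))
    refine ⟨β, hβ, fun x => (hβe _).trans (hD1 x), fun c hc => ?_⟩
    rw [hβe, show c = Subgroup.inclusion le_sup_right ⟨(c : Ω), hc⟩ from Subtype.ext rfl]
    exact ⟨hD2 ⟨c, hc⟩, ((centralizerIn S A).mul_mem ((centralizerIn S A).inv_mem hc) (hDc ⟨c, hc⟩)).2⟩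

/-- The greatest common normal subsystem over the intersection. -/
theorem exists_inter (hS : IsPGroup p S) (h₁ : E₁.IsNormalIn F p) (h₂ : E₂.IsNormalIn F p) :
    ∃ D : FusionSystem (T₁ ⊓ T₂), (D.IsNormalIn F p ∧ D.IsNormalIn E₁ p ∧ D.IsNormalIn E₂ p) ∧
      ∀ D' : FusionSystem (T₁ ⊓ T₂), D'.IsNormalIn F p → D'.IsNormalIn E₁ p → D'.IsNormalIn E₂ p →
        D'.IsSubsystemOf D := by
  have h : Setup F E₁ E₂ p := ⟨hS, h₁, h₂⟩
  haveI := h.finA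
  haveI := finite_sub h.sc₁.1
  haveI := finite_sub h.sc₂.1
  have hT₁p := isPGroup_of_le hS h.sc₁.1
  have hT₂p := isPGroup_of_le hS h.sc₂.1
  have hAp := h.pA
  have hW := w_weaklyNormal h
  obtain ⟨R, hR⟩ := FusionP3.Prime.exists_residual hAp hW.1
  have hRF := FusionP3.Prime.Normality.residual_isNormalIn hS hW hR
  have hR₁ := FusionP3.Prime.Normality.residual_isNormalIn hT₁p (w_weaklyNormal₁ h) hR
  have hR₂ := FusionP3.Prime.Normality.residual_isNormalIn hT₂p (w_weaklyNormal₂ h) hR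
  have hsc₁ := Setup.sc_sub h.scA h₁.1.2.2.1 (inf_le_left : T₁ ⊓ T₂ ≤ T₁)
  have hsc₂ := Setup.sc_sub h.scA h₂.1.2.2.1 (inf_le_right : T₁ ⊓ T₂ ≤ T₂)
  set G : Subgroup (MulAut ↥(T₁ ⊓ T₂)) := h.wSys.autGroup (T₁ ⊓ T₂) ⊓ mvSub h.scA h.scA.1 ⊓
    mvSub hsc₁ hsc₁.1 ⊓ mvSub hsc₂ hsc₂.1 with hGdef
  have hG : G ≤ h.wSys.autGroup (T₁ ⊓ T₂) := inf_le_left.trans (inf_le_left.trans inf_le_left)
  have h0R : (gen0 h.wSys p).IsSubsystemOf R := FusionP3.Prime.gen0_least fun Q hQ _ => hR.2.1.2 Q hQ.1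
  have hag : agreeing h.wSys p ≤ G := by
    refine le_trans ((Subgroup.closure_le _).2 fun δ ⟨hδ, P, hP, hd⟩ =>
      FusionP3.Prime.mem_of_agree_saturated hAp hW.1 hR.2.1.1 hR.1 hδ hP (h0R P hd) :
        agreeing h.wSys p ≤ R.autGroup (T₁ ⊓ T₂)) fun a ha => ?_
    exact ⟨⟨⟨autE_le_autF hR.2.1.1 le_rfl ha, mv_of_normal hRF ha⟩, mv_of_normal hR₁ ha⟩,
      mv_of_normal hR₂ ha⟩
  have hconj : ∀ γ ∈ F.autGroup (T₁ ⊓ T₂), ∀ a ∈ G, γ * a * γ⁻¹ ∈ G := by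
    intro γ hγ a ha
    have hWn : γ * a * γ⁻¹ ∈ h.wSys.autGroup (T₁ ⊓ T₂) := by
      rw [autW_base h]
      exact h.kAut_normal le_rfl (by rw [← autW_base h]; exact ha.1.1.1) hγ
    refine ⟨⟨⟨hWn, ?_⟩, ?_⟩, ?_⟩
    · exact mv_conj hS h.hF h.scA ⟨le_rfl, fun R hR φ hφ x => apply_mem hφ x⟩ h.scA.1 (fun _ _ hφ => hφ)
        (fun _ _ _ hb hg => mul_mem (mul_mem hg hb) ((F.autGroup _).inv_mem hg)) hγ ha.1.1.2
    · exact mv_conj hS h.hF h.scA h.sc₁ inf_le_left h₁.1.2.2.1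
        (fun hU _ _ hb hg => autE_normal h₁ hU hb hg) hγ ha.1.2
    · exact mv_conj hS h.hF h.scA h.sc₂ inf_le_right h₂.1.2.2.1
        (fun hU _ _ hb hg => autE_normal h₂ hU hb hg) hγ ha.2
  refine ⟨twisted (p := p) hAp h.wSys G hG, ⟨twist_isNormalIn hS hAp hW hG hag hconj fun a ha => ha.1.1.2,
    twist_isNormalIn hT₁p hAp (w_weaklyNormal₁ h) hG hag
      (fun γ hγ => hconj γ (autE_le_autF h₁.1.2.2.1 inf_le_left hγ)) fun a ha => ha.1.2,
    twist_isNormalIn hT₂p hAp (w_weaklyNormal₂ h) hG hag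
      (fun γ hγ => hconj γ (autE_le_autF h₂.1.2.2.1 inf_le_right hγ)) fun a ha => ha.2⟩, ?_⟩
  intro D' hD' hD'₁ hD'₂ P φ hφ
  have hRtw : R.IsSubsystemOf (twisted (p := p) hAp h.wSys G hG) :=
    hR.2.2 _ (FusionP3.Prime.twisted_saturated hAp hW.1 FusionP3.Prime.fam_centric hG
      (fun δ hδ P hP _ hd => hag (Subgroup.subset_closure ⟨hδ, P, hP, hd⟩)))
      (FusionP3.Prime.twisted_index hAp hW.1 hG)
  obtain ⟨γ, hγ, e, he, hde⟩ := FusionP3.Prime.dec_of_mem hAp hD'.1.1 hφ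
  have hγG : γ ∈ G := by
    refine ⟨⟨⟨?_, mv_of_normal hD' hγ⟩, mv_of_normal hD'₁ hγ⟩, mv_of_normal hD'₂ hγ⟩
    rw [autW_base h]
    have hfn : D'.IsFullyNormalized (T₁ ⊓ T₂) := ⟨le_rfl, fun Q hQ => by
      obtain ⟨ψ, hψ, rfl⟩ := hQ
      rw [range_eq_of_mem hψ (fun x => apply_mem hψ x) le_rfl]⟩
    obtain ⟨Sy, hSy⟩ := (fullyAutomized_of_fullyNormalized hAp hD'.1.1 hfn).2
    have hgen := (closure_prime_to_sup_sylow Sy).ge (Subgroup.mem_top ⟨γ, hγ⟩)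
    refine ((?_ : _ ≤ (kAut F E₁ E₂ p (T₁ ⊓ T₂)).subgroupOf (D'.autGroup (T₁ ⊓ T₂))) hgen :)
    refine sup_le ((Subgroup.closure_le _).2 fun x hx => ?_) fun x hx => ?_
    · exact coprime_mem_kAut ⟨autE_le_autF hD'₁.1.2.2.1 le_rfl x.2, autE_le_autF hD'₂.1.2.2.1 le_rfl x.2⟩
        (by simpa [Subgroup.orderOf_coe] using hx)
    · rw [hSy, Subgroup.mem_subgroupOf] at hx
      exact autA_le_kAut h.scA.1 hx
  have he' := hRtw P (FusionP3.Prime.gen0_le_other hS hD'.1 hRF.1 P he)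
  refine FusionP3.Prime.mem_of_dec (E := twisted (p := p) hAp h.wSys G hG) (fun _ _ hψ => hψ)
    (FusionP3.Prime.mem_twisted_autGroup_base hAp hG hγG) he' hde

end Cfsg.Agent.Lib.FS.Inter
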