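import Cfsg.Agent.Lib.FusionSystem.Inter.Moves
import Cfsg.Agent.Lib.FusionSystem.NormalFacts
import Cfsg.Agent.Lib.Transfer.PResidual

/-!
A strongly closed `T` meeting a normal subsystem `D` over `U` in a subgroup fixed by all maps of `D` centralises
every saturated perfect subsystem of `D`.
-/

set_option autoImplicit false
set_option linter.style.haveILetI false
set_option linter.unusedSectionVars false

namespace Cfsg.Agent.Lib.FS.Inter

open Cfsg Cfsg.FusionSystem Cfsg.Agent.Lib Cfsg.Agent.Lib.FS Cfsg.Agent.Lib.FS.NormalCentralizer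
open Cfsg.Agent.Lib.FS.NormalCentralizer.Odd (autE_congr)
open Cfsg.Agent.Lib.FS.CentralLift (Restr congr_apply_map)

variable {Ω : Type*} [Group Ω] {S T U R : Subgroup Ω} [Finite S] {p : ℕ} [hp : Fact p.Prime]
  {F : FusionSystem S} {D : FusionSystem U} {C : FusionSystem R}

omit [Finite S] hp in
theorem normalizes_of_meet (hscU : F.StronglyClosed U) (hscT : F.StronglyClosed T) {P : Subgroup Ω}
    (hPU : P ≤ U) {t x : Ω} (ht : t ∈ T) (hx : x ∈ P) : t * x * t⁻¹ * x⁻¹ ∈ U ⊓ T :=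
  ⟨U.mul_mem (conj_mem_of_normalizer (stronglyClosed_le_normalizer hscU (hscT.1 ht)) (hPU hx))
      (U.inv_mem (hPU hx)), by
    rw [show t * x * t⁻¹ * x⁻¹ = t * (x * t⁻¹ * x⁻¹) by group]
    exact T.mul_mem ht (conj_mem_of_normalizer (stronglyClosed_le_normalizer hscT (hscU.1 (hPU hx)))
      (T.inv_mem ht))⟩

omit hp in
theorem le_normalizer_meet (hscU : F.StronglyClosed U) (hscT : F.StronglyClosed T) {P : Subgroup Ω}
    (hPU : P ≤ U) (hAP : U ⊓ T ≤ P) : T ≤ normalizerIn S P := fun t ht => ⟨hscT.1 ht, by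
  haveI := finite_sub (hPU.trans hscU.1)
  refine mem_normalizer_of_conj_mem fun x hx => ?_
  have h1 := P.mul_mem (hAP (normalizes_of_meet hscU hscT hPU ht hx)) hx
  rwa [inv_mul_cancel_right] at h1⟩

/-- The case of a fully normalised subgroup containing its centraliser in `U`. -/
theorem move_fn (hS : IsPGroup p S) (hD : D.IsNormalIn F p) (hscT : F.StronglyClosed T) {P : Subgroup Ω}
    (hPU : P ≤ U) (hAP : U ⊓ T ≤ P) (hP : F.IsFullyNormalized P) (hCU : centralizerIn U P ≤ P)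
    {β : MulAut P} (hβ : β ∈ D.autGroup P) (hord : ¬ p ∣ orderOf β)
    (hfix : ∀ x : P, (x : Ω) ∈ T → β x = x) :
    ∃ B ∈ F.Hom (P ⊔ T), (∀ x : P, B (Subgroup.inclusion le_sup_left x) = ((β x : P) : Ω)) ∧
      ∀ t : T, (t : Ω)⁻¹ * B (Subgroup.inclusion le_sup_right t) ∈ U ⊓ T := by
  have hF := hD.1.2.1
  have hscU := hD.1.2.2.2.1
  obtain ⟨D₀, hD₀, hD₀1, hD₀2⟩ := autE_mv hS hD P hPU (fullyNormalized_props hS hF hP).1 β hβ
  revert hD₀2
  revert hD₀1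
  revert hD₀
  revert D₀
  set H := P ⊔ centralizerIn S P with hHdef
  intro D₀ hD₀ hD₀1 hD₀2
  have hHS : H ≤ S := hull_le hP.1
  haveI := finite_sub hP.1
  haveI := finite_sub hHS
  have hHn : F.IsFullyNormalized H := hull_fn hscU hPU hCU hP
  have hUH : ∀ x : H, (x : Ω) ∈ P ↔ (x : Ω) ∈ U :=
    fun x => ⟨fun hx => hPU hx, fun hx => mem_of_hull hPU hCU x.2 hx⟩
  have hinvP : ∀ a ∈ F.autGroup H, ∀ x : H, (x : Ω) ∈ P ↔ ((a x : H) : Ω) ∈ P := fun a ha x => by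
    rw [hUH, hUH]; exact autGroup_mem_iff_of_stronglyClosed hscU hHS ha x
  have hinvA : ∀ a ∈ F.autGroup H, ∀ x : H, (x : Ω) ∈ U ⊓ T ↔ ((a x : H) : Ω) ∈ U ⊓ T := fun a ha x =>
    and_congr (autGroup_mem_iff_of_stronglyClosed hscU hHS ha x)
      (autGroup_mem_iff_of_stronglyClosed hscT hHS ha x)
  have hDc : ∀ c : centralizerIn S P, D₀ (Subgroup.inclusion le_sup_right c) ∈ centralizerIn S P := fun c =>
    apply_centralizer_mem hD₀ (fun y hy => ⟨β⁻¹ ⟨y, hy⟩, by rw [hD₀1, MulAut.apply_inv_self]⟩) c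
  obtain ⟨B₀, hB₀, hB₀e⟩ := exists_aut hD₀ (mapsTo_of_sup
    (fun x => by rw [hD₀1]; exact (le_sup_left : P ≤ H) (β x).2)
    (fun c => (le_sup_right : _ ≤ H) (hDc c)))
  have hB₀β : Restr le_sup_left B₀ β := fun x => (hB₀e _).trans (hD₀1 x)
  have hB₀m : B₀ ∈ moveSub H P := by
    refine mem_moveSub (hinvP B₀ hB₀) fun x => ?_
    refine mem_of_hull hPU hCU (H.mul_mem (H.inv_mem x.2) (SetLike.coe_mem _)) ?_
    obtain ⟨u, hu, c, hc, he⟩ := Odd.exists_mul x.2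
    have hx : x = Subgroup.inclusion le_sup_left ⟨u, hu⟩ * Subgroup.inclusion le_sup_right ⟨c, hc⟩ :=
      Subtype.ext he.symm
    rw [hB₀e, hx, map_mul, hD₀1, Subgroup.coe_mul]
    show (u * c)⁻¹ * (((β ⟨u, hu⟩ : P) : Ω) * D₀ (Subgroup.inclusion le_sup_right ⟨c, hc⟩)) ∈ U
    rw [show (u * c)⁻¹ * (((β ⟨u, hu⟩ : P) : Ω) * D₀ (Subgroup.inclusion le_sup_right ⟨c, hc⟩)) =
      c⁻¹ * (u⁻¹ * ((β ⟨u, hu⟩ : P) : Ω)) * c * (c⁻¹ * D₀ (Subgroup.inclusion le_sup_right ⟨c, hc⟩)) by group]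
    exact U.mul_mem (conj_inv_mem_of_normalizer (stronglyClosed_le_normalizer hscU hc.1)
      (hPU (P.mul_mem (P.inv_mem hu) (β _).2))) (hD₀2 ⟨c, hc⟩)
  obtain ⟨n₀, hn₀, -⟩ := exists_pow_prime_to (x := B₀) hord
  have hBF : B₀ ^ n₀ ∈ F.autGroup H := pow_mem hB₀ n₀
  have hBβ : Restr le_sup_left (B₀ ^ n₀) β := by
    have h := hB₀β.pow n₀
    rwa [hn₀] at h
  have hBm : B₀ ^ n₀ ∈ moveSub H P := pow_mem hB₀m n₀
  revert hBF hBβ hBm
  generalize B₀ ^ n₀ = B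
  intro hBF hBβ hBm
  have hBA : B ∈ fixSub H (U ⊓ T) := fun x hx => by
    have hxP : (x : Ω) ∈ P := hAP hx
    exact Subtype.ext ((restr_apply hBβ hxP).trans (congrArg Subtype.val (hfix ⟨x, hxP⟩ hx.2)))
  -- the stabiliser of the series
  set G₂ := layerStab H (fun _ : Unit => U ⊓ T) fun _ => P with hG₂
  set St := moveSub H P ⊓ G₂ ⊓ fixSub H (U ⊓ T) ⊓ F.autGroup H with hSt
  have hStp : IsPGroup p St := by
    rintro ⟨γ, ⟨⟨hm, hg⟩, hf⟩, -⟩
    obtain ⟨a, -, ha⟩ := exists_pow_fix hS hHS (γ := γ) (Z := U ⊓ T) (a := 0)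
      (fun x hx => ((hg ()).1 x).1 hx) (fun x hx => by rw [pow_zero, pow_one]; exact hf x hx)
    obtain ⟨b, -, hb⟩ := exists_pow_fix hS hHS (γ := γ) (Z := P) (a := a)
      (fun x hx => ((hm ()).1 x).1 hx) (fun x hx => ha x ((hg ()).2 x hx))
    exact ⟨b, Subtype.ext (MulEquiv.ext fun x => hb x ((hm ()).2 x x.2))⟩
  have hmN : ∀ a ∈ F.autGroup H, ∀ k ∈ moveSub H P, a * k * a⁻¹ ∈ moveSub H P := fun a ha k hk =>
    layerStab_conj_mem (fun _ => hinvP a ha) (fun _ x => ⟨fun _ => (a x).2, fun _ => x.2⟩) hk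
  have hgN : ∀ a ∈ F.autGroup H, ∀ k ∈ G₂, a * k * a⁻¹ ∈ G₂ := fun a ha k hk =>
    layerStab_conj_mem (fun _ => hinvA a ha) (fun _ => hinvP a ha) hk
  have hfN : ∀ a ∈ F.autGroup H, ∀ k ∈ fixSub H (U ⊓ T), a * k * a⁻¹ ∈ fixSub H (U ⊓ T) := fun a ha k hk =>
    fixSub_conj hk fun x hx => (hinvA _ ((F.autGroup H).inv_mem ha) x).1 hx
  have hStS : St ≤ autInducedBy S H := by
    refine le_autS_of_normal (fullyAutomized_of_fullyNormalized hS hF hHn) inf_le_right ?_ hStp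
    intro a ha k hk
    exact ⟨⟨⟨hmN a ha k hk.1.1.1, hgN a ha k hk.1.1.2⟩, hfN a ha k hk.1.2⟩,
      mul_mem (mul_mem ha hk.2) ((F.autGroup H).inv_mem ha)⟩
  have hTN := le_normalizer_meet hscU hscT hPU hAP
  have hTH : ∀ {t : Ω}, t ∈ T → t ∈ Subgroup.normalizer (H : Set Ω) := fun ht =>
    normalizer_le_hull hP.1 (hTN ht)
  -- conjugations by `T`
  have hcomm : ∀ t (ht : t ∈ T), B * H.normalizerMonoidHom ⟨t, hTH ht⟩ * B⁻¹ ∈ autInducedBy S H := by
    intro t ht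
    set κ := H.normalizerMonoidHom ⟨t, hTH ht⟩ with hκ
    have hκS : κ ∈ autInducedBy S H := mem_autInducedBy.2 ⟨t, hscT.1 ht, fun _ => rfl⟩
    have hκF := autInducedBy_le_autGroup F hHS hκS
    have hκi := (F.autGroup H).inv_mem hκF
    have hκ₂ : κ ∈ G₂ := fun _ => ⟨hinvA κ hκF, fun x hx => by
      have h1 := normalizes_of_meet hscU hscT hPU ht hx
      have h2 : (x : Ω)⁻¹ * (t * x * t⁻¹ * (x : Ω)⁻¹) * x ∈ U ⊓ T :=
        ⟨conj_inv_mem_of_normalizer (stronglyClosed_le_normalizer hscU (hHS x.2)) h1.1,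
          conj_inv_mem_of_normalizer (stronglyClosed_le_normalizer hscT (hHS x.2)) h1.2⟩
      rw [hκ, normalizerMonoidHom_coe]
      convert h2 using 1
      group⟩
    set l := B * κ * B⁻¹ * κ⁻¹ with hl
    have hlF : l ∈ F.autGroup H := mul_mem (mul_mem (mul_mem hBF hκF) (inv_mem hBF)) hκi
    have hl1 : l ∈ moveSub H P := by
      rw [hl, show B * κ * B⁻¹ * κ⁻¹ = B * (κ * B⁻¹ * κ⁻¹) by group]
      exact mul_mem hBm (hmN κ hκF _ (inv_mem hBm))
    have hl2 : l ∈ G₂ := mul_mem (hgN B hBF κ hκ₂) (inv_mem hκ₂)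
    have hl3 : l ∈ fixSub H (U ⊓ T) := by
      rw [hl, show B * κ * B⁻¹ * κ⁻¹ = B * (κ * B⁻¹ * κ⁻¹) by group]
      exact mul_mem hBA (hfN κ hκF _ (inv_mem hBA))
    rw [show B * κ * B⁻¹ = l * κ by rw [hl]; group]
    exact mul_mem (hStS ⟨⟨⟨hl1, hl2⟩, hl3⟩, hlF⟩) hκS
  -- the extension to `H ⊔ T`
  have hXn : H ⊔ T ≤ FusionP3.Induction.preimageAut S H
      ((autInducedBy S H).comap (MulAut.conj B).toMonoidHom) := by
    refine sup_le (fun r hr => ?_) fun t ht => ?_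
    · refine ⟨⟨hHS hr, Subgroup.le_normalizer hr⟩,
        H.normalizerMonoidHom ⟨r, Subgroup.le_normalizer hr⟩, ?_, fun _ => rfl⟩
      refine mem_autInducedBy.2 ⟨B ⟨r, hr⟩, hHS (B ⟨r, hr⟩).2, fun x => ?_⟩
      exact conj_aut_eq (le_refl H) (ψ := H.subtype.comp B.toMonoidHom) (α := B) (g := ⟨r, hr⟩)
        (k := H.normalizerMonoidHom ⟨r, Subgroup.le_normalizer hr⟩) (fun _ => rfl) (fun _ => rfl) x
    · exact ⟨⟨hscT.1 ht, hTH ht⟩, H.normalizerMonoidHom ⟨t, hTH ht⟩, hcomm t ht, fun _ => rfl⟩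
  obtain ⟨ψ, hψ, hψe⟩ := FusionP3.Induction.exists_extend_aut (receptive_of_fullyNormalized hS hF hHn)
    (R := H ⊔ T) (hXn.trans (FusionP3.Induction.preimageAut_le H _)) hBF (fun g hg => by
      obtain ⟨-, w, hw, hwg⟩ := hXn hg
      obtain ⟨h, hh, hhe⟩ := mem_autInducedBy.1 hw
      refine ⟨h, hh, fun x hx => ?_⟩
      rw [← hhe (B x)]
      simp only [MulEquiv.coe_toMonoidHom, MulAut.conj_apply, MulAut.mul_apply, MulAut.inv_apply_self]
      congr 2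
      exact Subtype.ext (hwg x).symm)
  have hψH : ∀ x : H, ψ (Subgroup.inclusion le_sup_left x) = ((B x : H) : Ω) := fun x => hψe x x.2 _
  have hXS : H ⊔ T ≤ S := src_le hψ
  haveI := finite_sub hXS
  obtain ⟨B₁, hB₁, hB₁e⟩ := exists_aut hψ (mapsTo_of_sup
    (fun x => by rw [hψH]; exact (le_sup_left : H ≤ H ⊔ T) (B x).2)
    (fun t => (le_sup_right : T ≤ H ⊔ T) (stronglyClosed_apply_mem hscT hψ t.2)))
  have hB₁β : Restr ((le_sup_left : P ≤ H).trans le_sup_left) B₁ β := fun x =>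
    (hB₁e _).trans ((hψH (Subgroup.inclusion le_sup_left x)).trans (hBβ x))
  obtain ⟨n, hn, hnord⟩ := exists_pow_prime_to (x := B₁) hord
  obtain ⟨φ, hφ, -, hφe⟩ := exists_hom_of_aut hXS (pow_mem hB₁ n)
  obtain ⟨φ', hφ', hφ'e⟩ := exists_restrict hφ (sup_le_sup_right (le_sup_left : P ≤ H) T)
  refine ⟨φ', hφ', fun x => ?_, fun t => ?_⟩
  · rw [hφ'e, hφe]
    have h := (hB₁β.pow n) x
    rwa [hn] at h
  refine ⟨?_, T.mul_mem (T.inv_mem t.2) (stronglyClosed_apply_mem hscT hφ' t.2)⟩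
  rw [hφ'e, hφe]
  -- modulo `U`
  haveI : (U.subgroupOf S).Normal :=
    ⟨fun u hu g => Subgroup.mem_subgroupOf.2 (conj_mem_of_normalizer (stronglyClosed_le_normalizer hscU g.2)
      (Subgroup.mem_subgroupOf.1 hu))⟩
  set f : ↥(H ⊔ T) →* S ⧸ U.subgroupOf S :=
    (QuotientGroup.mk' (U.subgroupOf S)).comp (Subgroup.inclusion hXS) with hf
  have hf1 : ∀ k, f k = 1 ↔ (k : Ω) ∈ U := fun k =>
    (QuotientGroup.eq_one_iff _).trans Subgroup.mem_subgroupOf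
  set tX : ↥(H ⊔ T) := Subgroup.inclusion le_sup_right t with htX
  set w := tX⁻¹ * B₁ tX with hwdef
  have hwB : B₁ tX = tX * w := (mul_inv_cancel_left _ _).symm
  have hker : ∀ k, f k = 1 → f (B₁ k) = 1 := fun k hk =>
    (hf1 _).2 (by rw [hB₁e]; exact stronglyClosed_apply_mem hscU hψ ((hf1 k).1 hk))
  have hfw : f (B₁ w) = f w := by
    have hwv : (w : Ω) = (t : Ω)⁻¹ * ψ tX := by rw [← hB₁e]; rfl
    have htN : (t : Ω) ∈ Subgroup.normalizer (P : Set Ω) := (hTN t.2).2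
    set c := P.normalizerMonoidHom ⟨t, htN⟩ with hc
    have hcF : c ∈ F.autGroup P :=
      autInducedBy_le_autGroup F hP.1 (mem_autInducedBy.2 ⟨t, hscT.1 t.2, fun _ => rfl⟩)
    have hk : c⁻¹ * β * c * β⁻¹ ∈ D.autGroup P := by
      have h1 := autE_normal hD hPU hβ ((F.autGroup P).inv_mem hcF)
      rw [inv_inv] at h1
      exact mul_mem h1 (inv_mem hβ)
    have hact : ∀ x : P, (((c⁻¹ * β * c * β⁻¹) x : P) : Ω) = (w : Ω) * x * (w : Ω)⁻¹ := by
      intro x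
      have h1 : ((β * c * β⁻¹) x : Ω) = ψ tX * x * (ψ tX)⁻¹ :=
        conj_aut_eq ((le_sup_left : P ≤ H).trans le_sup_left) (ψ := ψ) (g := tX)
          (fun y => (hψH (Subgroup.inclusion le_sup_left y)).trans (hBβ y)) (fun _ => rfl) x
      rw [show c⁻¹ * β * c * β⁻¹ = c⁻¹ * (β * c * β⁻¹) by group, MulAut.mul_apply, hc, ← map_inv,
        normalizerMonoidHom_coe, Subgroup.coe_inv, h1, hwv]
      group
    have hwS : (w : Ω) ∈ S := hXS w.2
    obtain ⟨u, hu, hue⟩ := mem_autInducedBy.1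
      (autE_inter_autS hS hD hPU hP hk (mem_autInducedBy.2 ⟨w, hwS, hact⟩))
    set z := u⁻¹ * (w : Ω) with hzdef
    have hz : z ∈ centralizerIn S P := mem_centralizerIn'.2 ⟨S.mul_mem (S.inv_mem (hscU.1 hu)) hwS,
      fun x hx => by
        have h1 := (hact ⟨x, hx⟩).symm.trans (hue ⟨x, hx⟩)
        rw [hzdef, show u⁻¹ * (w : Ω) * x * (u⁻¹ * (w : Ω))⁻¹ = u⁻¹ * ((w : Ω) * x * (w : Ω)⁻¹) * u by group, h1]
        group⟩
    have hzH : z ∈ H := (le_sup_right : _ ≤ H) hz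
    have huX : u ∈ H ⊔ T := by
      have h1 := (H ⊔ T).mul_mem w.2 ((H ⊔ T).inv_mem ((le_sup_left : H ≤ H ⊔ T) hzH))
      rwa [hzdef, mul_inv_rev, inv_inv, mul_inv_cancel_left] at h1
    have hwe : w = ⟨u, huX⟩ * Subgroup.inclusion le_sup_left ⟨z, hzH⟩ :=
      Subtype.ext (mul_inv_cancel_left u _).symm
    have hz1 : f ((Subgroup.inclusion le_sup_left ⟨z, hzH⟩ : ↥(H ⊔ T))⁻¹ *
        B₁ (Subgroup.inclusion le_sup_left ⟨z, hzH⟩)) = 1 := by
      refine (hf1 _).2 ?_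
      rw [Subgroup.coe_mul, Subgroup.coe_inv, hB₁e, hψH]
      exact hPU ((hBm ()).2 ⟨z, hzH⟩ hzH)
    rw [hwe, map_mul, map_mul, hker ⟨u, huX⟩ ((hf1 ⟨u, huX⟩).2 hu), map_mul, (hf1 ⟨u, huX⟩).2 hu, one_mul,
      one_mul]
    rw [map_mul, map_inv, inv_mul_eq_one] at hz1
    exact hz1.symm
  have hi := pow_translate f B₁ hwB hfw hker
  have h1 := hi (n * orderOf (B₁ ^ n))
  rw [pow_mul, pow_orderOf_eq_one, MulAut.one_apply, pow_mul, left_eq_mul] at h1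
  have hfin : f w ^ n = 1 := by
    obtain ⟨k, hk⟩ := hS (Subgroup.inclusion hXS w)
    have hwp : f w ^ p ^ k = 1 := by
      rw [hf, MonoidHom.comp_apply, ← map_pow, hk, map_one]
    have hwp' : (f w ^ n) ^ p ^ k = 1 := by rw [← pow_mul, mul_comm, pow_mul, hwp, one_pow]
    have hz' := mem_zpowers_pow hwp' hnord
    rw [h1, Subgroup.zpowers_one_eq_bot, Subgroup.mem_bot] at hz'
    exact hz'
  have h2 := hi n
  rw [hfin, mul_one] at h2
  have h3 : (tX⁻¹ * (B₁ ^ n) tX : ↥(H ⊔ T)).1 ∈ U := by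
    refine (hf1 _).1 ?_
    rw [map_mul, map_inv, h2, inv_mul_cancel]
  exact h3

set_option maxHeartbeats 400000 in
/-- Automorphisms of order prime to `p` fixing `P ∩ T` extend to `P T` moving `T` within cosets of `U ∩ T`. -/
theorem exists_move (hS : IsPGroup p S) (hD : D.IsNormalIn F p) (hscT : F.StronglyClosed T) {P : Subgroup Ω}
    (hPU : P ≤ U) (hAP : U ⊓ T ≤ P) {β : MulAut P} (hβ : β ∈ D.autGroup P) (hord : ¬ p ∣ orderOf β)
    (hfix : ∀ x : P, (x : Ω) ∈ T → β x = x) :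
    ∃ B ∈ F.Hom (P ⊔ T), (∀ x : P, B (Subgroup.inclusion le_sup_left x) = ((β x : P) : Ω)) ∧
      ∀ t : T, (t : Ω)⁻¹ * B (Subgroup.inclusion le_sup_right t) ∈ U ⊓ T := by
  have hF := hD.1.2.1
  have hscU := hD.1.2.2.2.1
  haveI := finite_sub hscU.1
  suffices key : ∀ (m : ℕ) (P : Subgroup Ω), Nat.card U - Nat.card P = m → P ≤ U → U ⊓ T ≤ P →
      ∀ β ∈ D.autGroup P, ¬ p ∣ orderOf β → (∀ x : P, (x : Ω) ∈ T → β x = x) →
      ∃ B ∈ F.Hom (P ⊔ T), (∀ x : P, B (Subgroup.inclusion le_sup_left x) = ((β x : P) : Ω)) ∧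
        ∀ t : T, (t : Ω)⁻¹ * B (Subgroup.inclusion le_sup_right t) ∈ U ⊓ T from
    key _ P rfl hPU hAP β hβ hord hfix
  intro m
  induction m using Nat.strong_induction_on with
  | _ m ih =>
  intro P hm hPU hAP β hβ hord hfix
  have hPS := hPU.trans hscU.1
  haveI := finite_sub hPS
  haveI := finite_sub hscT.1
  obtain ⟨P₂, hPP₂, hP₂⟩ := exists_isFullyNormalized F hPS
  haveI := finite_sub hP₂.1
  obtain ⟨η, hη, -, hηP⟩ := exists_normalizer_map hS hF hP₂ hPP₂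
  have hTN := le_normalizer_meet hscU hscT hPU hAP
  obtain ⟨θ, hθ, hθe⟩ := exists_restrict hη (sup_le (le_normalizerIn hPS) hTN : P ⊔ T ≤ normalizerIn S P)
  obtain ⟨φ, hφ, hφe⟩ := exists_restrict hθ (le_sup_left : P ≤ P ⊔ T)
  obtain ⟨θT, hθT, hθTe⟩ := exists_restrict hθ (le_sup_right : T ≤ P ⊔ T)
  have hθTr : θT.range = T :=
    range_eq_of_mem hθT (fun t => stronglyClosed_apply_mem hscT hθT t.2) le_rfl
  have hφm : ∀ x, φ x ∈ P₂ := fun x => by
    rw [hφe, hθe, ← hηP]; exact ⟨_, Subgroup.mem_subgroupOf.2 x.2, rfl⟩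
  have hφr : φ.range = P₂ := range_eq_of_mem hφ hφm (isConj_card hPP₂).le
  have hθr : θ.range = P₂ ⊔ T := by
    refine le_antisymm ?_ (sup_le ?_ ?_)
    · rintro _ ⟨w, rfl⟩
      exact mapsTo_of_sup (R := P₂ ⊔ T)
        (fun x => by
          rw [show θ (Subgroup.inclusion le_sup_left x) = φ x from (hφe x).symm]
          exact (le_sup_left : P₂ ≤ P₂ ⊔ T) (hφm x))
        (fun t => (le_sup_right : T ≤ P₂ ⊔ T) (stronglyClosed_apply_mem hscT hθ t.2)) w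
    · rw [← hφr]; rintro _ ⟨x, rfl⟩; exact ⟨_, (hφe x).symm⟩
    · intro t ht
      obtain ⟨s, rfl⟩ := hθTr.ge ht
      exact ⟨_, (hθTe s).symm⟩
  obtain ⟨θi, hθi, hθir, hθil, hθir'⟩ := exists_inv hθ hθr
  have hP₂U : P₂ ≤ U := by
    rw [← hφr]; rintro _ ⟨x, rfl⟩; exact stronglyClosed_apply_mem hscU hφ (hPU x.2)
  have hAP₂ : U ⊓ T ≤ P₂ := by
    intro a ha
    have haX : a ∈ P₂ ⊔ T := (le_sup_right : T ≤ P₂ ⊔ T) ha.2
    have hb : θi ⟨a, haX⟩ ∈ U ⊓ T :=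
      ⟨stronglyClosed_apply_mem hscU hθi ha.1, stronglyClosed_apply_mem hscT hθi ha.2⟩
    have h1 : φ ⟨θi ⟨a, haX⟩, hAP hb⟩ = a :=
      (hφe _).trans (hθir' ⟨a, haX⟩ ((le_sup_left : P ≤ P ⊔ T) (hAP hb)))
    rw [← hφr]
    exact ⟨_, h1⟩
  obtain ⟨γ, hγdef⟩ : ∃ γ : MulAut P₂, γ = MulAut.congr (homEquiv hφ hφr) β := ⟨_, rfl⟩
  have hγe : ∀ x : P, ((γ (homEquiv hφ hφr x) : P₂) : Ω) = φ (β x) := fun x => by
    rw [hγdef, congr_apply_map]
  have hγ : γ ∈ D.autGroup P₂ := by rw [hγdef]; exact autE_congr hD hPU hφ hφr hβ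
  have hord₂ : ¬ p ∣ orderOf γ := by rwa [hγdef, MulEquiv.orderOf_eq]
  have hfix₂ : ∀ y : P₂, (y : Ω) ∈ T → γ y = y := fun y hy => by
    obtain ⟨x, rfl⟩ := (homEquiv hφ hφr).surjective y
    refine Subtype.ext ?_
    rw [hγe, homEquiv_coe]
    refine congrArg φ (hfix x ?_)
    have h1 := stronglyClosed_apply_mem hscT hθi
      (x := ⟨φ x, (le_sup_left : P₂ ≤ P₂ ⊔ T) (hφm x)⟩) hy
    rw [show (⟨φ x, (le_sup_left : P₂ ≤ P₂ ⊔ T) (hφm x)⟩ : ↥(P₂ ⊔ T)) =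
      ⟨θ (Subgroup.inclusion le_sup_left x), hθr.le ⟨_, rfl⟩⟩ from Subtype.ext (hφe x), hθil] at h1
    exact h1
  have hcard : Nat.card P₂ = Nat.card P := isConj_card hPP₂
  obtain ⟨B, hB, hBβ, hBt⟩ : ∃ B ∈ F.Hom (P₂ ⊔ T),
      (∀ y : P₂, B (Subgroup.inclusion le_sup_left y) = ((γ y : P₂) : Ω)) ∧
      ∀ t : T, (t : Ω)⁻¹ * B (Subgroup.inclusion le_sup_right t) ∈ U ⊓ T := by
    by_cases hCU : centralizerIn U P₂ ≤ P₂
    · exact move_fn hS hD hscT hP₂U hAP₂ hP₂ hCU hγ hord₂ hfix₂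
    set P₁ := P₂ ⊔ centralizerIn U P₂ with hP₁
    have hP₁U : P₁ ≤ U := hull_le hP₂U
    haveI := finite_sub (hP₁U.trans hscU.1)
    obtain ⟨ψ, hψ, hψr, hψe⟩ := exists_hom_of_aut hP₂U hγ
    obtain ⟨ξ, hξ, hξ1, hξ2⟩ := exists_hull_map (F := D)
      (receptiveE hS hD hP₂U (fullyNormalized_props hS hF hP₂).1) hψ hψr
    obtain ⟨a, ha, hae⟩ := exists_aut hξ (mapsTo_of_sup
      (fun x => by rw [hξ1, hψe]; exact (le_sup_left : P₂ ≤ P₁) (γ x).2)
      (fun c => (le_sup_right : _ ≤ P₁) (hξ2 c)))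
    have har : Restr le_sup_left a γ := fun x => (hae _).trans ((hξ1 x).trans (hψe x))
    obtain ⟨k, hk, hkord⟩ := exists_pow_prime_to (x := a) hord₂
    have hakr : Restr le_sup_left (a ^ k) γ := hk ▸ har.pow k
    have hle₁ : centralizerIn U P₂ ≤ P₁ := le_sup_right
    have hlt : P₂ < P₁ := lt_of_le_of_ne le_sup_left fun he => hCU (hle₁.trans he.ge)
    have hc1 : Nat.card P₂ < Nat.card P₁ :=
      lt_of_not_ge fun hle => hlt.ne (Subgroup.eq_of_le_of_card_ge hlt.le hle)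
    have hc2 : Nat.card P₁ ≤ Nat.card U := Subgroup.card_le_of_le hP₁U
    obtain ⟨B, hB, hB1, hBt⟩ := ih _ (by omega) P₁ rfl hP₁U (hAP₂.trans le_sup_left) (a ^ k) (pow_mem ha k)
      hkord fun x hx => by
        have hxP : (x : Ω) ∈ P₂ := hAP₂ ⟨hP₁U x.2, hx⟩
        exact Subtype.ext ((restr_apply hakr hxP).trans (congrArg Subtype.val (hfix₂ ⟨x, hxP⟩ hx)))
    obtain ⟨B', hB', hB'e⟩ := exists_restrict hB (sup_le_sup_right (le_sup_left : P₂ ≤ P₁) T)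
    exact ⟨B', hB', fun x => by rw [hB'e]; exact (hB1 (Subgroup.inclusion le_sup_left x)).trans (hakr x),
      fun t => by rw [hB'e]; exact hBt t⟩
  -- carry back
  have hθm : ∀ w, θ w ∈ P₂ ⊔ T := fun w => hθr.le ⟨w, rfl⟩
  obtain ⟨B₁, hB₁, hB₁e⟩ := exists_comp hθ hB hθm
  have hBm : ∀ w, B w ∈ P₂ ⊔ T := mapsTo_of_sup
    (fun y => by rw [hBβ]; exact (le_sup_left : P₂ ≤ P₂ ⊔ T) (SetLike.coe_mem _))
    (fun t => (le_sup_right : T ≤ P₂ ⊔ T) (stronglyClosed_apply_mem hscT hB t.2))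
  obtain ⟨B₂, hB₂, hB₂e⟩ := exists_comp hB₁ hθi fun w => by rw [hB₁e]; exact hBm _
  refine ⟨B₂, hB₂, fun x => ?_, fun t => ?_⟩
  · have h1 : B₁ (Subgroup.inclusion le_sup_left x) = θ (Subgroup.inclusion le_sup_left (β x)) := by
      rw [hB₁e, show (⟨θ (Subgroup.inclusion le_sup_left x), hθm _⟩ : ↥(P₂ ⊔ T)) =
        Subgroup.inclusion le_sup_left (homEquiv hφ hφr x) from Subtype.ext (hφe x).symm, hBβ,
        hγe, hφe]
      rfl
    rw [hB₂e]
    exact (congrArg θi (Subtype.ext h1 : (⟨B₁ (Subgroup.inclusion le_sup_left x), _⟩ : ↥(P₂ ⊔ T)) =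
      ⟨θ (Subgroup.inclusion le_sup_left (β x)), hθm _⟩)).trans (hθil _ (hθm _))
  · set s : ↥(P ⊔ T) := Subgroup.inclusion le_sup_right t with hs
    have hθs : θ s ∈ T := stronglyClosed_apply_mem hscT hθ t.2
    have ha := hBt ⟨θ s, hθs⟩
    set a : Ω := (θ s)⁻¹ * B (Subgroup.inclusion le_sup_right ⟨θ s, hθs⟩) with hadef
    have haX : a ∈ P₂ ⊔ T := (le_sup_right : T ≤ P₂ ⊔ T) ha.2
    have hval : (⟨B₁ s, by rw [hB₁e]; exact hBm _⟩ : ↥(P₂ ⊔ T)) = ⟨θ s, hθm s⟩ * ⟨a, haX⟩ := by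
      refine Subtype.ext ?_
      show B₁ s = θ s * a
      rw [hB₁e, hadef, mul_inv_cancel_left]
      rfl
    rw [hB₂e, hval, map_mul, hθil]
    show (t : Ω)⁻¹ * ((t : Ω) * θi ⟨a, haX⟩) ∈ U ⊓ T
    rw [inv_mul_cancel_left]
    exact ⟨stronglyClosed_apply_mem hscU hθi ha.1, stronglyClosed_apply_mem hscT hθi ha.2⟩

/-- The two halves of centralising `T` when `D` fixes `U ∩ T`. -/
theorem centralizes_parts (hS : IsPGroup p S) (hD : D.IsNormalIn F p) (hscT : F.StronglyClosed T)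
    (hCs : C.IsSaturated p) (hCD : C.IsSubsystemOf D)
    (hfix : ∀ (P : Subgroup Ω) (φ : P →* Ω), φ ∈ D.Hom P → ∀ x : P, (x : Ω) ∈ T → φ x = x) :
    (C.hyperfocalSubgroup p = R → R ≤ centralizerIn S T) ∧ (R ≤ centralizerIn S T →
      ∀ (P : Subgroup Ω) (φ : P →* Ω), φ ∈ C.Hom P → φ ∈ F.Hom P ∧ Fixes F T P φ) := by
  have hF := hD.1.2.1
  have hscU := hD.1.2.2.2.1
  have hUS := hscU.1
  haveI := finite_sub hUS
  haveI := finite_sub hscT.1
  have hRU : R ≤ U := src_le (hCD R (subtype_mem C le_rfl))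
  have hRS := hRU.trans hUS
  haveI := finite_sub hRS
  have hAc : ∀ u ∈ U, ∀ a ∈ U ⊓ T, u * a = a * u := fun u hu a ha => by
    have h1 : u * a * u⁻¹ = a := hfix _ _ (D.conj_mem le_rfl hu) ⟨a, ha.1⟩ ha.2
    exact mul_inv_eq_iff_eq_mul.1 h1
  haveI : IsMulCommutative ↥(U ⊓ T) := ⟨⟨fun a b => Subtype.ext (hAc a a.2.1 b b.2)⟩⟩
  have hAsc : D.StronglyClosed (U ⊓ T) := ⟨inf_le_left, fun X hX φ hφ x => by
    rw [hfix X φ hφ x (hX x.2).2]; exact hX x.2⟩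
  have hAn : D.IsNormal (U ⊓ T) := isNormal_of_abelian (isPGroup_of_le hS hUS) hD.1.1 hAsc
  -- extensions moving `T`
  have key : ∀ (P : Subgroup Ω), P ≤ R → ∀ b ∈ C.autGroup P, ¬ p ∣ orderOf b → ∃ B ∈ F.Hom (P ⊔ T),
      (∀ x : P, B (Subgroup.inclusion le_sup_left x) = ((b x : P) : Ω)) ∧
      (∀ t : T, (t : Ω)⁻¹ * B (Subgroup.inclusion le_sup_right t) ∈ U ⊓ T) ∧
      ∀ t : T, (t : Ω) ∈ U → B (Subgroup.inclusion le_sup_right t) = t := by
    intro P hPR b hb hord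
    have hPU : P ≤ U := hPR.trans hRU
    haveI := finite_sub (hPR.trans hRS)
    obtain ⟨φ, hφ, -, hφe⟩ := exists_hom_of_aut hPR hb
    obtain ⟨ψ, hψ, hψ1, -⟩ := hAn.2 P φ (hCD P hφ)
    have hP₁U : P ⊔ U ⊓ T ≤ U := sup_le hPU inf_le_left
    haveI := finite_sub (hP₁U.trans hUS)
    obtain ⟨a, ha, hae⟩ := exists_aut hψ (mapsTo_of_sup
      (fun x => by rw [hψ1, hφe]; exact (le_sup_left : P ≤ P ⊔ U ⊓ T) (b x).2)
      (fun y => by rw [hfix _ _ hψ _ y.2.2]; exact (le_sup_right : U ⊓ T ≤ P ⊔ U ⊓ T) y.2))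
    have har : Restr le_sup_left a b := fun x => (hae _).trans ((hψ1 x).trans (hφe x))
    obtain ⟨n, hn, hnord⟩ := exists_pow_prime_to (x := a) hord
    have hanr : Restr le_sup_left (a ^ n) b := hn ▸ har.pow n
    have hafix : ∀ x : ↥(P ⊔ U ⊓ T), (x : Ω) ∈ T → (a ^ n) x = x := fun x hx => by
      obtain ⟨χ, hχ, -, hχe⟩ := exists_hom_of_aut hP₁U (pow_mem ha n)
      exact Subtype.ext ((hχe x).symm.trans (hfix _ _ hχ x hx))
    obtain ⟨B, hB, hB1, hBt⟩ := exists_move hS hD hscT hP₁U le_sup_right (pow_mem ha n) hnord hafix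
    obtain ⟨B', hB', hB'e⟩ := exists_restrict hB (sup_le_sup_right (le_sup_left : P ≤ P ⊔ U ⊓ T) T)
    refine ⟨B', hB', fun x => by rw [hB'e]; exact (hB1 (Subgroup.inclusion le_sup_left x)).trans (hanr x),
      fun t => by rw [hB'e]; exact hBt t, fun t htU => ?_⟩
    rw [hB'e]
    have h1 := hB1 ⟨t, (le_sup_right : U ⊓ T ≤ P ⊔ U ⊓ T) ⟨htU, t.2⟩⟩
    rw [hafix _ t.2] at h1
    exact h1
  -- `R` centralises `T`
  refine ⟨fun hperf => ?_, fun hRT => ?_⟩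
  · intro r hr
    refine mem_centralizerIn.2 ⟨hRS hr, fun t ht => ?_⟩
    let χ : R →* Ω :=
      { toFun := fun y => t * y * t⁻¹ * (y : Ω)⁻¹
        map_one' := by simp
        map_mul' := fun y u => by
          set z := t * (u : Ω) * t⁻¹ * (u : Ω)⁻¹ with hz
          have hzc : (y : Ω) * z = z * y :=
            hAc y (hRU y.2) z (normalizes_of_meet hscU hscT hRU ht u.2)
          calc t * (y * u : Ω) * t⁻¹ * (y * u : Ω)⁻¹
              = t * y * t⁻¹ * (z * (y : Ω)⁻¹) := by rw [hz]; group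
            _ = t * y * t⁻¹ * ((y : Ω)⁻¹ * z) := by
                congr 1
                calc z * (y : Ω)⁻¹ = (y : Ω)⁻¹ * ((y : Ω) * z) * (y : Ω)⁻¹ := by group
                  _ = (y : Ω)⁻¹ * (z * y) * (y : Ω)⁻¹ := by rw [hzc]
                  _ = (y : Ω)⁻¹ * z := by group
            _ = t * y * t⁻¹ * (y : Ω)⁻¹ * (t * u * t⁻¹ * (u : Ω)⁻¹) := by rw [hz]; group }
    have hall : R ≤ χ.ker.map R.subtype := by
      conv_lhs => rw [← hperf]
      refine (Subgroup.closure_le _).2 ?_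
      rintro _ ⟨P, α, y, hPR, hα, rfl⟩
      let K : Subgroup (MulAut P) :=
        { carrier := {b | ∀ x : P, χ ⟨(b x : P), hPR (b x).2⟩ = χ ⟨x, hPR x.2⟩}
          one_mem' := fun x => rfl
          mul_mem' := fun {b c} hb hc x => (hb (c x)).trans (hc x)
          inv_mem' := fun {b} hb x => by
            have h1 := hb (b⁻¹ x)
            simp only [MulAut.apply_inv_self] at h1
            exact h1.symm }
      have hαK : (α : MulAut P) ∈ K := by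
        refine ((Transfer.PResidual.pResidual_le_iff.2 fun b hb => ?_) hα : α ∈ K.subgroupOf (C.autGroup P))
        rw [Subgroup.mem_subgroupOf]
        intro x
        obtain ⟨B, hB, hB1, hB2, hB3⟩ := key P hPR (b : MulAut P) b.2 (by
          rw [Subgroup.orderOf_coe]
          exact (hp.out.coprime_iff_not_dvd).1 hb.symm)
        set tX : ↥(P ⊔ T) := Subgroup.inclusion le_sup_right ⟨t, ht⟩ with htX
        set xX : ↥(P ⊔ T) := Subgroup.inclusion le_sup_left x with hxX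
        have hz : t * (x : Ω) * t⁻¹ * (x : Ω)⁻¹ ∈ U ⊓ T := normalizes_of_meet hscU hscT hRU ht (hPR x.2)
        have h1 : B (tX * xX * tX⁻¹ * xX⁻¹) = t * (x : Ω) * t⁻¹ * (x : Ω)⁻¹ := by
          rw [show tX * xX * tX⁻¹ * xX⁻¹ = Subgroup.inclusion le_sup_right ⟨_, hz.2⟩ from Subtype.ext rfl]
          exact hB3 _ hz.1
        rw [map_mul, map_mul, map_mul, map_inv, map_inv] at h1
        set e := t⁻¹ * B tX with he
        have heA : e ∈ U ⊓ T := hB2 ⟨t, ht⟩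
        have hBt : B tX = t * e := (mul_inv_cancel_left _ _).symm
        rw [hBt, hB1 x] at h1
        show t * (((b : MulAut P) x : P) : Ω) * t⁻¹ * (((b : MulAut P) x : P) : Ω)⁻¹ =
          t * (x : Ω) * t⁻¹ * (x : Ω)⁻¹
        rw [← h1]
        have hc := hAc _ (hRU (hPR ((b : MulAut P) x).2)) e heA
        calc t * (((b : MulAut P) x : P) : Ω) * t⁻¹ * (((b : MulAut P) x : P) : Ω)⁻¹
            = t * ((((b : MulAut P) x : P) : Ω) * e) * e⁻¹ * t⁻¹ * (((b : MulAut P) x : P) : Ω)⁻¹ := by group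
          _ = t * (e * (((b : MulAut P) x : P) : Ω)) * e⁻¹ * t⁻¹ * (((b : MulAut P) x : P) : Ω)⁻¹ := by rw [hc]
          _ = _ := by group
      refine ⟨(⟨y, hPR y.2⟩ : R)⁻¹ * ⟨((α : MulAut P) y : P), hPR ((α : MulAut P) y).2⟩, ?_, rfl⟩
      show χ _ = 1
      rw [map_mul, map_inv, hαK y, inv_mul_cancel]
    obtain ⟨y, hy, rfl⟩ := hall hr
    have h1 : t * (y : Ω) * t⁻¹ * (y : Ω)⁻¹ = 1 := hy
    rw [mul_inv_eq_one, mul_inv_eq_iff_eq_mul] at h1
    exact h1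
  intro P φ hφ
  refine ⟨hD.1.2.2.1 P (hCD P hφ), ?_⟩
  revert φ
  revert P
  refine FusionP3.Induction.hom_induction (isPGroup_of_le hS hRS) hCs ?_ ?_ ?_
  · exact fun P X φ ψ χ _ _ h he h1 h2 => Fixes.comp h he h1 h2
  · exact fun P X φ ψ h _ he h2 => Fixes.restrict h he h2
  intro P hPn _ _ a ha _
  have hPR : P ≤ R := hPn.1
  have hPS := hPR.trans hRS
  haveI := finite_sub hPS
  have hPT : P ⊔ T ≤ S := sup_le hPS hscT.1
  haveI := finite_sub hPT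
  have hinner : ∀ b ∈ autInducedBy R P, Fixes F T P (P.subtype.comp b.toMonoidHom) := by
    intro b hb
    obtain ⟨g, hg, he⟩ := mem_autInducedBy.1 hb
    refine ⟨conjHom _ g, F.conj_mem hPT (hRS hg), fun x => (he x).symm, fun q => ?_⟩
    show g * (q : Ω) * g⁻¹ = q
    rw [← (mem_centralizerIn.1 (hRT hg)).2 q q.2, mul_inv_cancel_right]
  let G : Subgroup (MulAut P) :=
    { carrier := {b | Fixes F T P (P.subtype.comp b.toMonoidHom)}
      one_mem' := hinner 1 (one_mem _)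
      mul_mem' := fun {b c} hb hc => Fixes.comp (fun x => (c x).2) (fun x => rfl) hc hb
      inv_mem' := fun {b} hb => by
        have hpow : ∀ i : ℕ, Fixes F T P (P.subtype.comp (b ^ i).toMonoidHom) := by
          intro i
          induction i with
          | zero => rw [pow_zero]; exact hinner 1 (one_mem _)
          | succ i ih =>
            rw [pow_succ]
            exact Fixes.comp (fun x => (b x).2) (fun x => rfl) hb ih
        show Fixes F T P _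
        rw [show b⁻¹ = b ^ (orderOf b - 1) by
          rw [inv_eq_iff_mul_eq_one, ← pow_succ', Nat.sub_add_cancel (orderOf_pos b), pow_orderOf_eq_one]]
        exact hpow _ }
  obtain ⟨Sy, hSy⟩ := (fullyAutomized_of_fullyNormalized (isPGroup_of_le hS hRS) hCs hPn).2
  refine ((?_ : _ ⊔ _ ≤ G.subgroupOf (C.autGroup P))
    ((closure_prime_to_sup_sylow Sy).ge (Subgroup.mem_top (⟨a, ha⟩ : C.autGroup P))) :)
  refine sup_le ((Subgroup.closure_le _).2 fun b hb => ?_) fun b hb => ?_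
  swap
  · rw [hSy, Subgroup.mem_subgroupOf] at hb
    exact hinner _ hb
  · have hb' : ¬ p ∣ orderOf ((b : C.autGroup P) : MulAut P) := by rwa [Subgroup.orderOf_coe]
    obtain ⟨B, hB, hB1, hB2, hB3⟩ := key P hPR (b : MulAut P) b.2 hb'
    obtain ⟨B₀, hB₀, hB₀e⟩ := exists_aut hB (mapsTo_of_sup
      (fun x => by rw [hB1]; exact (le_sup_left : P ≤ P ⊔ T) ((b : MulAut P) x).2)
      (fun t => (le_sup_right : T ≤ P ⊔ T) (stronglyClosed_apply_mem hscT hB t.2)))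
    have hB₀b : Restr le_sup_left B₀ (b : MulAut P) := fun x => (hB₀e _).trans (hB1 x)
    obtain ⟨n, hn, hBn⟩ := exists_pow_prime_to (x := B₀) hb'
    obtain ⟨σ, hσ, -, hσe⟩ := exists_hom_of_aut hPT (pow_mem hB₀ n)
    refine ⟨σ, hσ, fun x => ?_, fun t => ?_⟩
    · rw [hσe]
      have h := (hB₀b.pow n) x
      rw [hn] at h
      exact h
    · set tX : ↥(P ⊔ T) := Subgroup.inclusion le_sup_right t with htX
      set zT : T := ⟨(t : Ω)⁻¹ * B tX, (hB2 t).2⟩ with hzT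
      set z : ↥(P ⊔ T) := Subgroup.inclusion le_sup_right zT with hz
      have h0 : B₀ z = z := Subtype.ext ((hB₀e _).trans (hB3 zT (hB2 t).1))
      have h1 : B₀ tX = tX * z := Subtype.ext ((hB₀e _).trans (mul_inv_cancel_left _ _).symm)
      have hpow : ∀ i : ℕ, (B₀ ^ i) tX = tX * z ^ i := by
        intro i
        induction i with
        | zero => simp
        | succ i ih => rw [pow_succ', MulAut.mul_apply, ih, map_mul, map_pow, h0, h1, mul_assoc, ← pow_succ']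
      have h2 := hpow (n * orderOf (B₀ ^ n))
      rw [pow_mul B₀, pow_orderOf_eq_one, MulAut.one_apply, pow_mul] at h2
      have h3 : (z ^ n) ^ orderOf (B₀ ^ n) = 1 := mul_eq_left.1 h2.symm
      obtain ⟨e, he⟩ := (isPGroup_of_le hS hPT) z
      have h4 := mem_zpowers_pow (show (z ^ n) ^ p ^ e = 1 by rw [← pow_mul, mul_comm, pow_mul, he, one_pow]) hBn
      rw [h3, Subgroup.zpowers_one_eq_bot, Subgroup.mem_bot] at h4
      rw [hσe, hpow n, h4, mul_one]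
      rfl

/-- A perfect saturated subsystem of `D` centralises `T` when `D` fixes `U ∩ T`. -/
theorem centralizes_of_fixed (hS : IsPGroup p S) (hD : D.IsNormalIn F p) (hscT : F.StronglyClosed T)
    (hCs : C.IsSaturated p) (hperf : C.hyperfocalSubgroup p = R) (hCD : C.IsSubsystemOf D)
    (hfix : ∀ (P : Subgroup Ω) (φ : P →* Ω), φ ∈ D.Hom P → ∀ x : P, (x : Ω) ∈ T → φ x = x) :
    R ≤ centralizerIn S T ∧
      ∀ (P : Subgroup Ω) (φ : P →* Ω), φ ∈ C.Hom P → φ ∈ F.Hom P ∧ Fixes F T P φ :=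
  have h := centralizes_parts hS hD hscT hCs hCD hfix
  ⟨h.1 hperf, h.2 (h.1 hperf)⟩

/-- A normal subsystem over a subgroup centralising `T` and fixing the intersection fixes `T`. -/
theorem fixes_of_fixed (hS : IsPGroup p S) (hD : D.IsNormalIn F p) (hscT : F.StronglyClosed T)
    (hcomm : U ≤ centralizerIn S T)
    (hfix : ∀ (P : Subgroup Ω) (φ : P →* Ω), φ ∈ D.Hom P → ∀ x : P, (x : Ω) ∈ T → φ x = x)
    {P : Subgroup Ω} {φ : P →* Ω} (hφ : φ ∈ D.Hom P) : Fixes F T P φ :=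
  ((centralizes_parts hS hD hscT hD.1.1 (fun _ _ h => h) hfix).2 hcomm P φ hφ).2

end Cfsg.Agent.Lib.FS.Inter
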