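import Cfsg.Agent.Lib.FusionSystem.Inter.Basic
import Cfsg.Agent.Lib.FusionSystem.FactorSaturated
import Cfsg.Agent.Lib.FusionAlperin.Join
import Cfsg.Agent.Lib.FusionEssential.TransportComponents
import Cfsg.Agent.Lib.FusionP3.Prime.Normality
import Cfsg.Agent.Lib.FusionP3.Prime.Saturated

/-!
A normal subsystem of a quasisimple system is central or everything.
-/

set_option autoImplicit false
set_option linter.style.haveILetI false
set_option linter.unusedSectionVars false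

namespace Cfsg.Agent.Lib.FS.Inter

open Cfsg Cfsg.FusionSystem Cfsg.Agent.Lib Cfsg.Agent.Lib.FS Cfsg.Agent.Lib.FS.NormalCentralizer

variable {Ω : Type*} [Group Ω] {S T : Subgroup Ω} [Finite S] {p : ℕ} [hp : Fact p.Prime]
  {F : FusionSystem S} {E : FusionSystem T} {Ω' : Type*} [Group Ω']

omit [Finite S] hp in
theorem imageAlong_restrict {θ : S →* Ω'} (hT : T ≤ S) {P : Subgroup Ω} (hP : P ≤ T) :
    imageAlong (θ.comp (Subgroup.inclusion hT)) P = imageAlong θ P := by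
  ext z
  constructor
  · rintro ⟨s, hs, rfl⟩
    exact ⟨Subgroup.inclusion hT s, hs, rfl⟩
  · rintro ⟨s, hs, rfl⟩
    exact ⟨⟨s, hP hs⟩, hs, rfl⟩

/-- The image in a factor system of a weakly normal subsystem is weakly normal. -/
theorem image_weaklyNormal {S' : Subgroup Ω'} {Fb : FusionSystem S'} {S₀ : Subgroup Ω} {θ : S →* Ω'}
    (hS : IsPGroup p S) (hE : E.IsWeaklyNormalIn F p) (hS₀ : F.StronglyClosed S₀)
    (hFb : F.IsFactorSystem S₀ θ Fb) (hFbs : Fb.IsSaturated p) :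
    ∃ (E' : FusionSystem (imageAlong θ T)), E'.IsWeaklyNormalIn Fb p ∧
      E.IsFactorSystem (T ⊓ S₀) (θ.comp (Subgroup.inclusion hE.2.2.2.1.1)) E' := by
  obtain ⟨hEs, hF, hsub, hscT, hinv, hfrat⟩ := hE
  have hTS : T ≤ S := hscT.1
  haveI := finite_sub hTS
  have hr := hFb.2.2.1
  haveI : Finite S' := finite_image hr
  have hscK : E.StronglyClosed (T ⊓ S₀) := ⟨inf_le_left, fun R hR φ hφ x =>
    ⟨apply_mem hφ x, stronglyClosed_apply_mem hS₀ (hsub R hφ) (hR x.2).2⟩⟩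
  set θT := θ.comp (Subgroup.inclusion hTS) with hθT
  have hkerT : ∀ t : T, θT t = 1 ↔ (t : Ω) ∈ T ⊓ S₀ := fun t =>
    (hFb.2.1 _).trans ⟨fun h => ⟨t.2, h⟩, fun h => h.2⟩
  have hrT : θT.range = imageAlong θ T := by
    ext z
    constructor
    · rintro ⟨t, rfl⟩; exact ⟨Subgroup.inclusion hTS t, t.2, rfl⟩
    · rintro ⟨s, hs, rfl⟩; exact ⟨⟨s, hs⟩, rfl⟩
  obtain ⟨E', hE'⟩ := exists_factorSystem hscK θT hkerT hrT
  have hKT : E.StronglyClosed (θT.ker.map T.subtype) := by rw [ker_map_eq hscK.1 hkerT]; exact hscK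
  have hmor := (factor_isSurjectiveMorphism hS hF hS₀ hFb).1
  have hT'S' : imageAlong θ T ≤ S' := by rintro _ ⟨s, -, rfl⟩; exact hr.le ⟨s, rfl⟩
  have hsub' : E'.IsSubsystemOf Fb := by
    intro P' φ' hφ'
    obtain ⟨hP', φ, hφ, hind⟩ := (hE'.2.2.2 P' φ').1 hφ'
    have heq : imageAlong θ (preimageAlong θT P') = P' :=
      (imageAlong_restrict hTS (preimageAlong_le θT P')).symm.trans (imageAlong_preimageAlong hrT hP')
    have hindS : InducedAlong θ φ φ' := by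
      obtain ⟨h1, h2, h3, h4⟩ := hind
      exact ⟨h1.trans hTS, fun x => hTS (h2 x), h3, h4⟩
    have key : ∀ Q', Q' = P' → ∀ ψ ∈ Fb.Hom Q', InducedAlong θ φ ψ → φ' ∈ Fb.Hom P' := by
      rintro Q' rfl ψ hψ hindψ
      rwa [inducedAlong_unique hindS hindψ heq.ge]
    obtain ⟨ψ, hψ, hindψ⟩ := hmor.2 _ φ (hsub _ hφ)
    exact key _ heq ψ hψ hindψ
  -- lifting maps between subgroups of the image
  have hlift : ∀ P', P' ≤ imageAlong θ T → ∀ φ' ∈ Fb.Hom P', ∃ φ ∈ F.Hom (preimageAlong θT P'),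
      ∀ (x : preimageAlong θT P') (hx : φ x ∈ S) (hy : θ ⟨x, hTS (preimageAlong_le θT P' x.2)⟩ ∈ P'),
        φ' ⟨_, hy⟩ = θ ⟨φ x, hx⟩ := by
    intro P' hP' φ' hφ'
    obtain ⟨-, φ, hφ, hind⟩ := (hFb.2.2.2 P' φ').1 hφ'
    obtain ⟨φ₁, hφ₁, hφ₁e⟩ := exists_restrict hφ (P := preimageAlong θT P') fun x hx => by
      obtain ⟨hxT, hxP⟩ := mem_preimageAlong.1 hx
      exact mem_preimageAlong.2 ⟨hTS hxT, hxP⟩
    refine ⟨φ₁, hφ₁, fun x hx hy => ?_⟩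
    refine (inducedAlong_apply hind ⟨x, mem_preimageAlong.2 ⟨_, hy⟩⟩ _ hy (apply_mem hφ _)).trans
      (congrArg θ (Subtype.ext (hφ₁e x).symm))
  have hT' : ∀ x, x ∈ imageAlong θ T → ∃ t : T, θT t = x := fun x hx => hrT.ge hx
  have hsc' : Fb.StronglyClosed (imageAlong θ T) := by
    refine ⟨hT'S', fun R' hR' φ' hφ' x => ?_⟩
    obtain ⟨φ, hφ, hφe⟩ := hlift R' hR' φ' hφ'
    obtain ⟨t, ht⟩ := hT' x (hR' x.2)
    have hy : θ ⟨t, hTS t.2⟩ ∈ R' := ht ▸ x.2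
    have hxm : (t : Ω) ∈ preimageAlong θT R' := mem_preimageAlong.2 ⟨t.2, hy⟩
    rw [show x = (⟨θ ⟨t, hTS t.2⟩, hy⟩ : R') from Subtype.ext ht.symm, hφe ⟨t, hxm⟩ (apply_mem hφ _) hy]
    exact ⟨_, stronglyClosed_apply_mem hscT hφ t.2, rfl⟩
  -- automorphisms of the image
  have hautlift : ∀ α' ∈ Fb.autGroup (imageAlong θ T), ∃ α ∈ F.autGroup T,
      ∀ t : T, ((α' ⟨θT t, hrT.le ⟨t, rfl⟩⟩ : imageAlong θ T) : Ω') = θT (α t) := by
    intro α' hα'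
    obtain ⟨a', ha', -, ha'e⟩ := exists_hom_of_aut hT'S' hα'
    obtain ⟨φ, hφ, hφe⟩ := hlift _ le_rfl a' ha'
    have hTle : T ≤ preimageAlong θT (imageAlong θ T) := fun t ht =>
      mem_preimageAlong.2 ⟨ht, hrT.le ⟨_, rfl⟩⟩
    obtain ⟨a, ha, hae⟩ := exists_restrict hφ hTle
    obtain ⟨α, hα, hαe⟩ := exists_aut ha fun t => stronglyClosed_apply_mem hscT ha t.2
    refine ⟨α, hα, fun t => ?_⟩
    rw [← ha'e]
    refine (hφe ⟨t, hTle t.2⟩ (apply_mem hφ _) _).trans ?_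
    exact congrArg θ (Subtype.ext ((hαe t).trans (hae t)).symm)
  have hTp : IsPGroup p T := hS.to_le hTS
  refine ⟨E', ⟨factor_isSaturated hTp hEs hscK hE', hFbs, hsub', hsc', ?_, ?_⟩, hE'⟩
  · intro P' hP' φ' hφ' α' hα'
    obtain ⟨-, φ, hφ, hind⟩ := (hE'.2.2.2 P' φ').1 hφ'
    obtain ⟨α, hα, hαe⟩ := hautlift α' hα'
    obtain ⟨χ, hχ, hχe⟩ := hinv _ (preimageAlong_le θT P') φ hφ α hα
    set Q' := (P'.subgroupOf (imageAlong θ T)).map ((imageAlong θ T).subtype.comp α'.toMonoidHom) with hQ'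
    have hQ'T : Q' ≤ imageAlong θ T := by rintro _ ⟨w, -, rfl⟩; exact (α' w).2
    have hle : preimageAlong θT Q' ≤
        ((preimageAlong θT P').subgroupOf T).map (T.subtype.comp α.toMonoidHom) := by
      intro y hy
      obtain ⟨hyT, w, hw, hwe⟩ := mem_preimageAlong.1 hy
      refine ⟨α⁻¹ ⟨y, hyT⟩, Subgroup.mem_subgroupOf.2 (mem_preimageAlong.2 ⟨SetLike.coe_mem _, ?_⟩),
        congrArg Subtype.val (MulAut.apply_inv_self _ α ⟨y, hyT⟩)⟩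
      have h1 := hαe (α⁻¹ ⟨y, hyT⟩)
      rw [MulAut.apply_inv_self] at h1
      have h2 := α'.injective (a₁ := ⟨θT (α⁻¹ ⟨y, hyT⟩), hrT.le ⟨_, rfl⟩⟩) (a₂ := w)
        (Subtype.ext (h1.trans hwe.symm))
      have h3 : θT (α⁻¹ ⟨y, hyT⟩) = (w : Ω') := congrArg Subtype.val h2
      show θT (α⁻¹ ⟨y, hyT⟩) ∈ P'
      rw [h3]; exact hw
    obtain ⟨χ₁, hχ₁, hχ₁e⟩ := exists_restrict hχ hle
    obtain ⟨χ', hindχ⟩ := exists_induced hKT hrT hQ'T hχ₁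
    refine ⟨χ', (hE'.2.2.2 Q' χ').2 ⟨hQ'T, χ₁, hχ₁, hindχ⟩, fun x hφx hαx => ?_⟩
    obtain ⟨t, ht⟩ := hT' x (hP' x.2)
    have htP : θT t ∈ P' := ht ▸ x.2
    have htm : (t : Ω) ∈ preimageAlong θT P' := mem_preimageAlong.2 ⟨t.2, htP⟩
    have h1 : ((α' ⟨x, hP' x.2⟩ : imageAlong θ T) : Ω') = θT (α t) := by
      rw [← hαe t]
      exact congrArg (fun z => ((α' z : imageAlong θ T) : Ω')) (Subtype.ext ht.symm)
    have h2 : φ' x = θT ⟨φ ⟨t, htm⟩, apply_mem hφ _⟩ := by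
      rw [show x = (⟨θT t, htP⟩ : P') from Subtype.ext ht.symm]
      exact inducedAlong_apply hind ⟨t, htm⟩ t.2 htP (apply_mem hφ _)
    have hym : θT (α t) ∈ Q' := h1 ▸ hαx
    have hαm : ((α t : T) : Ω) ∈ preimageAlong θT Q' := mem_preimageAlong.2 ⟨(α t).2, hym⟩
    calc χ' ⟨((α' ⟨x, hP' x.2⟩ : imageAlong θ T) : Ω'), hαx⟩
        = χ' ⟨θT (α t), hym⟩ := congrArg χ' (Subtype.ext h1)
      _ = θT ⟨χ₁ ⟨(α t : T), hαm⟩, apply_mem hχ₁ _⟩ :=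
          inducedAlong_apply hindχ ⟨(α t : T), hαm⟩ (α t).2 hym (apply_mem hχ₁ _)
      _ = θT (α ⟨φ ⟨t, htm⟩, apply_mem hφ _⟩) :=
          congrArg θT (Subtype.ext ((hχ₁e _).trans (hχe ⟨t, htm⟩ (apply_mem hφ _) (hle hαm))))
      _ = ((α' ⟨φ' x, hφx⟩ : imageAlong θ T) : Ω') := by
          rw [← hαe]
          exact congrArg (fun z => ((α' z : imageAlong θ T) : Ω')) (Subtype.ext h2.symm)
  · intro P' hP' φ' hφ'
    obtain ⟨φ, hφ, hφe⟩ := hlift P' hP' φ' hφ'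
    obtain ⟨α, hα, φ₀, hφ₀, hφ₀e⟩ := hfrat _ (preimageAlong_le θT P') φ hφ
    obtain ⟨a, ha, -, hae⟩ := exists_hom_of_aut hTS hα
    obtain ⟨a', ha', hinda⟩ := hmor.2 T a ha
    obtain ⟨α', hα', hα'e⟩ := exists_aut ha' fun x => stronglyClosed_apply_mem hsc' ha' x.2
    obtain ⟨φ₀', hind₀⟩ := exists_induced hKT hrT hP' hφ₀
    refine ⟨α', hα', φ₀', (hE'.2.2.2 P' φ₀').2 ⟨hP', φ₀, hφ₀, hind₀⟩, fun x hx => ?_⟩
    obtain ⟨t, ht⟩ := hT' x (hP' x.2)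
    have htP : θT t ∈ P' := ht ▸ x.2
    have htm : (t : Ω) ∈ preimageAlong θT P' := mem_preimageAlong.2 ⟨t.2, htP⟩
    obtain rfl : x = (⟨θT t, htP⟩ : P') := Subtype.ext ht.symm
    have h0 : φ₀' ⟨θT t, htP⟩ = θT ⟨φ₀ ⟨t, htm⟩, apply_mem hφ₀ _⟩ :=
      inducedAlong_apply hind₀ ⟨t, htm⟩ t.2 htP (apply_mem hφ₀ _)
    set u : T := ⟨φ₀ ⟨t, htm⟩, apply_mem hφ₀ _⟩ with hu
    have hum : θ ⟨u, hTS u.2⟩ ∈ imageAlong θ T := ⟨_, u.2, rfl⟩
    refine (hφe ⟨t, htm⟩ (apply_mem hφ _) htP).trans ?_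
    rw [hα'e, show (⟨φ₀' ⟨θT t, htP⟩, hx⟩ : imageAlong θ T) = ⟨θ ⟨u, hTS u.2⟩, hum⟩ from Subtype.ext h0,
      inducedAlong_apply hinda u (hTS u.2) hum (apply_mem ha u)]
    exact congrArg θ (Subtype.ext ((hφ₀e ⟨t, htm⟩ (apply_mem hφ₀ _)).trans (hae u).symm))

/-- A normal subsystem of a quasisimple system is over a central subgroup or is the whole system. -/
theorem quasisimple_normal (hS : IsPGroup p S) (hq : F.Quasisimple p) (hE : E.IsNormalIn F p) :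
    T ≤ F.center ∨ (T = S ∧ F.IsSubsystemOf E) := by
  obtain ⟨hF, hhyp, hsim⟩ := hq
  have hc := FusionAlperin.Join.isCentral_center F
  have hsc := FusionEssential.Transport.stronglyClosed_center hS hF
  have hscT := hE.1.2.2.2.1
  have hTS : T ≤ S := hscT.1
  have hsub := hE.1.2.2.1
  haveI := finite_sub hTS
  set θ := QuotientGroup.mk' (F.center.subgroupOf S) with hθ
  obtain ⟨Fb, hFb⟩ := exists_factorSystem (S' := ⊤) hsc θ
    (fun s => (QuotientGroup.eq_one_iff s).trans Subgroup.mem_subgroupOf)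
    (MonoidHom.range_eq_top.2 (QuotientGroup.mk'_surjective _))
  obtain ⟨hFbs, -, hsimple⟩ := hsim Fb hFb
  obtain ⟨E', hE', hE'f⟩ := image_weaklyNormal hS hE.1 hsc hFb hFbs
  haveI : Finite ↥(⊤ : Subgroup (S ⧸ F.center.subgroupOf S)) := finite_image hFb.2.2.1
  haveI := finite_sub (S := (⊤ : Subgroup (S ⧸ F.center.subgroupOf S))) (P := imageAlong θ T) le_top
  have hTbp : IsPGroup p ↥(⊤ : Subgroup (S ⧸ F.center.subgroupOf S)) := isPGroup_image hS hFb.2.2.1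
  obtain ⟨R, hR⟩ := FusionP3.Prime.exists_residual (hTbp.to_le le_top) hE'.1
  have hRF := FusionP3.Prime.Normality.residual_isNormalIn hTbp hE' hR
  have hker : ∀ s : S, θ s = 1 ↔ (s : Ω) ∈ F.center := hFb.2.1
  rcases hsimple _ R hRF with h | ⟨h, hR'⟩
  · left
    intro t ht
    have h1 : θ ⟨t, hTS ht⟩ ∈ imageAlong θ T := ⟨_, Subgroup.mem_subgroupOf.2 ht, rfl⟩
    rw [h, Subgroup.mem_bot] at h1
    exact (hker _).1 h1
  right
  have hdec : ∀ s : S, ∃ t : T, (t : Ω)⁻¹ * s ∈ F.center := by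
    intro s
    obtain ⟨t, ht, hte⟩ := h.ge (Subgroup.mem_top (θ s))
    refine ⟨⟨t, Subgroup.mem_subgroupOf.1 ht⟩, ?_⟩
    have h1 : θ (t⁻¹ * s) = 1 := by rw [map_mul, map_inv, hte, inv_mul_cancel]
    exact (hker _).1 h1
  have hTeq : T = S := by
    refine le_antisymm hTS ?_
    rw [← hhyp]
    refine (Subgroup.closure_le _).2 ?_
    rintro _ ⟨P, α, x, hP, -, rfl⟩
    obtain ⟨φ, hφ, -, hφe⟩ := exists_hom_of_aut hP α.2
    obtain ⟨ψ, hψ, hψ1, hψ2⟩ := hc.2 P φ hφ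
    obtain ⟨t, htz⟩ := hdec ⟨x, hP x.2⟩
    set z : F.center := ⟨(t : Ω)⁻¹ * x, htz⟩ with hz
    have htm : (t : Ω) ∈ P ⊔ F.center := by
      have h1 := (P ⊔ F.center).mul_mem ((le_sup_left : P ≤ _) x.2)
        ((le_sup_right : F.center ≤ P ⊔ F.center) (F.center.inv_mem z.2))
      rwa [hz, mul_inv_rev, inv_inv, mul_inv_cancel_left] at h1
    have hxe : Subgroup.inclusion le_sup_left x =
        (⟨t, htm⟩ : ↥(P ⊔ F.center)) * Subgroup.inclusion le_sup_right z :=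
      Subtype.ext (mul_inv_cancel_left _ _).symm
    show (x : Ω)⁻¹ * (((α : MulAut P) x : P) : Ω) ∈ T
    rw [← hφe, ← hψ1, hxe, map_mul, hψ2]
    have hψt : ψ ⟨t, htm⟩ ∈ T := stronglyClosed_apply_mem hscT hψ t.2
    have hw : (t : Ω)⁻¹ * ψ ⟨t, htm⟩ ∈ T := T.mul_mem (T.inv_mem t.2) hψt
    have hzc := F.center_le_centralizer z.2 _ (hTS hw)
    have hx' : (x : Ω) = t * z := (mul_inv_cancel_left _ _).symm
    rw [hx', show ((t : Ω) * z)⁻¹ * (ψ ⟨t, htm⟩ * z) = (z : Ω)⁻¹ * (((t : Ω)⁻¹ * ψ ⟨t, htm⟩) * z) by group,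
      hzc, inv_mul_cancel_left]
    exact hw
  subst hTeq
  refine ⟨rfl, ?_⟩
  have hfix : ∀ a ∈ F.autGroup T, ∀ w : T, (w : Ω) ∈ F.center → a w = w := by
    intro a ha w hw
    obtain ⟨φ, hφ, -, hφe⟩ := exists_hom_of_aut le_rfl ha
    obtain ⟨ψ, -, hψ1, hψ2⟩ := hc.2 T φ hφ
    refine Subtype.ext ?_
    rw [← hφe, ← hψ1]
    exact hψ2 ⟨w, hw⟩
  set Zs := F.center.subgroupOf T with hZs
  set K := stab T Zs ⊓ F.autGroup T with hK
  have hKS : K ≤ autInducedBy T T := by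
    refine le_autS_of_normal (fullyAutomized_of_fullyNormalized hS hF ⟨le_rfl, fun Q ⟨φ, hφ, hQ⟩ => by
      rw [← hQ, range_eq_of_mem hφ (fun x => apply_mem hφ x) le_rfl]⟩) inf_le_right ?_
      ((isPGroup_stab hS).to_le inf_le_left)
    intro a ha k hk
    refine ⟨⟨fun w hw => ?_, fun y => ?_⟩, mul_mem (mul_mem ha hk.2) ((F.autGroup T).inv_mem ha)⟩
    · exact hfix _ (mul_mem (mul_mem ha hk.2) ((F.autGroup T).inv_mem ha)) w hw
    · have h1 := hk.1.2 (a⁻¹ y)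
      show y⁻¹ * a (k (a⁻¹ y)) ∈ Zs
      have h2 : a ((a⁻¹ y)⁻¹ * k (a⁻¹ y)) = y⁻¹ * a (k (a⁻¹ y)) := by
        rw [map_mul, map_inv, MulAut.apply_inv_self]
      rw [← h2, hfix a ha _ (Subgroup.mem_subgroupOf.1 h1)]
      exact h1
  have haut : F.autGroup T ≤ E.autGroup T := by
    intro a ha
    obtain ⟨φ, hφ, -, hφe⟩ := exists_hom_of_aut le_rfl ha
    obtain ⟨φ'', hφ'', hind⟩ := (factor_isSurjectiveMorphism hS hF hsc hFb).1.2 T φ hφ
    rw [← hR'] at hφ''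
    obtain ⟨-, e, he, hinde⟩ := (hE'f.2.2.2 _ φ'').1 (hR.2.1.1 _ hφ'')
    have hTle : T ≤ preimageAlong (θ.comp (Subgroup.inclusion hE.1.2.2.2.1.1)) (imageAlong θ T) :=
      fun t ht => mem_preimageAlong.2 ⟨ht, ⟨⟨t, ht⟩, ht, rfl⟩⟩
    obtain ⟨e', he', he'e⟩ := exists_restrict he hTle
    obtain ⟨ε, hε, hεe⟩ := exists_aut he' (apply_mem he')
    have hεF : ε ∈ F.autGroup T := autE_le_autF hsub le_rfl hε
    have hγ : ε⁻¹ * a ∈ K := by
      refine ⟨⟨fun w hw => hfix _ (mul_mem ((F.autGroup T).inv_mem hεF) ha) w hw, fun s => ?_⟩,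
        mul_mem ((F.autGroup T).inv_mem hεF) ha⟩
      have h1 : θ (ε s) = θ (a s) := by
        have hm : θ ⟨s, s.2⟩ ∈ imageAlong θ T := ⟨_, s.2, rfl⟩
        have h2 := inducedAlong_apply hind s s.2 hm (apply_mem hφ s)
        have h3 := inducedAlong_apply hinde ⟨s, hTle s.2⟩ s.2 hm (apply_mem he _)
        refine ((congrArg θ (Subtype.ext ((hεe s).trans (he'e s)))).trans h3.symm).trans (h2.trans ?_)
        exact congrArg θ (Subtype.ext (hφe s))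
      have h4 : (ε s)⁻¹ * a s ∈ Zs := by
        refine Subgroup.mem_subgroupOf.2 ((hker _).1 ?_)
        rw [map_mul, map_inv, h1, inv_mul_cancel]
      have h5 : ε⁻¹ ((ε s)⁻¹ * a s) = s⁻¹ * (ε⁻¹ * a) s := by
        rw [map_mul, map_inv, MulAut.inv_apply_self, MulAut.mul_apply]
      rw [← h5, hfix _ ((F.autGroup T).inv_mem hεF) _ (Subgroup.mem_subgroupOf.1 h4)]
      exact h4
    rw [show a = ε * (ε⁻¹ * a) by group]
    exact mul_mem hε (autInducedBy_le_autGroup E le_rfl (hKS hγ))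
  intro P φ hφ
  obtain ⟨α, hα, φ₀, hφ₀, hφ₀e⟩ := hE.1.2.2.2.2.2 P (src_le hφ) φ hφ
  obtain ⟨τ, hτ, -, hτe⟩ := exists_hom_of_aut le_rfl (haut hα)
  obtain ⟨χ, hχ, hχe⟩ := exists_comp hφ₀ hτ fun x => apply_mem hφ₀ x
  exact hom_congr hχ fun x => (hφ₀e x (apply_mem hφ₀ x)).trans ((hτe _).symm.trans (hχe x).symm)

end Cfsg.Agent.Lib.FS.Inter
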