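import Cfsg.Agent.Lib.FusionSystem.Inter.Exists
import Cfsg.Agent.Lib.FusionSystem.Inter.MoveT
import Cfsg.Agent.Lib.FusionSystem.Inter.Quasi
import Cfsg.Agent.Lib.FusionSystem.CentralizerSubsystem
import Cfsg.Agent.Lib.FusionSystem.PPowerExists
import Cfsg.Agent.Lib.FusionSystem.ComponentCore
import Cfsg.Agent.Lib.FusionSystem.Normalizer
import Cfsg.Agent.S5148

/-!
A component lies in a given normal subsystem or centralises it.
-/

set_option autoImplicit false
set_option linter.style.haveILetI false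
set_option linter.unusedSectionVars false

namespace Cfsg.Agent.Lib.FS.Inter

open Cfsg Cfsg.FusionSystem Cfsg.Agent.Lib Cfsg.Agent.Lib.FS Cfsg.Agent.Lib.FS.NormalCentralizer
open Cfsg.Agent.Lib.FS.CentralizerSubsystem (exists_centralizer')
open Cfsg.Agent.Lib.FS.PPowerKernel (hyperfocal_mono)

variable {Ω : Type*} [Group Ω] {R S : Subgroup Ω} {p : ℕ}

/-- `C` centralises `T` in `F`. -/
def Centralizes (F : FusionSystem S) (T : Subgroup Ω) (C : FusionSystem R) : Prop :=
  R ≤ centralizerIn S T ∧ ∀ (P : Subgroup Ω) (φ : P →* Ω), φ ∈ C.Hom P → φ ∈ F.Hom P ∧ Fixes F T P φ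

theorem subnormal_le {C : FusionSystem R} {F : FusionSystem S} (h : C.IsSubnormalIn F p) :
    C.IsSubsystemOf F := by
  induction h with
  | refl F p => exact fun P φ hφ => hφ
  | step _ hD ih => exact fun P φ hφ => hD.1.2.2.1 P (ih P hφ)

/-- A quasisimple system over a subgroup cannot centralise an overgroup of it. -/
theorem not_centralizes_self [Finite R] [hp : Fact p.Prime] (hR : IsPGroup p R) {C : FusionSystem R}
    (hq : C.Quasisimple p) {T : Subgroup Ω} (hRT : R ≤ T) : ¬ R ≤ centralizerIn S T := fun h =>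
  S5148.result p hR C hq
    ⟨⟨fun a b => Subtype.ext ((mem_centralizerIn.1 (h b.2)).2 a (hRT a.2))⟩⟩

/-- A component lies in each normal subsystem or centralises it. -/
theorem component_dichotomy {C : FusionSystem R} {F : FusionSystem S} (hC : C.IsSubnormalIn F p) :
    ∀ [Finite S] [Fact p.Prime], IsPGroup p S → C.Quasisimple p →
      ∀ (T : Subgroup Ω) (E : FusionSystem T), E.IsNormalIn F p →
        C.IsSubsystemOf E ∨ Centralizes F T C := by
  induction hC with
  | refl F p =>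
    intro _ _ hS hq T E hE
    rcases quasisimple_normal hS hq hE with hT | ⟨-, h⟩
    · refine Or.inr ⟨fun r hr => mem_centralizerIn.2 ⟨hr, fun t ht => ?_⟩, fun P φ hφ => ⟨hφ, ?_⟩⟩
      · exact (F.center_le_centralizer (hT ht) r hr).symm
      · obtain ⟨ψ, hψ, h1, h2⟩ := (FusionAlperin.Join.isCentral_center F).2 P φ hφ
        exact fixes_sub hT ⟨ψ, hψ, h1, h2⟩
    · exact Or.inl h
  | @step U S C D F p hCD hD ih =>
    intro _ _ hS hq T E hE
    have hscU := hD.1.2.2.2.1
    have hscT := hE.1.2.2.2.1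
    have hDsub := hD.1.2.2.1
    haveI := finite_sub hscU.1
    have hUp := isPGroup_of_le hS hscU.1
    have hCsubD := subnormal_le hCD
    have hCsub : C.IsSubsystemOf F := fun P φ hφ => hDsub P (hCsubD P hφ)
    have hRU : R ≤ U := src_le (hCsubD R (subtype_mem C le_rfl))
    have hRS := hRU.trans hscU.1
    haveI := finite_sub hRS
    have hRp := isPGroup_of_le hS hRS
    obtain ⟨W, ⟨hWF, hWD, hWE⟩, -⟩ := exists_inter hS hD hE
    rcases ih hUp hq _ W hWD with h | ⟨hRA, hfixA⟩
    · exact Or.inl fun P φ hφ => hWE.1.2.2.1 P (h P hφ)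
    have hAS : U ⊓ T ≤ S := inf_le_left.trans hscU.1
    have hRC : R ≤ centralizerIn S (U ⊓ T) := fun r hr =>
      mem_centralizerIn.2 ⟨hRS hr, (mem_centralizerIn.1 (hRA hr)).2⟩
    obtain ⟨Cs, hCs⟩ := exists_centralizerSystem F hAS
    obtain ⟨DY, ⟨hDY, hDYi⟩, hDYc⟩ := exists_centralizer' hS hWF
    have hDi := hDYi Cs hCs
    have hCCs : C.IsSubsystemOf Cs := fun P φ hφ => by
      obtain ⟨-, ψ, hψ, h1, h2⟩ := hfixA P φ hφ
      rw [hCs P]
      exact ⟨hCsub P hφ, (src_le hφ).trans hRC, fun x => hRC (apply_mem hφ x), ψ, hDsub _ hψ, h1, h2⟩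
    have hRY : R ≤ centralizerSub F W := by
      rw [← hq.2.1]
      exact (hyperfocal_mono hRC hCCs).trans hDi.2.1
    have hCDY : C.IsSubsystemOf DY := by
      intro P φ hφ
      refine FusionP3.Induction.hom_induction hRp hq.1 (M := fun P φ => φ ∈ DY.Hom P) ?_ ?_ ?_ P φ hφ
      · exact fun P Q φ ψ χ _ _ h he h1 h2 => mem_comp h1 h2 h he
      · exact fun P Q φ ψ h _ he h2 => mem_of_restrict h2 h he
      · intro Q hQn _ _ a ha _
        have hQY := hQn.1.trans hRY
        haveI := finite_sub (centralizerIn_le (S := S) (U ⊓ T))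
        have hmono : autInducedBy R Q ≤ autInducedBy (centralizerSub F W) Q :=
          Subgroup.closure_mono fun b hb => hb.imp fun g hg => ⟨hRY hg.1, hg.2⟩
        refine (mem_autGroup hQY).1 ((FusionP3.Prime.PPower.autGroup_le_sup' C
          (fullyAutomized_of_fullyNormalized hRp hq.1 hQn) (fun b hb hc => ?_)
          (hmono.trans (autInducedBy_le_autGroup DY hQY))) ha)
        exact FusionP3.Prime.PPower.coprime_aut_mem hDi hQY (FusionP3.GT.autGroup_mono hCCs hQn.1 hb) hc
    obtain ⟨W', ⟨hW'F, hW'D, hW'Y⟩, -⟩ := exists_inter hS hD hDY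
    rcases ih hUp hq _ W' hW'D with h | ⟨hRB, -⟩
    swap
    · exact absurd hRB (not_centralizes_self hRp hq (le_inf hRU hRY))
    refine Or.inr (centralizes_of_fixed hS hW'F hscT hq.1 hq.2.1 h fun Q φ hφ x hx => ?_)
    obtain ⟨-, -, -, ψ, -, h1, h2⟩ := hDYc Q (hW'Y.1.2.2.1 Q hφ)
    have hxA : (x : Ω) ∈ U ⊓ T := ⟨(inf_le_left : U ⊓ centralizerSub F W ≤ U) (src_le hφ x.2), hx⟩
    rw [← h1 x]
    exact (congrArg ψ (Subtype.ext rfl : Subgroup.inclusion le_sup_left x =
      Subgroup.inclusion le_sup_right (⟨x, hxA⟩ : ↥(U ⊓ T)))).trans (h2 ⟨x, hxA⟩)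

end Cfsg.Agent.Lib.FS.Inter
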