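import Cfsg.Agent.Lib.FusionSystem.Inter.LayerIn
import Cfsg.Agent.Lib.FusionSystem.Inter.GenFitting

/-!
Components are normal in the layer and in the generalized Fitting subsystem.
-/

set_option autoImplicit false
set_option linter.style.haveILetI false
set_option linter.unusedSectionVars false

namespace Cfsg.Agent.Lib.FS.Inter

open Cfsg Cfsg.FusionSystem Cfsg.Agent.Lib Cfsg.Agent.Lib.FS Cfsg.Agent.Lib.FS.NormalCentralizer
open Cfsg.Agent.Lib.FS.CentralizerSubsystem (exists_centralizer')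
open Cfsg.Agent.Lib.FS.PPowerKernel (hyperfocal_mono)
open Cfsg.Agent.Lib.FS.Fitting (centralProduct_isSaturated centralProduct_base)

variable {Ω : Type*} [Group Ω] {R S T T₁ T₂ U : Subgroup Ω} [Finite S] {p : ℕ} [hp : Fact p.Prime]
  {F : FusionSystem S} {E : FusionSystem T} {E₁ : FusionSystem T₁} {E₂ : FusionSystem T₂}

/-- A perfect system centralising a normal subsystem's base lies in its centraliser subsystem. -/
theorem le_centralizer_system (hS : IsPGroup p S) {C : FusionSystem R} (hCs : C.IsSaturated p)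
    (hperf : C.hyperfocalSubgroup p = R) (hc : Centralizes F T C) (hTS : T ≤ S)
    {DY : FusionSystem (centralizerSub F E)}
    (hDYi : ∀ C' : FusionSystem (centralizerIn S T), F.IsCentralizerSystem T C' → DY.HasPPowerIndexIn C' p) :
    R ≤ centralizerSub F E ∧ C.IsSubsystemOf DY := by
  obtain ⟨hRC, hfix⟩ := hc
  haveI := finite_sub (hRC.trans (centralizerIn_le T))
  have hRp := isPGroup_of_le hS (hRC.trans (centralizerIn_le T))
  obtain ⟨Cs, hCs'⟩ := exists_centralizerSystem F hTS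
  have hDi := hDYi Cs hCs'
  have hCCs : C.IsSubsystemOf Cs := fun P φ hφ => by
    obtain ⟨hF, ψ, hψ, h1, h2⟩ := hfix P φ hφ
    rw [hCs' P]
    exact ⟨hF, (src_le hφ).trans hRC, fun x => hRC (apply_mem hφ x), ψ, hψ, h1, h2⟩
  have hRY : R ≤ centralizerSub F E := by
    rw [← hperf]
    exact (hyperfocal_mono hRC hCCs).trans hDi.2.1
  refine ⟨hRY, fun P φ hφ => ?_⟩
  refine FusionP3.Induction.hom_induction hRp hCs (M := fun P φ => φ ∈ DY.Hom P) ?_ ?_ ?_ P φ hφ
  · exact fun P Q φ ψ χ _ _ h he h1 h2 => mem_comp h1 h2 h he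
  · exact fun P Q φ ψ h _ he h2 => mem_of_restrict h2 h he
  · intro Q hQn _ _ a ha _
    have hQY := hQn.1.trans hRY
    haveI := finite_sub (centralizerIn_le (S := S) T)
    have hmono : autInducedBy R Q ≤ autInducedBy (centralizerSub F E) Q :=
      Subgroup.closure_mono fun b hb => hb.imp fun g hg => ⟨hRY hg.1, hg.2⟩
    refine (mem_autGroup hQY).1 ((FusionP3.Prime.PPower.autGroup_le_sup' C
      (fullyAutomized_of_fullyNormalized hRp hCs hQn) (fun b hb hc => ?_)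
      (hmono.trans (autInducedBy_le_autGroup DY hQY))) ha)
    exact FusionP3.Prime.PPower.coprime_aut_mem hDi hQY (FusionP3.GT.autGroup_mono hCCs hQn.1 hb) hc

omit [Finite S] hp in
/-- The two factors may be exchanged. -/
theorem pair_swap (hcomm : ∀ a ∈ T₁, ∀ b ∈ T₂, a * b = b * a) {P : Subgroup Ω} {φ : P →* Ω}
    (h : Pair E₁ E₂ P φ) : Pair E₂ E₁ P φ := by
  obtain ⟨hP, P₁, P₂, φ₁, φ₂, h1, h2, he⟩ := h
  refine ⟨hP.trans (sup_comm _ _).le, P₂, P₁, φ₂, φ₁, h2, h1, fun x b a hb ha hba => ?_⟩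
  obtain ⟨ha', hb', hx⟩ := he x a b ha hb (hba.trans (hcomm a ha b hb).symm)
  exact ⟨hb', ha', hx.trans (hcomm _ (apply_mem h1 _) _ (apply_mem h2 _))⟩

namespace Comm

variable (h : Comm F E₁ E₂ p)
include h

/-- The maps of the first factor are products. -/
theorem pair_left {P : Subgroup Ω} {φ : P →* Ω} (hφ : φ ∈ E₁.Hom P) : Pair E₁ E₂ P φ := by
  haveI := finite_sub h.sc₁.1
  have hAc : E₁.IsCentral (T₁ ⊓ T₂) := by
    refine (isCentral_iff (isPGroup_of_le h.hS h.sc₁.1) h.h₁.1.1).2 ⟨inf_le_left, fun z hz y hy => ?_⟩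
    obtain ⟨τ, hτ, rfl⟩ := hy
    exact h.fix₁ _ τ hτ ⟨z, Subgroup.mem_zpowers z⟩ hz.2
  obtain ⟨ψ, hψ, h1, h2⟩ := hAc.2 P φ hφ
  refine ⟨(src_le hφ).trans le_sup_left, P ⊔ T₁ ⊓ T₂, T₁ ⊓ T₂, ψ, (T₁ ⊓ T₂).subtype, hψ,
    subtype_mem E₂ inf_le_right, fun x a b ha hb hab => ?_⟩
  have hbA : b ∈ T₁ ⊓ T₂ := by
    refine ⟨?_, hb⟩
    rw [show b = a⁻¹ * x by rw [hab]; group]
    exact T₁.mul_mem (T₁.inv_mem ha) (src_le hφ x.2)
  have haX : a ∈ P ⊔ T₁ ⊓ T₂ := by
    rw [show a = x * b⁻¹ by rw [hab]; group]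
    exact mul_mem (Subgroup.mem_sup_left x.2) (Subgroup.mem_sup_right ((T₁ ⊓ T₂).inv_mem hbA))
  refine ⟨haX, hbA, ?_⟩
  rw [← h1 x, show Subgroup.inclusion le_sup_left x = (⟨a, haX⟩ : ↥(P ⊔ T₁ ⊓ T₂)) *
    Subgroup.inclusion le_sup_right ⟨b, hbA⟩ from Subtype.ext hab, map_mul, h2]
  rfl

/-- A normal subsystem of the first factor is normal in the product. -/
theorem normal_of_pair {D : FusionSystem U} (hU : U = T₁ ⊔ T₂)
    (hD : ∀ (P : Subgroup Ω) (φ : P →* Ω), φ ∈ D.Hom P ↔ Pair E₁ E₂ P φ) (hDs : D.IsSaturated p)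
    {C : FusionSystem R} (hC : C.IsNormalIn E₁ p) : C.IsNormalIn D p := by
  subst hU
  obtain ⟨⟨hCs, -, hCsub, hscR, hinv, hfrat⟩, hext⟩ := id hC
  have hRT : R ≤ T₁ := hscR.1
  have hRU : R ≤ T₁ ⊔ T₂ := hRT.trans le_sup_left
  haveI := finite_sub h.sc₁.1
  haveI := finite_sub (hRT.trans h.sc₁.1)
  haveI := finite_sub h.scU.1
  have hCD : C.IsSubsystemOf D := fun P φ hφ => (hD P φ).2 (h.pair_left (hCsub P hφ))
  have hdown : ∀ (P : Subgroup Ω), P ≤ R → ∀ φ : P →* Ω, φ ∈ D.Hom P → φ ∈ E₁.Hom P := by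
    intro P hP φ hφ
    obtain ⟨-, P₁, P₂, φ₁, φ₂, h1, h2, he⟩ := (hD P φ).1 hφ
    have hle : P ≤ P₁ := fun x hx => (he ⟨x, hx⟩ x 1 (hRT (hP hx)) T₂.one_mem (mul_one x).symm).1
    refine mem_of_restrict h1 hle fun x => ?_
    obtain ⟨ha, hb, hx⟩ := he x x 1 (hRT (hP x.2)) T₂.one_mem (mul_one _).symm
    rw [hx, show (⟨1, hb⟩ : P₂) = 1 from rfl, map_one, mul_one]
  have haut : D.autGroup R ≤ E₁.autGroup R := fun α hα => by
    obtain ⟨φ, hφ, -, hφe⟩ := exists_hom_of_aut hRU hα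
    exact mem_autGroup_of_hom (hdown R le_rfl φ hφ) fun x => (hφe x).symm
  refine ⟨⟨hCs, hDs, hCD, ⟨hRU, fun P hP φ hφ x => stronglyClosed_apply_mem hscR (hdown P hP φ hφ) (hP x.2)⟩,
    fun P hP φ hφ α hα => hinv P hP φ hφ α (haut hα), fun P hP φ hφ => ?_⟩, fun δ hδ => ?_⟩
  · obtain ⟨α, hα, φ₀, hφ₀, he⟩ := hfrat P hP φ (hdown P hP φ hφ)
    obtain ⟨a, ha, -, hae⟩ := exists_hom_of_aut hRT hα
    exact ⟨α, mem_autGroup_of_hom ((hD R a).2 (h.pair_left ha)) (fun x => (hae x).symm), φ₀, hφ₀, he⟩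
  -- extending
  obtain ⟨β₁, hβ₁, hβ₁e, hβ₁c⟩ := hext δ hδ
  set H₁ := R ⊔ centralizerIn T₁ R with hH₁
  obtain ⟨b, hb, -, hbe⟩ := exists_hom_of_aut (hull_le hRT) hβ₁
  obtain ⟨ψ, hψ, hψ1, hψ2⟩ := h.fixes₁ hb
  have hAC : T₁ ⊓ T₂ ≤ centralizerIn T₁ R := fun a ha =>
    mem_centralizerIn.2 ⟨ha.1, fun x hx => h.comm x (hRT hx) a ha.2⟩
  have hsplit : ∀ x ∈ H₁ ⊔ T₂, ∀ a ∈ T₁, ∀ b ∈ T₂, x = a * b → a ∈ H₁ := by
    intro x hx a ha c hc hac
    obtain ⟨a', ha', c', hc', hac'⟩ := exists_split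
      (fun u hu t ht => h.comm u ((hull_le hRT : H₁ ≤ T₁) hu) t ht) hx
    have e : a = a' * (c' * c⁻¹) := by rw [← mul_assoc, ← hac', hac]; group
    have hA : c' * c⁻¹ ∈ T₁ ⊓ T₂ := by
      refine ⟨?_, T₂.mul_mem hc' (T₂.inv_mem hc)⟩
      rw [show c' * c⁻¹ = a'⁻¹ * a by rw [e]; group]
      exact T₁.mul_mem (T₁.inv_mem ((hull_le hRT : H₁ ≤ T₁) ha')) ha
    rw [e]
    exact H₁.mul_mem ha' (Subgroup.mem_sup_right (hAC hA))
  have hψD : ψ ∈ D.Hom (H₁ ⊔ T₂) := by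
    refine (hD _ ψ).2 ⟨sup_le ((hull_le hRT).trans le_sup_left) le_sup_right, H₁, T₂, b, T₂.subtype, hb,
      subtype_mem E₂ le_rfl, fun x a c ha hc hac => ⟨hsplit x x.2 a ha c hc hac, hc, ?_⟩⟩
    refine (congrArg ψ (Subtype.ext hac : x = Subgroup.inclusion le_sup_left ⟨a, hsplit x x.2 a ha c hc hac⟩ *
      Subgroup.inclusion le_sup_right ⟨c, hc⟩)).trans ?_
    rw [map_mul, hψ1, hψ2]
    rfl
  set H := R ⊔ centralizerIn (T₁ ⊔ T₂) R with hH
  have hsplitC : ∀ c ∈ centralizerIn (T₁ ⊔ T₂) R, ∃ a ∈ centralizerIn T₁ R, ∃ t ∈ T₂, c = a * t := by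
    intro c hc
    obtain ⟨a, ha, t, ht, rfl⟩ := exists_split h.comm hc.1
    refine ⟨a, mem_centralizerIn.2 ⟨ha, fun x hx => ?_⟩, t, ht, rfl⟩
    have h1 := (mem_centralizerIn.1 hc).2 x hx
    have h2 := h.comm x (hRT hx) t ht
    refine mul_right_cancel (b := t) ?_
    rw [mul_assoc, h1, mul_assoc, mul_assoc, ← h2]
  have hle : H ≤ H₁ ⊔ T₂ := sup_le (le_sup_left.trans le_sup_left) fun c hc => by
    obtain ⟨a, ha, t, ht, rfl⟩ := hsplitC c hc
    exact Subgroup.mul_mem_sup (Subgroup.mem_sup_right ha) ht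
  obtain ⟨χ, hχ, hχe⟩ := exists_restrict hψD hle
  have hχR : ∀ x : R, χ (Subgroup.inclusion le_sup_left x) = ((δ x : R) : Ω) := fun x => by
    rw [hχe]
    exact (hψ1 (Subgroup.inclusion le_sup_left x)).trans ((hbe _).trans (hβ₁e x))
  have hχc : ∀ c : centralizerIn (T₁ ⊔ T₂) R,
      (c : Ω)⁻¹ * χ (Subgroup.inclusion le_sup_right c) ∈ R ⊓ Subgroup.centralizer (R : Set Ω) := by
    intro c
    obtain ⟨a, ha, t, ht, hct⟩ := hsplitC c c.2
    have h0 := hβ₁c (Subgroup.inclusion le_sup_right ⟨a, ha⟩) ha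
    rw [← hbe] at h0
    have hval : χ (Subgroup.inclusion le_sup_right c) =
        b (Subgroup.inclusion le_sup_right ⟨a, ha⟩) * t := by
      refine (hχe _).trans ((congrArg ψ (Subtype.ext hct : _ = Subgroup.inclusion le_sup_left (Subgroup.inclusion
        (le_sup_right : centralizerIn T₁ R ≤ H₁) ⟨a, ha⟩) * Subgroup.inclusion le_sup_right ⟨t, ht⟩)).trans ?_)
      rw [map_mul, hψ1, hψ2]
    rw [hval, hct]
    have h0' : a⁻¹ * b (Subgroup.inclusion le_sup_right ⟨a, ha⟩) ∈ R ⊓ Subgroup.centralizer (R : Set Ω) := h0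
    have hw := h.comm _ (hRT h0'.1) t ht
    show (a * t)⁻¹ * (b _ * t) ∈ R ⊓ Subgroup.centralizer (R : Set Ω)
    rw [show (a * t)⁻¹ * (b (Subgroup.inclusion le_sup_right ⟨a, ha⟩) * t) =
      t⁻¹ * ((a⁻¹ * b (Subgroup.inclusion le_sup_right ⟨a, ha⟩)) * t) by group, hw, inv_mul_cancel_left]
    exact h0
  obtain ⟨β, hβ, hβe⟩ := exists_aut hχ (mapsTo_of_sup
    (fun x => by rw [hχR]; exact Subgroup.mem_sup_left (δ x).2)
    (fun c => by
      have h1 := H.mul_mem (Subgroup.mem_sup_right (S := R) c.2) (Subgroup.mem_sup_left (hχc c).1)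
      rwa [mul_inv_cancel_left] at h1))
  refine ⟨β, hβ, fun x => (hβe _).trans (hχR x), fun c hc => ?_⟩
  rw [hβe, show c = Subgroup.inclusion le_sup_right ⟨(c : Ω), hc⟩ from Subtype.ext rfl]
  exact hχc ⟨c, hc⟩

end Comm

/-- `G` is the least normal subsystem of itself containing all its components. -/
def Layered (G : FusionSystem S) (p : ℕ) : Prop :=
  ∀ (U : Subgroup Ω) (D : FusionSystem U), D.IsNormalIn G p →
    (∀ (V : Subgroup Ω) (C : FusionSystem V), C.IsComponentIn G p → C.IsSubsystemOf D) → G.IsSubsystemOf D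

omit [Finite S] hp in
/-- A component lying in no proper normal subsystem is everything. -/
theorem eq_of_not_proper {C : FusionSystem R} {G : FusionSystem S} (hC : C.IsSubnormalIn G p)
    (hmin : ∀ (U : Subgroup Ω) (D : FusionSystem U), D.IsNormalIn G p → C.IsSubsystemOf D →
      G.IsSubsystemOf D) : G.IsSubsystemOf C := by
  induction hC with
  | refl F p => exact fun P φ hφ => hφ
  | @step U S C D F p hCD hD ih =>
    have hFD := hmin U D hD (subnormal_le hCD)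
    refine fun P φ hφ => ih (fun V M hM hCM => ?_) P (hFD P hφ)
    have hMF := sys_transfer hD.1.2.2.1 hFD (fun {W} G => M.IsNormalIn G p) hM
    exact fun Q ψ hψ => hmin V M hMF hCM Q (hD.1.2.2.1 Q hψ)

/-- The least normal subsystem containing a component. -/
theorem exists_least (hS : IsPGroup p S) (hF : F.IsSaturated p) {C : FusionSystem R}
    (hC : C.IsComponentIn F p) :
    ∃ (T : Subgroup Ω) (N : FusionSystem T), N.IsNormalIn F p ∧ C.IsSubsystemOf N ∧
      ∀ (U : Subgroup Ω) (D : FusionSystem U), D.IsNormalIn F p → C.IsSubsystemOf D → N.IsSubsystemOf D := by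
  classical
  let good : ℕ → Prop := fun n => ∃ (T : Subgroup Ω) (E : FusionSystem T), E.IsNormalIn F p ∧
    C.IsSubsystemOf E ∧ (graphsIn S E).ncard = n
  have hne : ∃ n, good n := ⟨_, S, F, self_isNormalIn hF, subnormal_le hC.1, rfl⟩
  obtain ⟨T, N, hN, hCN, hn⟩ := Nat.find_spec hne
  refine ⟨T, N, hN, hCN, fun U D hD hCD => ?_⟩
  obtain ⟨W, ⟨hWF, hWN, hWD⟩, -⟩ := exists_inter hS hN hD
  have hR : R ≤ S := src_le (subnormal_le hC.1 R (subtype_mem C le_rfl))
  haveI := finite_sub hR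
  have hCW : C.IsSubsystemOf W := by
    rcases component_dichotomy hC.1 hS hC.2 _ W hWF with h | ⟨h, -⟩
    · exact h
    exact absurd h (not_centralizes_self (isPGroup_of_le hS hR) hC.2
      (le_inf (src_le (hCN R (subtype_mem C le_rfl))) (src_le (hCD R (subtype_mem C le_rfl)))))
  haveI : Finite (Σ P : {P : Subgroup Ω // P ≤ S}, (↥P.1 → S)) := by
    haveI := finite_subgroups_le (S := S)
    haveI : ∀ P : {P : Subgroup Ω // P ≤ S}, Finite ↥P.1 := fun P => finite_sub P.2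
    infer_instance
  have hWsub : graphsIn S W ⊆ graphsIn S N := fun x ⟨φ, hφ, he⟩ => ⟨φ, hWN.1.2.2.1 _ hφ, he⟩
  have hle := Nat.find_min' hne ⟨_, W, hWF, hCW, rfl⟩
  have heq := Set.eq_of_subset_of_ncard_le hWsub (hn.trans_le hle) (Set.toFinite _)
  intro P φ hφ
  have hφF := hN.1.2.2.1 P hφ
  obtain ⟨ψ, hψ, he⟩ := heq.ge (show (⟨⟨P, src_le hφF⟩, fun y => ⟨φ y, apply_mem hφF y⟩⟩ :
    Σ P : {P : Subgroup Ω // P ≤ S}, (↥P.1 → S)) ∈ graphsIn S N from ⟨φ, hφ, fun _ => rfl⟩)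
  exact hWD.1.2.2.1 P (hom_congr hψ fun y => (he y).symm)

/-- In a layered system every component is normal. -/
theorem component_normal_layered (hS : IsPGroup p S) {C : FusionSystem R} :
    ∀ {T : Subgroup Ω} (G : FusionSystem T), T ≤ S → G.IsSaturated p → Layered G p →
      C.IsComponentIn G p → C.IsNormalIn G p := by
  suffices key : ∀ (n : ℕ) (T : Subgroup Ω) (G : FusionSystem T), (graphsIn S G).ncard = n → T ≤ S →
      G.IsSaturated p → Layered G p → C.IsComponentIn G p → C.IsNormalIn G p from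
    fun {T} G hT hG hl hC => key _ T G rfl hT hG hl hC
  intro n
  induction n using Nat.strong_induction_on with
  | _ n ih =>
  intro T G hn hT hG hlay hC
  haveI := finite_sub hT
  have hTp := isPGroup_of_le hS hT
  obtain ⟨V, N, hN, hCN, hmin⟩ := exists_least hTp hG hC
  have hVT : V ≤ T := hN.1.2.2.2.1.1
  haveI := finite_sub hVT
  have hVp := isPGroup_of_le hTp hVT
  by_cases hGN : G.IsSubsystemOf N
  · haveI : Finite R := finite_sub (S := T) (src_le (subnormal_le hC.1 R (subtype_mem C le_rfl)))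
    have h1 := eq_of_not_proper hC.1 fun U D hD hCD P φ hφ => hmin U D hD hCD P (hGN P hφ)
    exact sys_transfer (subnormal_le hC.1) h1 (fun {W} E => C.IsNormalIn E p) (self_isNormalIn hC.2.1)
  have hCN' : C.IsComponentIn N p := ⟨subnormal_in_normal hC.1 hTp hC.2 V N hN hCN, hC.2⟩
  have hlayN : Layered N p := by
    intro U D hD hDc
    obtain ⟨U', L, hL⟩ := exists_layer hVp hN.1.1
    intro P φ hφ
    exact hL.2.2 U D hD hDc P (hmin U' L (layer_isNormalIn hTp hN hL) (hL.2.1 R C hCN') P hφ)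
  have hlt : (graphsIn S N).ncard < n := by
    rw [← hn]
    haveI : Finite (Σ P : {P : Subgroup Ω // P ≤ S}, (↥P.1 → S)) := by
      haveI := finite_subgroups_le (S := S)
      haveI : ∀ P : {P : Subgroup Ω // P ≤ S}, Finite ↥P.1 := fun P => finite_sub P.2
      infer_instance
    refine Set.ncard_lt_ncard ⟨fun x ⟨φ, hφ, he⟩ => ⟨φ, hN.1.2.2.1 _ hφ, he⟩, fun hh => hGN ?_⟩ (Set.toFinite _)
    intro P φ hφ
    obtain ⟨ψ, hψ, he⟩ := hh (show (⟨⟨P, (src_le hφ).trans hT⟩, fun y => ⟨φ y, hT (apply_mem hφ y)⟩⟩ :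
      Σ P : {P : Subgroup Ω // P ≤ S}, (↥P.1 → S)) ∈ graphsIn S G from ⟨φ, hφ, fun _ => rfl⟩)
    exact hom_congr hψ fun y => (he y).symm
  have hCn := ih _ hlt V N rfl (hVT.trans hT) hN.1.1 hlayN hCN'
  obtain ⟨DY, ⟨hDY, hDYi⟩, hDYc⟩ := exists_centralizer' hTp hN
  have h : Comm G N DY p := by
    refine ⟨hTp, hN, hDY, fun a ha b hb => (mem_centralizerIn.1 (centralizerSub_le hb)).2 a ha, ?_, ?_⟩
    · intro P φ hφ x hx
      obtain ⟨ψ, -, h1, h2⟩ := fixes_centralizerSub hTp hN hφ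
      rw [← h1 x]
      exact (congrArg ψ (Subtype.ext rfl : Subgroup.inclusion le_sup_left x =
        Subgroup.inclusion le_sup_right (⟨x, hx⟩ : centralizerSub G N))).trans (h2 ⟨x, hx⟩)
    · intro P φ hφ x hx
      obtain ⟨-, -, -, ψ, -, h1, h2⟩ := hDYc P hφ
      rw [← h1 x]
      exact (congrArg ψ (Subtype.ext rfl : Subgroup.inclusion le_sup_left x =
        Subgroup.inclusion le_sup_right (⟨x, hx⟩ : V))).trans (h2 ⟨x, hx⟩)
  obtain ⟨P₀, hP₀⟩ := h.exists_product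
  have hiff := centralProduct_iff hP₀
  have hP₀n := h.product_isNormalIn hP₀
  have hGP : G.IsSubsystemOf P₀ := hlay _ P₀ hP₀n fun W C' hC' => by
    rcases component_dichotomy hC'.1 hTp hC'.2 V N hN with h' | h'
    · exact fun P φ hφ => (hiff P φ).2 (h.pair_left (h' P hφ))
    obtain ⟨-, h''⟩ := le_centralizer_system hTp hC'.2.1 hC'.2.2.1 h' hVT hDYi
    exact fun P φ hφ => (hiff P φ).2
      (pair_swap (fun b hb a ha => (h.comm a ha b hb).symm) (h.swap.pair_left (h'' P hφ)))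
  exact sys_transfer hP₀n.1.2.2.1 hGP (fun {W} E => C.IsNormalIn E p) (h.normal_of_pair rfl hiff hP₀n.1.1 hCn)

/-- A component is normal in the layer. -/
theorem component_normal_layer (hS : IsPGroup p S) {C : FusionSystem R} (hC : C.IsComponentIn F p)
    {L : FusionSystem T} (hL : L.IsLayerOf F p) : C.IsNormalIn L p := by
  have hTS : T ≤ S := hL.1.1.2.2.2.1.1
  haveI := finite_sub hTS
  have hTp := isPGroup_of_le hS hTS
  have hcomp : ∀ (V : Subgroup Ω) (C' : FusionSystem V), C'.IsComponentIn F p → C'.IsComponentIn L p :=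
    fun V C' hC' => ⟨subnormal_in_normal hC'.1 hS hC'.2 T L hL.1 (hL.2.1 V C' hC'), hC'.2⟩
  refine component_normal_layered hS L hTS hL.1.1.1 (fun U D hD hDc P φ hφ => ?_) (hcomp R C hC)
  obtain ⟨U', L', hL'⟩ := exists_layer hTp hL.1.1.1
  exact hL'.2.2 U D hD hDc P
    (hL.2.2 U' L' (layer_isNormalIn hS hL.1 hL') (fun V C' hC' => hL'.2.1 V C' (hcomp V C' hC')) P hφ)

/-- A component is normal in every generalized Fitting subsystem. -/
theorem component_normal_gf (hS : IsPGroup p S) (hF : F.IsSaturated p) {C : FusionSystem R}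
    (hC : C.IsComponentIn F p) {D : FusionSystem U} (hD : D.IsGeneralizedFittingOf F p) :
    C.IsNormalIn D p := by
  obtain ⟨T, E, hE, hprod⟩ := id hD
  obtain ⟨hQU, hTU, -, hdec⟩ := centralProduct_base hprod
  have hU : U = F.core ⊔ T := by
    refine le_antisymm (fun u hu => ?_) (sup_le hQU hTU)
    obtain ⟨a, ha, z, hz, rfl⟩ := hdec u hu
    exact Subgroup.mul_mem_sup ha hz
  subst hU
  have h := comm_core_layer hS hF hE
  have hiff := centralProduct_iff hprod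
  refine h.swap.normal_of_pair (sup_comm _ _) (fun P φ => ⟨fun hφ => pair_swap h.comm ((hiff P φ).1 hφ),
    fun hφ => (hiff P φ).2 (pair_swap h.swap.comm hφ)⟩) (gf_isNormalIn hS hF hD).1.1
    (component_normal_layer hS hC hE)

end Cfsg.Agent.Lib.FS.Inter
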