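import Cfsg.Agent.Lib.FusionSystem.Inter.Layer
import Cfsg.Agent.S5311

/-!
Components of normal subsystems; the layer of a normal subsystem is normal in the whole system.
-/

set_option autoImplicit false
set_option linter.style.haveILetI false
set_option linter.unusedSectionVars false

namespace Cfsg.Agent.Lib.FS.Inter

open Cfsg Cfsg.FusionSystem Cfsg.Agent.Lib Cfsg.Agent.Lib.FS Cfsg.Agent.Lib.FS.NormalCentralizer
open Cfsg.Agent.Lib.FusionP3.Prime (img img_le mem_img)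

variable {Ω : Type*} [Group Ω] {R S T U : Subgroup Ω} {p : ℕ}

/-- Two systems that are subsystems of each other have the same properties. -/
theorem sys_transfer {D : FusionSystem U} {G : FusionSystem S} (h₁ : D.IsSubsystemOf G) (h₂ : G.IsSubsystemOf D)
    (M : ∀ {V : Subgroup Ω}, FusionSystem V → Prop) (hM : M D) : M G := by
  obtain rfl : U = S := le_antisymm (src_le (h₁ U (subtype_mem D le_rfl))) (src_le (h₂ S (subtype_mem G le_rfl)))
  obtain rfl : D = G := fusion_le_antisymm h₁ h₂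
  exact hM

/-- A component lying in a normal subsystem is subnormal in it. -/
theorem subnormal_in_normal {C : FusionSystem R} {F : FusionSystem S} (hC : C.IsSubnormalIn F p) :
    ∀ [Finite S] [Fact p.Prime], IsPGroup p S → C.Quasisimple p →
      ∀ (T : Subgroup Ω) (E : FusionSystem T), E.IsNormalIn F p → C.IsSubsystemOf E →
        C.IsSubnormalIn E p := by
  induction hC with
  | refl F p =>
    intro _ _ _ _ T E hE hsub
    exact sys_transfer hsub hE.1.2.2.1 (fun {V} G => F.IsSubnormalIn G p) (IsSubnormalIn.refl F p)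
  | @step U S C D F p hCD hD ih =>
    intro _ _ hS hq T E hE hsub
    haveI := finite_sub hD.1.2.2.2.1.1
    have hUp := isPGroup_of_le hS hD.1.2.2.2.1.1
    obtain ⟨W, ⟨-, hWD, hWE⟩, -⟩ := exists_inter hS hD hE
    have hRU : R ≤ U := src_le (subnormal_le hCD R (subtype_mem C le_rfl))
    have hRT : R ≤ T := src_le (hsub R (subtype_mem C le_rfl))
    haveI := finite_sub hRU
    rcases component_dichotomy hCD hUp hq _ W hWD with h | ⟨h, -⟩
    · exact IsSubnormalIn.step (ih hUp hq _ W hWD h) hWE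
    · exact absurd h (not_centralizes_self (isPGroup_of_le hUp hRU) hq (le_inf hRU hRT))

variable [Finite S] [hp : Fact p.Prime] {G : FusionSystem S} {N : FusionSystem T} {L : FusionSystem U}

/-- The layer of a normal subsystem is normal. -/
theorem layer_isNormalIn (hS : IsPGroup p S) (hN : N.IsNormalIn G p) (hL : L.IsLayerOf N p) :
    L.IsNormalIn G p := by
  obtain ⟨⟨hNs, hG, hNG, hscT, hinvN, hfratN⟩, -⟩ := id hN
  have hTS : T ≤ S := hscT.1
  haveI := finite_sub hTS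
  have hTp := isPGroup_of_le hS hTS
  obtain ⟨hLn, hLc, hLmin⟩ := id hL
  obtain ⟨⟨hLs, -, hLN, hscU, hinvL, hfratL⟩, -⟩ := id hLn
  have hUT : U ≤ T := hscU.1
  have hUS := hUT.trans hTS
  haveI := finite_sub hUS
  have hmor : ∀ α ∈ G.autGroup T, N.IsMorphism N (T.subtype.comp α.toMonoidHom) := by
    intro α hα
    refine ⟨fun s => (α s).2, fun P φ hφ => ?_⟩
    obtain ⟨χ, hχ, hχe⟩ := hinvN P (src_le hφ) φ hφ α hα
    exact ⟨χ, hχ, src_le hφ, apply_mem hφ, fun x => ⟨⟨x, src_le hφ x.2⟩, x.2, rfl⟩, fun x => hχe x _ _⟩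
  have hchar : ∀ α ∈ G.autGroup T, imageAlong (T.subtype.comp α.toMonoidHom) U = U ∧
      ∀ (P : Subgroup Ω) (φ : ↥P →* Ω), φ ∈ L.Hom P →
        ∀ φ' : ↥(imageAlong (T.subtype.comp α.toMonoidHom) P) →* Ω,
          InducedAlong (T.subtype.comp α.toMonoidHom) φ φ' →
            φ' ∈ L.Hom (imageAlong (T.subtype.comp α.toMonoidHom) P) := fun α hα => by
    exact S5311.result p hTp N hNs α (hmor α hα) (hmor α⁻¹ ((G.autGroup T).inv_mem hα)) L hL
  have hpres : ∀ α ∈ G.autGroup T, ∀ x : T, (x : Ω) ∈ U ↔ ((α x : T) : Ω) ∈ U := by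
    intro α hα x
    constructor
    · intro hx
      exact (hchar α hα).1.le ⟨x, hx, rfl⟩
    · intro hx
      obtain ⟨y, hy, hye⟩ := (hchar α hα).1.ge hx
      rw [← α.injective (Subtype.ext hye : α y = α x)]
      exact hy
  have hsc : G.StronglyClosed U := by
    refine ⟨hUS, fun P hP φ hφ x => ?_⟩
    obtain ⟨α, hα, φ₀, hφ₀, he⟩ := hfratN P (hP.trans hUT) φ hφ
    rw [he x (apply_mem hφ₀ x)]
    exact (hpres α hα _).1 (stronglyClosed_apply_mem hscU hφ₀ (hP x.2))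
  have hinv : ∀ (P : Subgroup Ω) (hP : P ≤ U) (φ : P →* Ω), φ ∈ L.Hom P → ∀ α' ∈ G.autGroup U,
      ∃ χ ∈ L.Hom (img α' P), ∀ (x : P) (hφx : φ x ∈ U)
        (hαx : ((α' ⟨x, hP x.2⟩ : U) : Ω) ∈ img α' P),
          χ ⟨(α' ⟨x, hP x.2⟩ : U), hαx⟩ = ((α' ⟨φ x, hφx⟩ : U) : Ω) := by
    intro P hP φ hφ α' hα'
    obtain ⟨a', ha', -, ha'e⟩ := exists_hom_of_aut hUS hα'
    obtain ⟨α, hα, φ₀, hφ₀, he⟩ := hfratN U hUT a' ha'
    obtain ⟨β, hβ, hβe⟩ := exists_aut hφ₀ fun x => by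
      refine (hpres α hα ⟨φ₀ x, apply_mem hφ₀ x⟩).2 ?_
      rw [← he, ha'e]
      exact (α' x).2
    have hcomb : ∀ u : U, ((α' u : U) : Ω) = ((α ⟨(β u : U), hUT (β u).2⟩ : T) : Ω) := fun u => by
      rw [← ha'e, he u (apply_mem hφ₀ u)]
      exact congrArg (fun z => ((α z : T) : Ω)) (Subtype.ext (hβe u).symm)
    obtain ⟨χ₁, hχ₁, hχ₁e⟩ := hinvL P hP φ hφ β hβ
    obtain ⟨χ₂, hχ₂, hind⟩ := (hmor α hα).2 _ χ₁ (hLN _ hχ₁)
    have hχ₂L := (hchar α hα).2 _ χ₁ hχ₁ χ₂ hind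
    have hle : img α' P ≤ imageAlong (T.subtype.comp α.toMonoidHom) (img β P) := by
      rintro _ ⟨w, hw, rfl⟩
      exact ⟨⟨(β w : U), hUT (β w).2⟩, ⟨w, hw, rfl⟩, (hcomb w).symm⟩
    obtain ⟨χ, hχ, hχe⟩ := exists_restrict hχ₂L hle
    refine ⟨χ, hχ, fun x hφx hαx => ?_⟩
    have hm : ((β ⟨x, hP x.2⟩ : U) : Ω) ∈ img β P := ⟨⟨x, hP x.2⟩, x.2, rfl⟩
    have hm2 : (T.subtype.comp α.toMonoidHom) ⟨_, hUT (β ⟨x, hP x.2⟩).2⟩ ∈
        imageAlong (T.subtype.comp α.toMonoidHom) (img β P) := ⟨_, hm, rfl⟩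
    rw [hχe]
    refine (congrArg χ₂ (Subtype.ext (hcomb ⟨x, hP x.2⟩) :
      (⟨_, hle hαx⟩ : ↥(imageAlong (T.subtype.comp α.toMonoidHom) (img β P))) = ⟨_, hm2⟩)).trans ?_
    refine (inducedAlong_apply hind ⟨_, hm⟩ (hUT (β ⟨x, hP x.2⟩).2) hm2 (hUT (apply_mem hχ₁ _))).trans ?_
    refine Eq.trans ?_ (hcomb ⟨φ x, hφx⟩).symm
    exact congrArg (fun z => ((α z : T) : Ω)) (Subtype.ext (hχ₁e x hφx hm))
  have hfrat : ∀ (P : Subgroup Ω), P ≤ U → ∀ (φ : P →* Ω), φ ∈ G.Hom P →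
      ∃ α ∈ G.autGroup U, ∃ φ₀ ∈ L.Hom P, ∀ (x : P) (hx : φ₀ x ∈ U), φ x = ((α ⟨φ₀ x, hx⟩ : U) : Ω) := by
    intro P hP φ hφ
    obtain ⟨α, hα, φ₁, hφ₁, he⟩ := hfratN P (hP.trans hUT) φ hφ
    obtain ⟨β, hβ, φ₀, hφ₀, he'⟩ := hfratL P hP φ₁ hφ₁
    obtain ⟨αU, hαU, hr⟩ := exists_restr hUT hTS hα fun x => (hpres α hα _).1 x.2
    refine ⟨αU * β, mul_mem hαU (autE_le_autF hNG hUT hβ), φ₀, hφ₀, fun x hx => ?_⟩
    rw [MulAut.mul_apply, he x (apply_mem hφ₁ x), ← hr]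
    exact congrArg (fun z => ((α z : T) : Ω)) (Subtype.ext (he' x hx))
  have hW : L.IsWeaklyNormalIn G p :=
    ⟨hLs, hG, fun P φ hφ => hNG P (hLN P hφ), hsc, hinv, hfrat⟩
  have hUp := isPGroup_of_le hS hUS
  obtain ⟨R', hR'⟩ := FusionP3.Prime.exists_residual hUp hLs
  have hR'G := FusionP3.Prime.Normality.residual_isNormalIn hS hW hR'
  have hR'N := FusionP3.Prime.Normality.residual_isNormalIn hTp hLn.1 hR'
  have hle : L.IsSubsystemOf R' := hLmin U R' hR'N fun V C hC => by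
    rcases component_dichotomy hC.1 hTp hC.2 _ R' hR'N with h | ⟨h, -⟩
    · exact h
    have hVU : V ≤ U := src_le (hLc V C hC V (subtype_mem C le_rfl))
    haveI := finite_sub (hVU.trans hUS)
    exact absurd h (not_centralizes_self (isPGroup_of_le hS (hVU.trans hUS)) hC.2 hVU)
  exact sys_transfer hR'.2.1.1 hle (fun {V} E => E.IsNormalIn G p) hR'G

end Cfsg.Agent.Lib.FS.Inter
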