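import Cfsg.Agent.Lib.FusionSystem.Inter.Lift

/-!
Moves: for `E` normal in `F` over `T` and `P ≤ T` fully centralised in `F`, every element of `Aut_E(P)` extends
to `P C_S(P)` moving `C_S(P)` within cosets of `T`.
-/

set_option autoImplicit false
set_option linter.style.haveILetI false
set_option linter.unusedSectionVars false

namespace Cfsg.Agent.Lib.FS.Inter

open Cfsg Cfsg.FusionSystem Cfsg.Agent.Lib Cfsg.Agent.Lib.FS Cfsg.Agent.Lib.FS.NormalCentralizer
open Cfsg.Agent.Lib.FS.NormalCentralizer.Odd (autE_congr)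
open Cfsg.Agent.Lib.FS.CentralLift (Restr congr_eq_conj congr_apply_map)

variable {Ω : Type*} [Group Ω] {S T : Subgroup Ω} {F : FusionSystem S} {E : FusionSystem T} {P : Subgroup Ω}

theorem MV.conj (hsc : F.StronglyClosed T) (hP : P ≤ S) {t : Ω} (ht : t ∈ T) {β : MulAut P}
    (hβ : ∀ x : P, ((β x : P) : Ω) = t * x * t⁻¹) : MV F T P β := by
  refine ⟨_, F.conj_mem (hull_le hP) (hsc.1 ht), fun x => (hβ x).symm, fun c => ?_⟩
  show (c : Ω)⁻¹ * (t * c * t⁻¹) ∈ T
  rw [← mul_assoc, ← mul_assoc]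
  exact T.mul_mem (conj_inv_mem_of_normalizer (stronglyClosed_le_normalizer hsc c.2.1) ht) (T.inv_mem ht)

theorem MV.one (hsc : F.StronglyClosed T) (hP : P ≤ S) : MV F T P 1 :=
  MV.conj hsc hP T.one_mem fun x => by simp

theorem MV.mul {a b : MulAut P} (ha : MV F T P a) (hb : MV F T P b) : MV F T P (a * b) := by
  obtain ⟨A, hA, hA1, hA2⟩ := ha
  obtain ⟨B, hB, hB1, hB2⟩ := hb
  have hBc : ∀ c : centralizerIn S P, B (Subgroup.inclusion le_sup_right c) ∈ centralizerIn S P := fun c =>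
    apply_centralizer_mem hB (fun y hy => ⟨b⁻¹ ⟨y, hy⟩, by rw [hB1, MulAut.apply_inv_self]⟩) c
  obtain ⟨D, hD, hDe⟩ := exists_comp hB hA (mapsTo_of_sup
    (fun x => by rw [hB1]; exact (le_sup_left : P ≤ P ⊔ _) (b x).2)
    (fun c => (le_sup_right : _ ≤ P ⊔ centralizerIn S P) (hBc c)))
  refine ⟨D, hD, fun x => ?_, fun c => ?_⟩
  · rw [hDe, MulAut.mul_apply, ← hA1]
    exact congrArg A (Subtype.ext (hB1 x))
  · have h3 := T.mul_mem (hB2 c) (hA2 ⟨_, hBc c⟩)
    rw [mul_assoc, mul_inv_cancel_left] at h3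
    rw [hDe]
    exact h3

variable [Finite S] {p : ℕ} [hp : Fact p.Prime]

omit hp in
/-- The automorphisms of `P` which move `C_S(P)` within cosets of `T`. -/
def mvSub (hsc : F.StronglyClosed T) (hP : P ≤ S) : Subgroup (MulAut P) where
  carrier := {a | MV F T P a}
  one_mem' := MV.one hsc hP
  mul_mem' := fun {a b} ha hb => MV.mul ha hb
  inv_mem' := fun {a} ha => by
    haveI := finite_sub hP
    have hpow : ∀ i : ℕ, MV F T P (a ^ i) := by
      intro i
      induction i with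
      | zero => rw [pow_zero]; exact MV.one hsc hP
      | succ i ih => rw [pow_succ]; exact MV.mul ih ha
    show MV F T P _
    rw [show a⁻¹ = a ^ (orderOf a - 1) by
      rw [inv_eq_iff_mul_eq_one, ← pow_succ', Nat.sub_add_cancel (orderOf_pos a), pow_orderOf_eq_one]]
    exact hpow _

/-- Moves are carried back along maps between fully centralised subgroups. -/
theorem MV.of_congr (hS : IsPGroup p S) (hF : F.IsSaturated p) (hsc : F.StronglyClosed T)
    {P' : Subgroup Ω} (hP : F.IsFullyCentralized P) (hP' : F.IsFullyCentralized P') {φ : P →* Ω}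
    (hφ : φ ∈ F.Hom P) (hr : φ.range = P') {β : MulAut P}
    (h : MV F T P' (MulAut.congr (homEquiv hφ hr) β)) : MV F T P β := by
  obtain ⟨D', hD', hD'1, hD'2⟩ := h
  obtain ⟨η, hη, hη1, hηc⟩ := exists_hull_map (receptive_of_fullyCentralized hS hF hP') hφ hr
  haveI := finite_sub (hull_le hP'.1)
  haveI := finite_sub (hull_le hP.1)
  have hηm : ∀ w, η w ∈ P' ⊔ centralizerIn S P' := mapsTo_of_sup
    (fun x => by rw [hη1]; exact (le_sup_left : P' ≤ P' ⊔ _) (hr.le ⟨x, rfl⟩))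
    (fun c => (le_sup_right : _ ≤ P' ⊔ centralizerIn S P') (hηc c))
  obtain ⟨φi, hφi, hri, -⟩ := exists_inv hφ hr
  obtain ⟨η', hη', hη'1, hη'c⟩ := exists_hull_map (receptive_of_fullyCentralized hS hF hP) hφi hri
  have hηr : η.range = P' ⊔ centralizerIn S P' :=
    range_eq_of_mem hη hηm (card_le_of_hom hη' (mapsTo_of_sup
      (fun x => by rw [hη'1]; exact (le_sup_left : P ≤ P ⊔ _) (hri.le ⟨x, rfl⟩))
      (fun c => (le_sup_right : _ ≤ P ⊔ centralizerIn S P) (hη'c c))))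
  obtain ⟨ηi, hηi, -, hηl, -⟩ := exists_inv hη hηr
  obtain ⟨D₁, hD₁, hD₁e⟩ := exists_comp hη hD' hηm
  have hD₁m : ∀ w, D₁ w ∈ P' ⊔ centralizerIn S P' := fun w => by
    rw [hD₁e]
    exact mapsTo_of_sup (R := P' ⊔ centralizerIn S P')
      (fun y => by rw [hD'1]; exact (le_sup_left : P' ≤ P' ⊔ _) (SetLike.coe_mem _))
      (fun c => (le_sup_right : _ ≤ P' ⊔ centralizerIn S P') (apply_centralizer_mem hD' (fun y hy =>
        ⟨(MulAut.congr (homEquiv hφ hr) β)⁻¹ ⟨y, hy⟩, by rw [hD'1, MulAut.apply_inv_self]⟩) c)) _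
  obtain ⟨D, hD, hDe⟩ := exists_comp hD₁ hηi hD₁m
  refine ⟨D, hD, fun x => ?_, fun c => ?_⟩
  · have e : D₁ (Subgroup.inclusion le_sup_left x) = η (Subgroup.inclusion le_sup_left (β x)) := by
      rw [hD₁e, show (⟨η (Subgroup.inclusion le_sup_left x), hηm _⟩ : ↥(P' ⊔ centralizerIn S P')) =
        Subgroup.inclusion le_sup_left (homEquiv hφ hr x) from Subtype.ext (hη1 x), hD'1, congr_apply_map, hη1]
    rw [hDe]
    exact (congrArg ηi (Subtype.ext e : (⟨_, hD₁m _⟩ : ↥(P' ⊔ centralizerIn S P')) = ⟨_, hηm _⟩)).trans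
      (hηl _ _)
  · set cX : ↥(P ⊔ centralizerIn S P) := Subgroup.inclusion le_sup_right c with hcX
    set d : centralizerIn S P' := ⟨η cX, hηc c⟩ with hd
    have hτ := hD'2 d
    have e : D₁ cX = D' (Subgroup.inclusion le_sup_right d) := by rw [hD₁e]; rfl
    rw [← e] at hτ
    have hτX : (d : Ω)⁻¹ * D₁ cX ∈ P' ⊔ centralizerIn S P' := mul_mem (inv_mem (hηm cX)) (hD₁m cX)
    have key : (⟨D₁ cX, hD₁m cX⟩ : ↥(P' ⊔ centralizerIn S P')) = ⟨η cX, hηm cX⟩ * ⟨_, hτX⟩ :=
      Subtype.ext (mul_inv_cancel_left _ _).symm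
    rw [hDe, key, map_mul, hηl]
    show (c : Ω)⁻¹ * ((c : Ω) * _) ∈ T
    rw [inv_mul_cancel_left]
    exact stronglyClosed_apply_mem hsc hηi (x := ⟨_, hτX⟩) hτ

/-- A fully normalised conjugate whose normaliser in `T` is fully normalised. -/
theorem exists_prepared (hS : IsPGroup p S) (hF : F.IsSaturated p) (hsc : F.StronglyClosed T)
    (hPT : P ≤ T) : ∃ P' : Subgroup Ω, F.IsConj P P' ∧ P' ≤ T ∧ F.IsFullyNormalized P' ∧
      F.IsFullyNormalized (normalizerIn T P') := by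
  obtain ⟨P₁, hP₁c, hP₁⟩ := exists_isFullyNormalized F (hPT.trans hsc.1)
  have hP₁T : P₁ ≤ T := by
    obtain ⟨φ, hφ, rfl⟩ := hP₁c
    rintro _ ⟨x, rfl⟩
    exact stronglyClosed_apply_mem hsc hφ (hPT x.2)
  set R₁ := normalizerIn T P₁ with hR₁
  have hR₁S : R₁ ≤ S := (normalizerIn_le P₁).trans hsc.1
  haveI := finite_sub hR₁S
  obtain ⟨R, hR₁R, hR⟩ := exists_isFullyNormalized F hR₁S
  obtain ⟨χ, hχ, hχm, hχR⟩ := exists_normalizer_map hS hF hR hR₁R
  have hNN : normalizerIn S P₁ ≤ normalizerIn S R₁ := fun g hg =>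
    ⟨hg.1, mem_normalizer_of_conj_mem fun y hy =>
      ⟨conj_mem_of_normalizer (stronglyClosed_le_normalizer hsc hg.1) hy.1,
        mul_mem (mul_mem hg.2 hy.2) ((Subgroup.normalizer (P₁ : Set Ω)).inv_mem hg.2)⟩⟩
  have hP₁R₁ : P₁ ≤ R₁ := le_normalizerIn hP₁T
  have hP₁N : P₁ ≤ normalizerIn S R₁ := (le_normalizerIn hP₁.1).trans hNN
  obtain ⟨χP, hχP, hχPe⟩ := exists_restrict hχ hP₁N
  obtain ⟨χN, hχN, hχNe⟩ := exists_restrict hχ hNN
  set P₂ := χP.range with hP₂
  have hP₂S : P₂ ≤ S := range_le_base hχP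
  haveI := finite_sub hP₂S
  have hconj : F.IsConj P₁ P₂ := ⟨χP, hχP, rfl⟩
  have hP₂T : P₂ ≤ T := by
    rintro _ ⟨x, rfl⟩
    exact stronglyClosed_apply_mem hsc hχP (hP₁T x.2)
  have hinto : ∀ g : normalizerIn S P₁, χN g ∈ normalizerIn S P₂ := fun g => by
    refine ⟨apply_mem hχN g, mem_normalizer_of_conj_mem ?_⟩
    rintro _ ⟨x, rfl⟩
    have hx : (g : Ω) * x * (g : Ω)⁻¹ ∈ P₁ := conj_mem_of_normalizer g.2.2 x.2
    refine ⟨⟨_, hx⟩, ?_⟩
    rw [hχPe, hχPe, hχNe, ← map_inv, ← map_mul, ← map_mul]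
    rfl
  haveI := finite_sub (normalizerIn_le (S := S) P₂)
  have hP₂n : F.IsFullyNormalized P₂ :=
    ⟨hP₂S, fun Q hQ => (hP₁.2 Q (isConj_trans hconj hQ)).trans (card_le_of_hom hχN hinto)⟩
  refine ⟨P₂, isConj_trans hP₁c hconj, hP₂T, hP₂n, ?_⟩
  have hRle : R ≤ normalizerIn T P₂ := by
    rw [← hχR]
    rintro _ ⟨w, hw, rfl⟩
    have hwN : (w : Ω) ∈ normalizerIn S P₁ := ⟨w.2.1, (Subgroup.mem_subgroupOf.1 hw).2⟩
    refine ⟨stronglyClosed_apply_mem hsc hχ (Subgroup.mem_subgroupOf.1 hw).1, ?_⟩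
    have := (hinto ⟨w, hwN⟩).2
    rwa [hχNe] at this
  obtain ⟨η, hη, hηm, -⟩ := exists_normalizer_map hS hF hP₁ (isConj_symm hconj)
  obtain ⟨η', hη', hη'e⟩ := exists_restrict hη
    (fun g hg => ⟨hsc.1 hg.1, hg.2⟩ : normalizerIn T P₂ ≤ normalizerIn S P₂)
  haveI := finite_sub ((normalizerIn_le (S := T) P₂).trans hsc.1)
  have hle : Nat.card (normalizerIn T P₂) ≤ Nat.card R := by
    rw [isConj_card hR₁R]
    exact card_le_of_hom hη' fun x =>
      ⟨stronglyClosed_apply_mem hsc hη' x.2.1, by rw [hη'e]; exact (hηm _).2⟩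
  rwa [← Subgroup.eq_of_le_of_card_ge hRle hle]

/-- The prepared case. -/
theorem autE_le_mv_prepared (hS : IsPGroup p S) (hE : E.IsNormalIn F p) (hPT : P < T)
    (hP : F.IsFullyNormalized P) (hR : F.IsFullyNormalized (normalizerIn T P))
    (hMV : ∀ a ∈ E.autGroup (normalizerIn T P), MV F T (normalizerIn T P) a) :
    ∀ a ∈ E.autGroup P, MV F T P a := by
  have hF := hE.1.2.1
  have hsc := hE.1.2.2.2.1
  have hTS := hsc.1
  haveI := finite_sub hTS
  haveI := finite_sub hP.1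
  have hTp : IsPGroup p T := isPGroup_of_le hS hTS
  have hPc := (fullyNormalized_props hS hF hP).1
  set R := normalizerIn T P with hRdef
  have hPR : P ≤ R := le_normalizerIn hPT.le
  set M := mvSub hsc hP.1 ⊓ E.autGroup P with hM
  have hTA : autInducedBy T P ≤ E.autGroup P := autInducedBy_le_autGroup E hPT.le
  have hTM : autInducedBy T P ≤ M := fun a ha => by
    obtain ⟨t, ht, hte⟩ := mem_autInducedBy.1 ha
    exact ⟨MV.conj hsc hP.1 ht hte, hTA ha⟩
  obtain ⟨Sy, hSy⟩ := (fullyAutomizedE hS hE hPT.le hP).2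
  have hMn : ∀ a ∈ E.autGroup P, ∀ m ∈ M, a * m * a⁻¹ ∈ M := by
    intro a ha m hm
    refine ⟨?_, mul_mem (mul_mem ha hm.2) ((E.autGroup P).inv_mem ha)⟩
    obtain ⟨φ, hφ, hr, he⟩ := exists_hom_of_aut hP.1 ((autE_le_autF hE.1.2.2.1 hPT.le) ((E.autGroup P).inv_mem ha))
    have h : MV F T P (MulAut.congr (homEquiv hφ hr) (a * m * a⁻¹)) := by
      rw [congr_eq_conj hφ hr,
        show (homEquiv hφ hr : MulAut P) = a⁻¹ from MulEquiv.ext fun x => Subtype.ext (he x)]
      have h1 : MV F T P m := hm.1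
      simpa [mul_assoc] using h1
    exact MV.of_congr hS hF hsc hPc hPc hφ hr h
  have hbound : ∀ K ≤ E.autGroup P, IsPGroup p K → Nat.card K ≤ Nat.card (autInducedBy T P) := by
    intro K hK hKp
    obtain ⟨a, -, ha⟩ := exists_conj_le_sylow Sy hSy hK hKp
    exact Nat.card_le_card_of_injective (fun k : K => (⟨a * k * a⁻¹, ha k k.2⟩ : autInducedBy T P))
      fun s t h => Subtype.ext (mul_left_cancel (mul_right_cancel (congrArg Subtype.val h)))
  have hTpa : IsPGroup p (autInducedBy T P) := isPGroup_autInducedBy_of_le hS hTS P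
  obtain ⟨SyM, hSyM⟩ := exists_sylow_of_card_ge (A := M) hTM hTpa default (by
    rw [Nat.card_congr ((default : Sylow p M).1.equivMapOfInjective M.subtype M.subtype_injective).toEquiv]
    exact hbound _ ((Subgroup.map_subtype_le _).trans inf_le_right) ((default : Sylow p M).2.map _))
  -- an automorphism of order prime to `p` normalising `Aut_T(P)`
  have hcop : ∀ β ∈ E.autGroup P, (∀ k ∈ autInducedBy T P, β * k * β⁻¹ ∈ autInducedBy T P) →
      ¬ p ∣ orderOf β → MV F T P β := by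
    intro β hβ hβn hord
    obtain ⟨ψ, hψ, hψe⟩ := FusionP3.Induction.exists_extend_aut
      (receptive_of_fullyNormalized hTp hE.1.1 (fnE hS hE hPT.le hP)) (R := R) le_rfl hβ (by
        intro g hg
        have hk : P.normalizerMonoidHom ⟨g, hg.2⟩ ∈ autInducedBy T P :=
          mem_autInducedBy.2 ⟨g, hg.1, fun _ => rfl⟩
        obtain ⟨h, hh, he⟩ := mem_autInducedBy.1 (hβn _ hk)
        refine ⟨h, hh, fun x hx => ?_⟩
        rw [← he (β x)]
        simp only [MulAut.mul_apply, MulAut.inv_apply_self]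
        rfl)
    have hψP : ∀ x : P, ψ ⟨x, hPR x.2⟩ = ((β x : P) : Ω) := fun x => hψe x x.2 _
    obtain ⟨δ₀, hδ₀, hδ₀e⟩ := exists_aut hψ fun g => by
      refine ⟨apply_mem hψ g, mem_normalizer_of_conj_mem fun y hy => ?_⟩
      obtain ⟨x, hx⟩ : ∃ x : P, ψ ⟨x, hPR x.2⟩ = y := ⟨β⁻¹ ⟨y, hy⟩, by rw [hψP, MulAut.apply_inv_self]⟩
      rw [← hx, ← map_inv, ← map_mul, ← map_mul]
      have h : (g : Ω) * x * (g : Ω)⁻¹ ∈ P := conj_mem_of_normalizer g.2.2 x.2
      exact (hψe _ h _).symm ▸ SetLike.coe_mem _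
    obtain ⟨D, hD, δ, hδ, hδβ, hD1, hD2⟩ := exists_lift hS hE hPc hPR (normalizerIn_le P) hR
      ((centralizerIn_anti hPR).trans (centralizerIn_le_normalizerIn P))
      (fun g hg => by
        haveI := finite_sub hR.1
        refine mem_normalizer_of_conj_mem fun y hy => ?_
        exact ⟨conj_mem_of_normalizer (stronglyClosed_le_normalizer hsc hg.1) hy.1,
          mul_mem (mul_mem (Subgroup.centralizer_le_normalizer _ hg.2) hy.2)
            ((Subgroup.normalizer (P : Set Ω)).inv_mem (Subgroup.centralizer_le_normalizer _ hg.2))⟩)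
      hMV hδ₀ (β := β) (fun x => (hδ₀e _).trans (hψP x)) hord
    obtain ⟨D', hD', hD'e⟩ := exists_restrict hD (sup_le_sup_right hPR (centralizerIn S P))
    exact ⟨D', hD', fun x => by rw [hD'e]; exact (hD1 (Subgroup.inclusion hPR x)).trans (hδβ x),
      fun c => by rw [hD'e]; exact hD2 c⟩
  -- the normaliser of `Aut_T(P)`
  set N := E.autGroup P ⊓ Subgroup.normalizer ((autInducedBy T P : Subgroup (MulAut P)) : Set (MulAut P))
    with hN
  obtain ⟨SyN, hSyN⟩ := exists_sylow_of_card_ge (A := N) (le_inf hTA Subgroup.le_normalizer) hTpa default (by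
    rw [Nat.card_congr ((default : Sylow p N).1.equivMapOfInjective N.subtype N.subtype_injective).toEquiv]
    exact hbound _ ((Subgroup.map_subtype_le _).trans inf_le_left) ((default : Sylow p N).2.map _))
  have hNle : N ≤ mvSub hsc hP.1 := by
    intro a ha
    have hgen := (closure_prime_to_sup_sylow SyN).ge (Subgroup.mem_top (⟨a, ha⟩ : N))
    refine ((?_ : _ ⊔ _ ≤ (mvSub hsc hP.1).subgroupOf N) hgen :)
    refine sup_le ((Subgroup.closure_le _).2 fun x hx => ?_) fun x hx => ?_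
    · exact hcop x x.2.1 (fun k hk => (Subgroup.mem_normalizer_iff.1 x.2.2 k).1 hk)
        (by rwa [Subgroup.orderOf_coe])
    · rw [hSyN, Subgroup.mem_subgroupOf] at hx
      exact (hTM hx).1
  intro a ha
  obtain ⟨m, hm, hmc⟩ := exists_conj_le_sylow SyM hSyM
    (T := (autInducedBy T P).map (MulAut.conj a).toMonoidHom)
    (by rintro _ ⟨k, hk, rfl⟩; exact hMn a ha k (hTM hk)) (hTpa.map _)
  have hmem : m * a ∈ N := by
    refine ⟨mul_mem hm.2 ha, mem_normalizer_of_conj_mem fun k hk => ?_⟩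
    have h := hmc _ ⟨k, hk, rfl⟩
    simpa [mul_assoc] using h
  have h := (mvSub hsc hP.1).mul_mem ((mvSub hsc hP.1).inv_mem hm.1) (hNle hmem)
  rwa [inv_mul_cancel_left] at h

/-- Every element of `Aut_E(P)` moves `C_S(P)` within cosets of `T`, for `P` fully centralised. -/
theorem autE_mv (hS : IsPGroup p S) (hE : E.IsNormalIn F p) :
    ∀ P : Subgroup Ω, P ≤ T → F.IsFullyCentralized P → ∀ a ∈ E.autGroup P, MV F T P a := by
  have hF := hE.1.2.1
  have hsc := hE.1.2.2.2.1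
  haveI := finite_sub hsc.1
  suffices key : ∀ (m : ℕ) (P : Subgroup Ω), P ≤ T → Nat.card T - Nat.card P = m → F.IsFullyCentralized P →
      ∀ a ∈ E.autGroup P, MV F T P a from fun P hP => key _ P hP rfl
  intro m
  induction m using Nat.strong_induction_on with
  | _ m ih =>
  intro P hPT hm hPc a ha
  rcases eq_or_lt_of_le hPT with rfl | hlt
  · obtain ⟨β, hβ, hβ1, hβ2⟩ := hE.2 a ha
    obtain ⟨φ, hφ, -, hφe⟩ := exists_hom_of_aut (hull_le hsc.1) hβ
    refine ⟨φ, hφ, fun x => by rw [hφe]; exact hβ1 x, fun c => ?_⟩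
    rw [hφe]
    exact (hβ2 (Subgroup.inclusion le_sup_right c) c.2).1
  obtain ⟨P', hPP', hP'T, hP'n, hR'n⟩ := exists_prepared hS hF hsc hPT
  obtain ⟨φ, hφ, hr⟩ := id hPP'
  have hcard : Nat.card P' = Nat.card P := isConj_card hPP'
  have hlt' : P' < T := lt_of_le_of_ne hP'T fun h => hlt.ne (Subgroup.eq_of_le_of_card_ge hlt.le
    (by rw [← hcard, h]))
  refine MV.of_congr hS hF hsc hPc (fullyNormalized_props hS hF hP'n).1 hφ hr
    (autE_le_mv_prepared hS hE hlt' hP'n hR'n (fun b hb => ?_) _ (autE_congr hE hPT hφ hr ha))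
  refine ih _ ?_ _ (normalizerIn_le P') rfl (fullyNormalized_props hS hF hR'n).1 b hb
  have hltR : P' < normalizerIn T P' :=
    FusionP3.Induction.lt_normalizerIn (isPGroup_of_le hS hsc.1) hlt'
  haveI := finite_sub hR'n.1
  have h1 : Nat.card P' < Nat.card (normalizerIn T P') :=
    lt_of_not_ge fun h => hltR.ne (Subgroup.eq_of_le_of_card_ge hltR.le h)
  have h2 : Nat.card (normalizerIn T P') ≤ Nat.card T := Subgroup.card_le_of_le (normalizerIn_le P')
  omega

end Cfsg.Agent.Lib.FS.Inter
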