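import Cfsg.Agent.Lib.FusionSystem.NormalMoves
import Cfsg.Agent.Lib.FusionSystem.CentralLift.Automizer
import Cfsg.Agent.Lib.FusionSystem.CentralLift.Commutator

/-!
Basic tools for intersections of normal subsystems: restricting automorphisms, hulls `P C_S(P)`, and facts
about subgroups of `T` fully normalised or fully centralised in `F` when `E` is normal in `F` over `T`.
-/

set_option autoImplicit false
set_option linter.style.haveILetI false
set_option linter.unusedSectionVars false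

namespace Cfsg.Agent.Lib.FS.Inter

open Cfsg Cfsg.FusionSystem Cfsg.Agent.Lib Cfsg.Agent.Lib.FS Cfsg.Agent.Lib.FS.NormalCentralizer
open Cfsg.Agent.Lib.FS.NormalCentralizer.Odd (autE_congr)
open Cfsg.Agent.Lib.FS.CentralLift (Restr)

variable {Ω : Type*} [Group Ω] {S T : Subgroup Ω} {F : FusionSystem S} {E : FusionSystem T}

/-- `MV(P, β)`: `β` extends to `P C_S(P)` moving the elements of `C_S(P)` within their cosets of `T`. -/
def MV (F : FusionSystem S) (T P : Subgroup Ω) (β : MulAut P) : Prop :=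
  ∃ D ∈ F.Hom (P ⊔ centralizerIn S P), (∀ x : P, D (Subgroup.inclusion le_sup_left x) = ((β x : P) : Ω)) ∧
    ∀ c : centralizerIn S P, (c : Ω)⁻¹ * D (Subgroup.inclusion le_sup_right c) ∈ T

theorem hull_le {P : Subgroup Ω} (hP : P ≤ S) : P ⊔ centralizerIn S P ≤ S :=
  sup_le hP (centralizerIn_le P)

/-- A map defined on a join is into `R` when it is so on both factors. -/
theorem mapsTo_of_sup {A B R : Subgroup Ω} {χ : ↥(A ⊔ B) →* Ω}
    (hA : ∀ x : A, χ (Subgroup.inclusion le_sup_left x) ∈ R)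
    (hB : ∀ x : B, χ (Subgroup.inclusion le_sup_right x) ∈ R) (w : ↥(A ⊔ B)) : χ w ∈ R :=
  mapsTo_sup hA hB w

/-- A map of the system with values in its finite source is an automorphism of it. -/
theorem exists_aut [Finite S] {P : Subgroup Ω} {φ : P →* Ω} (hφ : φ ∈ F.Hom P) (h : ∀ x, φ x ∈ P) :
    ∃ a ∈ F.autGroup P, ∀ x, ((a x : P) : Ω) = φ x := by
  haveI := finite_sub (src_le hφ)
  exact ⟨_, homEquiv_mem_autGroup hφ (range_eq_of_mem hφ h le_rfl), fun x => rfl⟩

/-- An automorphism preserving a subgroup restricts to it. -/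
theorem exists_restr [Finite S] {P Q : Subgroup Ω} (hPQ : P ≤ Q) (hQ : Q ≤ S) {a : MulAut Q}
    (ha : a ∈ F.autGroup Q) (h : ∀ x : P, ((a (Subgroup.inclusion hPQ x) : Q) : Ω) ∈ P) :
    ∃ b ∈ F.autGroup P, Restr hPQ a b := by
  obtain ⟨φ, hφ, -, he⟩ := exists_hom_of_aut hQ ha
  obtain ⟨ψ, hψ, hψe⟩ := exists_restrict hφ hPQ
  obtain ⟨b, hb, hbe⟩ := exists_aut hψ fun x => by rw [hψe, he]; exact h x
  exact ⟨b, hb, fun x => ((hbe x).trans ((hψe x).trans (he _))).symm⟩

theorem restr_mem {P Q : Subgroup Ω} {hPQ : P ≤ Q} {a : MulAut Q} {b : MulAut P} (h : Restr hPQ a b) {x : Q}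
    (hx : (x : Ω) ∈ P) : ((a x : Q) : Ω) ∈ P := by
  rw [show x = Subgroup.inclusion hPQ ⟨x, hx⟩ from Subtype.ext rfl, h]
  exact SetLike.coe_mem _

theorem restr_apply {P Q : Subgroup Ω} {hPQ : P ≤ Q} {a : MulAut Q} {b : MulAut P} (h : Restr hPQ a b) {x : Q}
    (hx : (x : Ω) ∈ P) : ((a x : Q) : Ω) = ((b ⟨x, hx⟩ : P) : Ω) :=
  h ⟨x, hx⟩

theorem restr_trans {P Q R : Subgroup Ω} {hPQ : P ≤ Q} {hQR : Q ≤ R} {a : MulAut R} {b : MulAut Q}
    {c : MulAut P} (h₁ : Restr hQR a b) (h₂ : Restr hPQ b c) : Restr (hPQ.trans hQR) a c :=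
  fun x => (h₁ (Subgroup.inclusion hPQ x)).trans (h₂ x)

/-- A map of the system on `P C_S(P)` carries `C_S(P)` into the centraliser of the image of `P`. -/
theorem apply_centralizer_mem {P Q : Subgroup Ω} {D : ↥(P ⊔ centralizerIn S P) →* Ω}
    (hD : D ∈ F.Hom (P ⊔ centralizerIn S P))
    (hQ : ∀ y ∈ Q, ∃ x : P, D (Subgroup.inclusion le_sup_left x) = y) (c : centralizerIn S P) :
    D (Subgroup.inclusion le_sup_right c) ∈ centralizerIn S Q := by
  refine mem_centralizerIn.2 ⟨apply_mem hD _, fun y hy => ?_⟩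
  obtain ⟨x, rfl⟩ := hQ y hy
  rw [← map_mul, ← map_mul]
  exact congrArg D (Subtype.ext ((mem_centralizerIn.1 c.2).2 x x.2))

/-- A map onto a receptive subgroup extends to `P C_S(P)`. -/
theorem exists_hull_map {P Q : Subgroup Ω} (hrec : F.IsReceptive Q) {φ : P →* Ω} (hφ : φ ∈ F.Hom P)
    (hr : φ.range = Q) : ∃ η ∈ F.Hom (P ⊔ centralizerIn S P),
      (∀ x : P, η (Subgroup.inclusion le_sup_left x) = φ x) ∧
      ∀ c : centralizerIn S P, η (Subgroup.inclusion le_sup_right c) ∈ centralizerIn S Q := by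
  obtain ⟨ψ, hψ, he⟩ := hrec.2 P φ hφ hr
  obtain ⟨η, hη, hηe⟩ := exists_restrict hψ
    (sup_le (le_extender (src_le hφ) (apply_mem hφ)) (centralizerIn_le_extender P φ))
  have h1 : ∀ x : P, η (Subgroup.inclusion le_sup_left x) = φ x := fun x => by
    rw [hηe]; exact he x x.2 _
  refine ⟨η, hη, h1, fun c => apply_centralizer_mem hη (fun y hy => ?_) c⟩
  obtain ⟨x, rfl⟩ := hr.ge hy
  exact ⟨x, h1 x⟩

section

variable [Finite S] {p : ℕ} [hp : Fact p.Prime]

omit hp in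
/-- A fully centralised subgroup of `T` is fully centralised in the subsystem over `T`. -/
theorem fc_sub (hsub : E.IsSubsystemOf F) (hsc : F.StronglyClosed T) {P : Subgroup Ω} (hPT : P ≤ T)
    (hrec : F.IsReceptive P) : E.IsFullyCentralized P := by
  refine ⟨hPT, fun Q hQ => ?_⟩
  obtain ⟨φ, hφ, hr⟩ := id hQ
  have hPQ : F.IsConj P Q := ⟨φ, hsub P hφ, hr⟩
  obtain ⟨ψ, hψ, hψr⟩ := isConj_symm hPQ
  obtain ⟨η, hη, -, hηc⟩ := exists_hull_map hrec hψ hψr
  obtain ⟨η', hη', hη'e⟩ := exists_restrict hη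
    ((fun g hg => (le_sup_right : centralizerIn S Q ≤ Q ⊔ centralizerIn S Q) ⟨hsc.1 hg.1, hg.2⟩) :
      centralizerIn T Q ≤ Q ⊔ centralizerIn S Q)
  haveI := finite_sub ((centralizerIn_le (S := T) P).trans hsc.1)
  refine card_le_of_hom hη' fun c => ⟨stronglyClosed_apply_mem hsc hη' c.2.1, ?_⟩
  rw [hη'e]
  exact (hηc ⟨c, hsc.1 c.2.1, c.2.2⟩).2

theorem receptiveE (hS : IsPGroup p S) (hE : E.IsNormalIn F p) {P : Subgroup Ω} (hPT : P ≤ T)
    (hP : F.IsFullyCentralized P) : E.IsReceptive P := by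
  haveI := finite_sub hE.1.2.2.2.1.1
  exact receptive_of_fullyCentralized (isPGroup_of_le hS hE.1.2.2.2.1.1) hE.1.1
    (fc_sub hE.1.2.2.1 hE.1.2.2.2.1 hPT (receptive_of_fullyCentralized hS hE.1.2.1 hP))

/-- A fully normalised subgroup of `T` is fully normalised in the normal subsystem. -/
theorem fnE (hS : IsPGroup p S) (hE : E.IsNormalIn F p) {U : Subgroup Ω} (hUT : U ≤ T)
    (hU : F.IsFullyNormalized U) : E.IsFullyNormalized U := by
  have hsc := hE.1.2.2.2.1
  refine ⟨hUT, fun R hR => ?_⟩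
  obtain ⟨φ, hφ, rfl⟩ := hR
  obtain ⟨η, hη, hηm, -⟩ := exists_normalizer_map hS hE.1.2.1 hU
    (isConj_symm ⟨φ, hE.1.2.2.1 U hφ, rfl⟩)
  obtain ⟨η', hη', he⟩ := exists_restrict hη
    (fun g hg => ⟨hsc.1 hg.1, hg.2⟩ : normalizerIn T φ.range ≤ normalizerIn S φ.range)
  haveI := finite_sub ((normalizerIn_le (S := T) U).trans hsc.1)
  exact card_le_of_hom hη' fun x =>
    ⟨stronglyClosed_apply_mem hsc hη' x.2.1, by rw [he]; exact (hηm _).2⟩

theorem fullyAutomizedE (hS : IsPGroup p S) (hE : E.IsNormalIn F p) {U : Subgroup Ω} (hUT : U ≤ T)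
    (hU : F.IsFullyNormalized U) : E.IsFullyAutomized p U := by
  haveI := finite_sub hE.1.2.2.2.1.1
  exact fullyAutomized_of_fullyNormalized (isPGroup_of_le hS hE.1.2.2.2.1.1) hE.1.1 (fnE hS hE hUT hU)

/-- On a fully normalised subgroup the automorphisms of `E` induced by `S` are induced by `T`. -/
theorem autE_inter_autS (hS : IsPGroup p S) (hE : E.IsNormalIn F p) {U : Subgroup Ω} (hUT : U ≤ T)
    (hU : F.IsFullyNormalized U) {a : MulAut U} (haE : a ∈ E.autGroup U) (haS : a ∈ autInducedBy S U) :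
    a ∈ autInducedBy T U := by
  have hTS := hE.1.2.2.2.1.1
  haveI := finite_sub (hUT.trans hTS)
  obtain ⟨R, hR⟩ := (fullyAutomizedE hS hE hUT hU).2
  set K := E.autGroup U ⊓ autInducedBy S U with hK
  have hKp : IsPGroup p (K.subgroupOf (E.autGroup U)) :=
    ((isPGroup_autInducedBy hS U).to_le inf_le_right).of_equiv
      (Subgroup.subgroupOfEquivOfLe inf_le_left).symm
  have hle : (R : Subgroup (E.autGroup U)) ≤ K.subgroupOf (E.autGroup U) := by
    intro x hx
    rw [hR, Subgroup.mem_subgroupOf] at hx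
    obtain ⟨g, hg, he⟩ := mem_autInducedBy.1 hx
    exact ⟨x.2, mem_autInducedBy.2 ⟨g, hTS hg, he⟩⟩
  have h : (⟨a, haE⟩ : E.autGroup U) ∈ (R : Subgroup (E.autGroup U)) :=
    (R.3 hKp hle).le (show (⟨a, haE⟩ : E.autGroup U) ∈ K.subgroupOf (E.autGroup U) from ⟨haE, haS⟩)
  rwa [hR, Subgroup.mem_subgroupOf] at h

/-- `Aut_E(U)` is normal in `Aut_F(U)`. -/
theorem autE_normal (hE : E.IsNormalIn F p) {U : Subgroup Ω} (hUT : U ≤ T) {a g : MulAut U}
    (ha : a ∈ E.autGroup U) (hg : g ∈ F.autGroup U) : g * a * g⁻¹ ∈ E.autGroup U := by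
  obtain ⟨φ, hφ, hr, he⟩ := exists_hom_of_aut (hUT.trans hE.1.2.2.2.1.1) hg
  have h := autE_congr hE hUT hφ hr ha
  rwa [CentralLift.congr_eq_conj hφ hr,
    show (homEquiv hφ hr : MulAut U) = g from MulEquiv.ext fun x => Subtype.ext (he x)] at h

omit hp in
theorem autE_le_autF (hsub : E.IsSubsystemOf F) {U : Subgroup Ω} (hUT : U ≤ T) :
    E.autGroup U ≤ F.autGroup U := fun a ha => by
  obtain ⟨φ, hφ, -, he⟩ := exists_hom_of_aut hUT ha
  exact mem_autGroup_of_hom (hsub U hφ) fun x => (he x).symm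

omit hp in
theorem autInducedBy_mono {K K' U : Subgroup Ω} (h : K ≤ K') : autInducedBy K U ≤ autInducedBy K' U :=
  fun a ha => by
    obtain ⟨g, hg, he⟩ := mem_autInducedBy.1 ha
    exact mem_autInducedBy.2 ⟨g, h hg, he⟩

/-- A normal `p`-subgroup of the automiser of a fully automised subgroup is induced by `S`. -/
theorem le_autS_of_normal {P : Subgroup Ω} (h : F.IsFullyAutomized p P) {K : Subgroup (MulAut P)}
    (hK : K ≤ F.autGroup P) (hn : ∀ a ∈ F.autGroup P, ∀ k ∈ K, a * k * a⁻¹ ∈ K) (hKp : IsPGroup p K) :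
    K ≤ autInducedBy S P := by
  haveI := finite_sub h.1
  obtain ⟨R, hR⟩ := h.2
  obtain ⟨a, ha, hconj⟩ := exists_conj_le_sylow R hR hK hKp
  intro k hk
  have := hconj _ (hn a⁻¹ (inv_mem ha) k hk)
  simpa [mul_assoc] using this

end

end Cfsg.Agent.Lib.FS.Inter
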