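import Cfsg.Agent.Lib.FusionSystem.Normalizer
import Cfsg.Agent.Lib.FusionSystem.NormalFacts
import Cfsg.Agent.Lib.FusionSystem.Inter.Basic
import Cfsg.Agent.Lib.FusionP3.Induction

/-!
Maps between subgroups of `N_A(Q)` extend to `N_A(Q)` when their restriction to `Q` normalises `Aut_A(Q)`,
for `A` strongly closed and `Q` receptive with `C_A(Q) ≤ Q`.
-/

set_option autoImplicit false
set_option linter.style.haveILetI false
set_option linter.unusedSectionVars false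

namespace Cfsg.Agent.Lib.FS.Inter

open Cfsg Cfsg.FusionSystem Cfsg.Agent.Lib Cfsg.Agent.Lib.FS
open scoped commutatorElement

variable {Ω : Type*} [Group Ω] {S A Q : Subgroup Ω} {F : FusionSystem S}

/-- Maps on subgroups of `N_A(Q)` normalising `Aut_A(Q)` on `Q` extend to `N_A(Q)`. -/
def ExtN (F : FusionSystem S) (A Q : Subgroup Ω) : Prop :=
  ∀ (Y : Subgroup Ω) (hQY : Q ≤ Y) (hYN : Y ≤ normalizerIn A Q), ∀ k ∈ F.Hom Y, ∀ g : MulAut Q,
    (∀ x : Q, k ⟨x, hQY x.2⟩ = ((g x : Q) : Ω)) →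
    (∀ c ∈ autInducedBy A Q, g * c * g⁻¹ ∈ autInducedBy A Q) →
    ∃ x ∈ F.autGroup (normalizerIn A Q), ∀ y : Y,
      ((x ⟨y, hYN y.2⟩ : normalizerIn A Q) : Ω) = k y

/-- The rule for values on `N_A(Q)`. -/
theorem apply_eq_mod (hsc : F.StronglyClosed A) (hC : centralizerIn A Q ≤ Q) {X : Subgroup Ω} {ψ : X →* Ω}
    (hψ : ψ ∈ F.Hom X) (hQX : Q ≤ X) {h : Ω} (hh : h ∈ normalizerIn A Q)
    (he : ∀ q : Q, ψ ⟨q, hQX q.2⟩ = h * q * h⁻¹) {x : X} (hx : (x : Ω) ∈ normalizerIn A Q) :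
    (h * x * h⁻¹)⁻¹ * ψ x ∈ Q := by
  refine hC (mem_centralizerIn'.2
    ⟨A.mul_mem (A.inv_mem (A.mul_mem (A.mul_mem hh.1 hx.1) (A.inv_mem hh.1)))
      (stronglyClosed_apply_mem hsc hψ hx.1), fun y hy => ?_⟩)
  have hq : h⁻¹ * y * h ∈ Q := conj_inv_mem_of_normalizer hh.2 hy
  have hq' : (x : Ω) * (h⁻¹ * y * h) * (x : Ω)⁻¹ ∈ Q := conj_mem_of_normalizer hx.2 hq
  have h1 : ψ x * y * (ψ x)⁻¹ = h * ((x : Ω) * (h⁻¹ * y * h) * (x : Ω)⁻¹) * h⁻¹ := by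
    have h2 : ψ ⟨h⁻¹ * y * h, hQX hq⟩ = y := by rw [he ⟨_, hq⟩]; group
    calc ψ x * y * (ψ x)⁻¹ = ψ x * ψ ⟨_, hQX hq⟩ * (ψ x)⁻¹ := by rw [h2]
      _ = ψ ⟨_, hQX hq'⟩ := by rw [← map_inv, ← map_mul, ← map_mul]; rfl
      _ = _ := he ⟨_, hq'⟩
  calc (h * x * h⁻¹)⁻¹ * ψ x * y * ((h * x * h⁻¹)⁻¹ * ψ x)⁻¹
      = (h * x * h⁻¹)⁻¹ * (ψ x * y * (ψ x)⁻¹) * (h * x * h⁻¹) := by group
    _ = y := by rw [h1]; group

/-- `N_A(Q)` is normal in the `Aut_A(Q)`-normaliser system of `Q`. -/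
theorem isNormal_normalizerA [Finite S] {p : ℕ} [Fact p.Prime] (hS : IsPGroup p S) {M : Subgroup Ω}
    (hsc : F.StronglyClosed A) (hQA : Q ≤ A) (hC : centralizerIn A Q ≤ Q)
    (hM : M = kNorm S Q.subtype (autInducedBy A Q)) {E : FusionSystem M}
    (hE : ∀ P, E.Hom P = kHom F (autInducedBy A Q) P) (hEs : E.IsSaturated p) :
    E.IsNormal (normalizerIn A Q) := by
  set N := normalizerIn A Q with hN
  have hNM : N ≤ M := fun g hg => hM.ge
    ⟨hsc.1 hg.1, Q.normalizerMonoidHom ⟨g, hg.2⟩, mem_autInducedBy.2 ⟨g, hg.1, fun _ => rfl⟩, fun _ => rfl⟩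
  have hMS : M ≤ S := hM.le.trans (kNorm_le _ _)
  haveI := finite_sub hMS
  haveI := finite_sub (hNM.trans hMS)
  have hMp : IsPGroup p M := isPGroup_of_le hS hMS
  haveI : Group.IsNilpotent N := (isPGroup_of_le hS (hNM.trans hMS)).isNilpotent
  obtain ⟨c, hc⟩ := Subgroup.nilpotent_iff_lowerCentralSeries.1 ‹Group.IsNilpotent N›
  have hQN : Q ≤ N := le_normalizerIn hQA
  set L : ℕ → Subgroup Ω := fun k => ((⊤ : Subgroup N).lowerCentralSeries k).map N.subtype with hL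
  have hLle : ∀ k, L k ≤ N := fun k => Subgroup.map_subtype_le _
  have hL0 : L 0 = N := by
    show ((⊤ : Subgroup N).lowerCentralSeries 0).map N.subtype = N
    rw [Subgroup.lowerCentralSeries_zero, ← MonoidHom.range_eq_map, Subgroup.range_subtype]
  have hLc : L c = ⊥ := by
    show ((⊤ : Subgroup N).lowerCentralSeries c).map N.subtype = ⊥
    rw [hc, Subgroup.map_bot]
  have hLcomm : ∀ k, ∀ n ∈ N, ∀ w ∈ L k, n * w * n⁻¹ * w⁻¹ ∈ L (k + 1) := by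
    intro k n hn w hw
    have h1 : L (k + 1) = ⁅L k, N⁆ := by
      show ((⊤ : Subgroup N).lowerCentralSeries (k + 1)).map N.subtype = _
      rw [Subgroup.lowerCentralSeries_succ, Subgroup.map_commutator, ← MonoidHom.range_eq_map,
        Subgroup.range_subtype]
    have h2 : ⁅w, n⁆ ∈ L (k + 1) := h1 ▸ Subgroup.commutator_mem_commutator hw hn
    have h3 := (L (k + 1)).inv_mem h2
    rw [commutatorElement_inv, commutatorElement_def] at h3
    exact h3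
  have hLanti : ∀ k, L (k + 1) ≤ L k := fun k =>
    Subgroup.map_mono (Subgroup.lowerCentralSeries_antitone _ (Nat.le_succ k))
  have hLn : ∀ k, ∀ n ∈ N, ∀ w ∈ L k, n * w * n⁻¹ ∈ L k := fun k n hn w hw => by
    have h1 := (L k).mul_mem (hLanti k (hLcomm k n hn w hw)) hw
    rwa [inv_mul_cancel_right] at h1
  -- strong closure
  have hclosed : ∀ V : Subgroup Ω, V ≤ N → (∀ n ∈ N, ∀ v ∈ V, n * v * n⁻¹ ∈ V) → (V ≤ Q ∨ Q ≤ V) →
      E.StronglyClosed V := by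
    intro V hVN hVn hcase
    refine ⟨hVN.trans hNM, fun R hR φ hφ x => ?_⟩
    rw [hE] at hφ
    obtain ⟨-, -, -, ψ, hψ, hψe, k, hk, hke⟩ := hφ
    obtain ⟨h, hh, hhe⟩ := mem_autInducedBy.1 hk
    have hhN : h ∈ N := ⟨hh, mem_normalizer_of_aut hhe⟩
    have hval : ∀ q : Q, ψ ⟨q, (le_sup_right : Q ≤ R ⊔ Q) q.2⟩ = h * q * h⁻¹ := fun q =>
      (hke q).trans (hhe q)
    rw [← hψe]
    rcases hcase with hVQ | hQV
    · exact (congrArg (· ∈ V) (hval ⟨x, hVQ (hR x.2)⟩)).mpr (hVn h hhN x (hR x.2))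
    · have h1 := apply_eq_mod hsc hC hψ le_sup_right hhN hval
        (x := Subgroup.inclusion le_sup_left x) (hVN (hR x.2))
      have h2 := V.mul_mem (hVn h hhN x (hR x.2)) (hQV h1)
      rwa [Subgroup.coe_inclusion, mul_inv_cancel_left] at h2
  let Qs : Fin (c + c + 1) → Subgroup Ω := fun i =>
    if (i : ℕ) ≤ c then L (c - i) ⊓ Q else Q ⊔ L (c + c - i)
  refine isNormal_of_series hMp hEs Qs ?_ ?_ (fun i => ?_) fun i => ?_
  · show (if (((0 : Fin (c + c + 1)) : ℕ) ≤ c) then _ else _) = ⊥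
    rw [if_pos (by simp), Fin.val_zero, Nat.sub_zero, hLc, bot_inf_eq]
  · rcases Nat.eq_zero_or_pos c with h0 | hpos
    · subst h0
      show (if ((Fin.last (0 + 0) : ℕ) ≤ 0) then _ else _) = N
      rw [if_pos (by simp)]
      have : N = ⊥ := hL0.symm.trans hLc
      rw [this] at hQN
      simp only [Fin.val_last, hL0, this, bot_inf_eq]
    · show (if ((Fin.last (c + c) : ℕ) ≤ c) then _ else _) = N
      rw [if_neg (by simp; omega)]
      simp only [Fin.val_last, Nat.sub_self, hL0]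
      exact sup_eq_right.2 hQN
  · show E.StronglyClosed (if (i.succ : ℕ) ≤ c then _ else _)
    split_ifs
    · exact hclosed _ (inf_le_left.trans (hLle _))
        (fun n hn v hv => ⟨hLn _ n hn v hv.1, conj_mem_of_normalizer hn.2 hv.2⟩) (Or.inl inf_le_right)
    · refine hclosed _ (sup_le hQN (hLle _)) (fun n hn v hv => ?_) (Or.inr le_sup_left)
      have hv' : v ∈ ((Q ⊔ L (c + c - i.succ) : Subgroup Ω) : Set Ω) := hv
      rw [Subgroup.coe_mul_of_right_le_normalizer_left Q _ fun g hg => (hLle _ hg).2] at hv'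
      obtain ⟨q, hq, w, hw, rfl⟩ := hv'
      rw [show n * (q * w) * n⁻¹ = n * q * n⁻¹ * (n * w * n⁻¹) by group]
      exact Subgroup.mul_mem_sup (conj_mem_of_normalizer hn.2 hq) (hLn _ n hn w hw)
  · refine (Subgroup.commutator_le).2 fun n hn v hv => ?_
    rw [commutatorElement_def]
    have hi : (i.succ : ℕ) = (i : ℕ) + 1 := by simp
    change v ∈ (if (i.succ : ℕ) ≤ c then _ else _) at hv
    show _ ∈ (if ((Fin.castSucc i : Fin _) : ℕ) ≤ c then _ else _)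
    simp only [Fin.val_castSucc]
    rcases lt_trichotomy (i : ℕ) c with hlt | heq | hgt
    · rw [if_pos (by omega)] at hv
      rw [if_pos hlt.le]
      refine ⟨?_, Q.mul_mem (conj_mem_of_normalizer hn.2 hv.2) (Q.inv_mem hv.2)⟩
      rw [show c - (i : ℕ) = c - (i.succ : ℕ) + 1 by omega]
      exact hLcomm _ n hn v hv.1
    · rw [if_neg (by omega)] at hv
      rw [if_pos heq.le, heq, Nat.sub_self, hL0]
      have hv' : v ∈ ((Q ⊔ L (c + c - i.succ) : Subgroup Ω) : Set Ω) := hv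
      rw [Subgroup.coe_mul_of_right_le_normalizer_left Q _ fun g hg => (hLle _ hg).2] at hv'
      obtain ⟨q, hq, w, hw, rfl⟩ := hv'
      have h3 := hLcomm _ n hn w hw
      rw [show c + c - (i.succ : ℕ) + 1 = c by omega, hLc, Subgroup.mem_bot, mul_inv_eq_one] at h3
      have h4 : n * (q * w) * n⁻¹ * (q * w)⁻¹ = n * q * n⁻¹ * q⁻¹ := by
        calc n * (q * w) * n⁻¹ * (q * w)⁻¹ = n * q * n⁻¹ * (n * w * n⁻¹) * w⁻¹ * q⁻¹ := by group
          _ = n * q * n⁻¹ * q⁻¹ := by rw [h3]; group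
      rw [h4]
      have h5 : n * q * n⁻¹ * q⁻¹ ∈ Q := Q.mul_mem (conj_mem_of_normalizer hn.2 hq) (Q.inv_mem hq)
      exact ⟨hQN h5, h5⟩
    · rw [if_neg (by omega)] at hv
      rw [if_neg (by omega)]
      have hv' : v ∈ ((Q ⊔ L (c + c - i.succ) : Subgroup Ω) : Set Ω) := hv
      rw [Subgroup.coe_mul_of_right_le_normalizer_left Q _ fun g hg => (hLle _ hg).2] at hv'
      obtain ⟨q, hq, w, hw, rfl⟩ := hv'
      have h3 := hLcomm _ n hn w hw
      rw [show c + c - (i.succ : ℕ) + 1 = c + c - (i : ℕ) by omega] at h3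
      have hqN : q ∈ N := hQN hq
      have hwN : w ∈ N := hLle _ hw
      rw [show n * (q * w) * n⁻¹ * (q * w)⁻¹ =
        (n * q * n⁻¹ * q⁻¹) * (q * (n * w * n⁻¹ * w⁻¹) * q⁻¹) by group]
      exact Subgroup.mul_mem_sup (Q.mul_mem (conj_mem_of_normalizer hn.2 hq) (Q.inv_mem hq))
        (hLn _ q hqN _ h3)

/-- Maps normalising `Aut_A(Q)` on `Q` extend to `N_A(Q)`. -/
theorem extN_of_receptive [Finite S] {p : ℕ} [Fact p.Prime] (hS : IsPGroup p S) (hF : F.IsSaturated p)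
    (hsc : F.StronglyClosed A) (hQA : Q ≤ A) (hrec : F.IsReceptive Q) (hC : centralizerIn A Q ≤ Q) :
    ExtN F A Q := by
  intro Y hQY hYN k hk g hkg hg
  set N := normalizerIn A Q with hN
  haveI := finite_sub ((normalizerIn_le (S := A) Q).trans hsc.1)
  haveI := finite_sub hrec.1
  -- extend the restriction to `Q`
  have hgF : g ∈ F.autGroup Q := mem_autGroup_of_hom (restrict_mem hk hQY) fun x => (hkg x).symm
  obtain ⟨ψ, hψ, hψe⟩ := FusionP3.Induction.exists_extend_aut hrec (R := N)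
    (fun x hx => ⟨hsc.1 hx.1, hx.2⟩) hgF (fun x hx => by
      have hc : Q.normalizerMonoidHom ⟨x, hx.2⟩ ∈ autInducedBy A Q :=
        mem_autInducedBy.2 ⟨x, hx.1, fun _ => rfl⟩
      obtain ⟨h, hh, he⟩ := mem_autInducedBy.1 (hg _ hc)
      refine ⟨h, hsc.1 hh, fun y hy => ?_⟩
      rw [← he (g y)]
      simp only [MulAut.mul_apply, MulAut.inv_apply_self]
      rfl)
  have hψQ : ∀ q : Q, ψ ⟨q, le_normalizerIn hQA q.2⟩ = ((g q : Q) : Ω) := fun q => hψe q q.2 _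
  have hψm : ∀ x : N, ψ x ∈ N := fun x => by
    refine ⟨stronglyClosed_apply_mem hsc hψ x.2.1, mem_normalizer_of_conj_mem fun y hy => ?_⟩
    obtain ⟨q, hq⟩ : ∃ q : Q, ψ ⟨q, le_normalizerIn hQA q.2⟩ = y :=
      ⟨g⁻¹ ⟨y, hy⟩, by rw [hψQ, MulAut.apply_inv_self]⟩
    rw [← hq, ← map_inv, ← map_mul, ← map_mul]
    have h1 : (x : Ω) * q * (x : Ω)⁻¹ ∈ Q := conj_mem_of_normalizer x.2.2 q.2
    exact (hψe _ h1 _).symm ▸ SetLike.coe_mem _
  have hψr : ψ.range = N := range_eq_of_mem hψ hψm le_rfl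
  obtain ⟨ψi, hψi, hψir, hψl, hψr'⟩ := exists_inv hψ hψr
  -- the values of `k` normalise `Q`
  have hkm : ∀ y : Y, k y ∈ N := fun y => by
    refine ⟨stronglyClosed_apply_mem hsc hk (hYN y.2).1, mem_normalizer_of_conj_mem fun z hz => ?_⟩
    obtain ⟨q, hq⟩ : ∃ q : Q, k ⟨q, hQY q.2⟩ = z := ⟨g⁻¹ ⟨z, hz⟩, by rw [hkg, MulAut.apply_inv_self]⟩
    rw [← hq, ← map_inv, ← map_mul, ← map_mul]
    have h1 : (y : Ω) * q * (y : Ω)⁻¹ ∈ Q := conj_mem_of_normalizer (hYN y.2).2 q.2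
    exact (congrArg (· ∈ Q) (hkg ⟨_, h1⟩)).mpr (SetLike.coe_mem _)
  obtain ⟨k₁, hk₁, hk₁e⟩ := exists_comp hk hψi hkm
  have hk₁Q : ∀ q : Q, k₁ ⟨q, hQY q.2⟩ = q := fun q => by
    rw [hk₁e]
    exact (congrArg ψi (Subtype.ext ((hkg q).trans (hψQ q).symm) :
      (⟨k ⟨q, hQY q.2⟩, hkm _⟩ : N) = ⟨ψ ⟨q, le_normalizerIn hQA q.2⟩, hψm _⟩)).trans (hψl _ _)
  -- the normaliser system
  obtain ⟨E, hE⟩ := exists_kSystem F hrec.1 (autInducedBy A Q) (T := kNorm S Q.subtype (autInducedBy A Q)) rfl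
  have hAS : autInducedBy A Q ≤ autInducedBy S Q := fun a ha => by
    obtain ⟨x, hx, he⟩ := mem_autInducedBy.1 ha
    exact mem_autInducedBy.2 ⟨x, hsc.1 hx, he⟩
  have hAF : autInducedBy A Q ≤ F.autGroup Q := hAS.trans (autInducedBy_le_autGroup F hrec.1)
  have hEs : E.IsSaturated p := by
    refine kSystem_isSaturated hS hF hrec ?_ rfl hE
    rw [inf_eq_right.2 hAF, inf_eq_right.2 hAS]
    refine ⟨le_rfl, ?_⟩
    obtain ⟨n, hn⟩ := IsPGroup.iff_card.1 (isPGroup_autInducedBy_of_le hS hsc.1 Q)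
    rw [hn, (Fact.out : p.Prime).factorization_pow, Finsupp.single_eq_same]
  have hNn := isNormal_normalizerA hS hsc hQA hC rfl hE hEs
  have hNM : ∀ x ∈ N, x ∈ kNorm S Q.subtype (autInducedBy A Q) := fun x hx =>
    ⟨hsc.1 hx.1, Q.normalizerMonoidHom ⟨x, hx.2⟩, mem_autInducedBy.2 ⟨x, hx.1, fun _ => rfl⟩, fun _ => rfl⟩
  have hk₁E : k₁ ∈ E.Hom Y := by
    rw [hE]
    obtain ⟨k₂, hk₂, hk₂e⟩ := exists_restrict hk₁ (sup_le le_rfl hQY : Y ⊔ Q ≤ Y)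
    refine ⟨hk₁, fun y hy => hNM y (hYN hy), fun y => ?_, k₂, hk₂, fun y => hk₂e _, 1, one_mem _,
      fun q => (hk₂e _).trans (hk₁Q q)⟩
    rw [hk₁e]
    exact hNM _ (hψir.le ⟨_, rfl⟩)
  obtain ⟨χ, hχ, hχe, hχN⟩ := hNn.2 Y k₁ hk₁E
  obtain ⟨χ', hχ', hχ'e⟩ := exists_restrict hχ (le_sup_right : N ≤ Y ⊔ N)
  have hχF : χ' ∈ F.Hom N := by
    rw [hE] at hχ'
    exact hχ'.1
  obtain ⟨c, hc, hce⟩ := exists_aut hχF fun x => by
    rw [hχ'e]
    exact hχN.le ⟨⟨x, _⟩, Subgroup.mem_subgroupOf.2 x.2, rfl⟩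
  refine ⟨homEquiv hψ hψr * c, mul_mem (homEquiv_mem_autGroup hψ hψr) hc, fun y => ?_⟩
  have h1 : c ⟨y, hYN y.2⟩ = ⟨k₁ y, hk₁e y ▸ hψir.le ⟨_, rfl⟩⟩ :=
    Subtype.ext ((hce _).trans ((hχ'e _).trans (hχe y)))
  rw [MulAut.mul_apply, h1, homEquiv_coe]
  have h2 : (⟨k₁ y, hk₁e y ▸ hψir.le ⟨_, rfl⟩⟩ : N) = ⟨ψi ⟨k y, hkm y⟩, hψir.le ⟨_, rfl⟩⟩ :=
    Subtype.ext (hk₁e y)
  rw [h2]
  exact hψr' ⟨k y, hkm y⟩ (hψir.le ⟨_, rfl⟩)

end Cfsg.Agent.Lib.FS.Inter
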