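import Cfsg.Agent.Lib.FusionSystem.Inter.Fuse
import Cfsg.Agent.Lib.FusionP3.Prime.PPower
import Cfsg.Agent.Lib.FusionP3.Prime.Normality

/-!
The Frattini property of the generated system in `F` and in the two normal subsystems: every map inside `A` is
an automorphism of `A` composed with a generated map.
-/

set_option autoImplicit false
set_option linter.style.haveILetI false
set_option linter.unusedSectionVars false

namespace Cfsg.Agent.Lib.FS.Inter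

open Cfsg Cfsg.FusionSystem Cfsg.Agent.Lib Cfsg.Agent.Lib.FS Cfsg.Agent.Lib.FS.NormalCentralizer
open Cfsg.Agent.Lib.FusionP3.Prime (img img_le autRes autRes_range apply_mem_img mem_img Inv Dec)
open Cfsg.Agent.Lib.FusionP3.Prime.PPower (decSystem)
open Cfsg.Agent.Lib.FS.CentralLift (Restr)

variable {Ω : Type*} [Group Ω] {S T T₀ T₁ T₂ : Subgroup Ω} [Finite S] {p : ℕ} [hp : Fact p.Prime]
  {F : FusionSystem S} {F₀ : FusionSystem T₀} {E : FusionSystem T} {E₁ : FusionSystem T₁}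
  {E₂ : FusionSystem T₂}

/-- The hypotheses on the system in which the Frattini property is proved. -/
structure Base (h : Setup F E₁ E₂ p) (F₀ : FusionSystem T₀) : Prop where
  le : T₀ ≤ S
  sat : F₀.IsSaturated p
  sub : F₀.IsSubsystemOf F
  sc : F₀.StronglyClosed (T₁ ⊓ T₂)
  wsub : h.wSys.IsSubsystemOf F₀
  hcen : ∀ U, CentricT F₀ (T₁ ⊓ T₂) U → CentricT F (T₁ ⊓ T₂) U
  hrep : ∀ U, CentricT F (T₁ ⊓ T₂) U → ∃ Q, F₀.IsConj U Q ∧ F₀.IsFullyNormalized Q ∧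
    Rep F E₁ E₂ p Q ∧ ExtN F₀ (T₁ ⊓ T₂) Q

section BaseThms

variable {h : Setup F E₁ E₂ p}
include h

theorem Base.dec_centric (hB : Base h F₀) {U : Subgroup Ω} (hU : CentricT F (T₁ ⊓ T₂) U) {φ : U →* Ω}
    (hφ : φ ∈ F₀.Hom U) : Dec (F₀.autGroup (T₁ ⊓ T₂)) h.wSys φ := by
  set A := T₁ ⊓ T₂ with hA
  haveI := h.finA
  haveI := finite_sub hB.le
  have hT₀p : IsPGroup p T₀ := isPGroup_of_le h.hS hB.le
  have hinv : ∀ α ∈ F₀.autGroup A, Inv h.wSys α := fun α hα => h.w_inv (autE_le_autF hB.sub hB.sc.1 hα)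
  suffices key : ∀ (d : ℕ) (U : Subgroup Ω), CentricT F A U → Nat.card A - Nat.card U = d →
      ∀ φ ∈ F₀.Hom U, Dec (F₀.autGroup A) h.wSys φ from key _ U hU rfl φ hφ
  intro d
  induction d using Nat.strong_induction_on with
  | _ d ih =>
  intro U hU hd φ hφ
  haveI := finite_sub hU.1
  rcases hU.1.eq_or_lt with rfl | hlt
  · obtain ⟨a, ha, hae⟩ := exists_aut hφ fun x => stronglyClosed_apply_mem hB.sc hφ x.2
    exact Dec.of_aut ha le_rfl fun x => (hae x).symm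
  have hcard : Nat.card U < Nat.card A :=
    lt_of_not_ge fun hle => hlt.ne (Subgroup.eq_of_le_of_card_ge hlt.le hle)
  obtain ⟨Q, hUQ, hQn, hR, hExt⟩ := hB.hrep U hU
  haveI := finite_sub hR.cA.1
  have hcardQ : Nat.card Q = Nat.card U := isConj_card hUQ
  have hbig : ∀ V : Subgroup Ω, CentricT F A V → Nat.card V = Nat.card U → ∀ ψ ∈ F₀.Hom (normalizerIn A V),
      Dec (F₀.autGroup A) h.wSys ψ := fun V hV hVc ψ hψ => by
    have hVA : V < A := lt_of_le_of_ne hV.1 fun he => by rw [he] at hVc; omega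
    haveI := finite_sub hV.1
    have h1 : V < normalizerIn A V := FusionP3.Induction.lt_normalizerIn h.pA hVA
    haveI := finite_sub (normalizerIn_le (S := A) V)
    have h2 : Nat.card V < Nat.card (normalizerIn A V) :=
      lt_of_not_ge fun hle => h1.ne (Subgroup.eq_of_le_of_card_ge h1.le hle)
    have h3 : Nat.card (normalizerIn A V) ≤ Nat.card A := Subgroup.card_le_of_le (normalizerIn_le V)
    exact ih _ (by omega) _ (hV.mono h1.le (normalizerIn_le V)) rfl ψ hψ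
  have hmap : ∀ V : Subgroup Ω, CentricT F A V → F₀.IsConj V Q →
      ∃ χ ∈ F₀.Hom V, χ.range = Q ∧ Dec (F₀.autGroup A) h.wSys χ := fun V hV hVQ => by
    obtain ⟨η, hη, -, hηQ⟩ := exists_normalizer_map hT₀p hB.sat hQn hVQ
    obtain ⟨η', hη', hη'e⟩ := exists_restrict hη
      (fun g hg => ⟨hB.sc.1 hg.1, hg.2⟩ : normalizerIn A V ≤ normalizerIn T₀ V)
    obtain ⟨χ, hχ, hχe⟩ := exists_restrict hη' (le_normalizerIn hV.1)
    refine ⟨χ, hχ, ?_, ((hbig V hV ((isConj_card hVQ).symm.trans hcardQ) η' hη').restrict _ hχe)⟩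
    ext z
    constructor
    · rintro ⟨x, rfl⟩
      rw [hχe, hη'e, ← hηQ]
      exact ⟨_, Subgroup.mem_subgroupOf.2 x.2, rfl⟩
    · intro hz
      obtain ⟨w, hw, rfl⟩ := hηQ.ge hz
      exact ⟨⟨w, Subgroup.mem_subgroupOf.1 hw⟩, by rw [hχe, hη'e]⟩
  have hU' : CentricT F A φ.range := centricT_congr h.scA hU ⟨φ, hB.sub U hφ, rfl⟩
  have hU'Q : F₀.IsConj φ.range Q := isConj_trans (isConj_symm ⟨φ, hφ, rfl⟩) hUQ
  obtain ⟨χ, hχ, hχr, hχd⟩ := hmap U hU hUQ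
  obtain ⟨χ', hχ', hχ'r, hχ'd⟩ := hmap φ.range hU' hU'Q
  obtain ⟨χi, hχi, hχir, hχil, -⟩ := exists_inv hχ hχr
  obtain ⟨τ, hτ, hτe⟩ := exists_comp hχi hφ (fun q => hχir.le ⟨q, rfl⟩)
  obtain ⟨σ, hσ, hσe⟩ := exists_comp hτ hχ' (fun q => by rw [hτe]; exact ⟨_, rfl⟩)
  obtain ⟨g, hg, hge⟩ := exists_aut hσ fun q => by rw [hσe]; exact hχ'r.le ⟨_, rfl⟩
  have hgF : g ∈ F.autGroup Q := autE_le_autF hB.sub hQn.1 hg
  have hQS : Q ≤ S := hR.cA.1.trans h.scA.1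
  obtain ⟨a₀, ha₀, ha₀c⟩ := hR.sylow ((autInducedBy A Q).map (MulAut.conj g).toMonoidHom)
    (by rintro _ ⟨c, hc, rfl⟩; exact h.kAut_normal hR.cA.1 (autA_le_kAut hQS hc) hgF)
    ((isPGroup_autInducedBy_of_le h.hS h.scA.1 Q).map _)
  have ha₀W := h.kAut_le_w hR.cA ha₀
  have hx₁ : a₀ * g ∈ F₀.autGroup Q := mul_mem (autE_le_autF hB.wsub hR.cA.1 ha₀W) hg
  obtain ⟨k, hk, -, hke⟩ := exists_hom_of_aut hQn.1 hx₁
  obtain ⟨x, hx, hxe⟩ := hExt Q le_rfl (le_normalizerIn hR.cA.1) k hk (a₀ * g) (fun q => hke q)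
    fun c hc => by
      have h1 := ha₀c _ ⟨c, hc, rfl⟩
      simpa [mul_assoc] using h1
  obtain ⟨xh, hxh, -, hxhe⟩ := exists_hom_of_aut ((normalizerIn_le Q).trans hB.sc.1) hx
  have hd₁ : Dec (F₀.autGroup A) h.wSys k :=
    (hbig Q hR.cA hcardQ xh hxh).restrict (le_normalizerIn hR.cA.1) fun q =>
      ((hxhe _).trans (hxe q)).symm
  obtain ⟨w, hw, -, hwe⟩ := exists_hom_of_aut hR.cA.1 (inv_mem ha₀W)
  have hkm : ∀ q, k q ∈ Q := fun q => by rw [hke]; exact SetLike.coe_mem _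
  have hd₂ : Dec (F₀.autGroup A) h.wSys σ := Dec.comp hinv hd₁ (Dec.of_mem hw) hkm fun q => by
    have h2 : (⟨k q, hkm q⟩ : Q) = (a₀ * g) q := Subtype.ext (hke q)
    rw [← hge, hwe, h2, MulAut.mul_apply, MulAut.inv_apply_self]
  have hσm : ∀ q : Q, σ q ∈ χ'.range := fun q => by rw [hσe]; exact ⟨_, rfl⟩
  obtain ⟨θ, hθd, hθe⟩ := Dec.inv hinv hχ'd
  let σχ : U →* Ω := σ.comp (χ.codRestrict Q fun u => hχr.le ⟨u, rfl⟩)
  have hd₃ : Dec (F₀.autGroup A) h.wSys σχ := Dec.comp hinv hχd hd₂ _ fun _ => rfl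
  refine Dec.comp hinv hd₃ hθd (fun u => hσm _) fun u => ?_
  have h1 : σχ u = χ' ⟨φ u, u, rfl⟩ := by
    show σ _ = _
    rw [hσe]
    refine congrArg χ' (Subtype.ext ?_)
    refine (hτe _).trans ?_
    exact congrArg φ (Subtype.ext (hχil u _))
  exact ((congrArg θ (Subtype.ext h1)).trans (hθe ⟨φ u, u, rfl⟩)).symm

/-- The Frattini property. -/
theorem Base.frattini (hB : Base h F₀) {P : Subgroup Ω} (hP : P ≤ T₁ ⊓ T₂) {φ : P →* Ω}
    (hφ : φ ∈ F₀.Hom P) : Dec (F₀.autGroup (T₁ ⊓ T₂)) h.wSys φ := by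
  haveI := h.finA
  haveI := finite_sub hB.le
  have hT₀p : IsPGroup p T₀ := isPGroup_of_le h.hS hB.le
  have hinv : ∀ α ∈ F₀.autGroup (T₁ ⊓ T₂), Inv h.wSys α := fun α hα =>
    h.w_inv (autE_le_autF hB.sub hB.sc.1 hα)
  have key : φ ∈ (decSystem hB.sc h.wSys hinv).Hom P := by
    refine FusionP3.Induction.hom_induction hT₀p hB.sat
      (M := fun P φ => φ ∈ (decSystem hB.sc h.wSys hinv).Hom P) ?_ ?_ ?_ P φ hφ
    · intro P Q φ ψ χ _ _ hm hχ hp hq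
      exact hom_congr ((decSystem hB.sc h.wSys hinv).comp_mem hp hq hm) hχ
    · intro P Q φ ψ hle _ hφψ hq
      exact mem_of_restrict hq hle hφψ
    · intro Q hQn hQc hQr a ha _
      refine ⟨(mem_autGroup hQn.1).1 ha, fun V hV hle => ?_⟩
      have hQA : CentricT F (T₁ ⊓ T₂) (Q ⊓ (T₁ ⊓ T₂)) := hB.hcen _ (centricT_inf hT₀p hB.sat hB.sc hQc hQr)
      obtain ⟨ψ, hψ, hψe⟩ := exists_restrict ((mem_autGroup hQn.1).1 ha) (inf_le_left : Q ⊓ (T₁ ⊓ T₂) ≤ Q)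
      exact (hB.dec_centric hQA hψ).restrict (le_inf hle hV) fun v => (hψe ⟨v, le_inf hle hV v.2⟩).symm
  exact (key.2 P hP le_rfl).congr fun _ => rfl

end BaseThms

namespace Setup

/-- A strongly closed subgroup inside `T₀` stays strongly closed in a subsystem over `T₀`. -/
theorem sc_sub {A : Subgroup Ω} (hsc : F.StronglyClosed A) (hsub : F₀.IsSubsystemOf F) (hA : A ≤ T₀) :
    F₀.StronglyClosed A :=
  ⟨hA, fun R hR φ hφ x => hsc.2 R hR φ (hsub R hφ) x⟩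

variable (h : Setup F E₁ E₂ p)
include h

theorem centric_self_cen {Q : Subgroup Ω} (hQ : CentricT F (T₁ ⊓ T₂) Q) :
    centralizerIn (T₁ ⊓ T₂) Q ≤ Q :=
  hQ.2 Q (isConj_refl F (hQ.1.trans h.scA.1))

/-- The hypotheses hold for `F`. -/
theorem base_top : Base h F where
  le := le_rfl
  sat := h.hF
  sub := fun _ _ hφ => hφ
  sc := h.scA
  wsub := h.w_sub
  hcen := fun _ hU => hU
  hrep := fun U hU => by
    obtain ⟨Q, hUQ, hQ⟩ := exists_isFullyNormalized F (hU.1.trans h.scA.1)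
    have hQc := centricT_congr h.scA hU hUQ
    exact ⟨Q, hUQ, hQ, h.rep_of_fn hQc hQ, extN_of_receptive h.hS h.hF h.scA hQc.1
      (receptive_of_fullyNormalized h.hS h.hF hQ) (h.centric_self_cen hQc)⟩

/-- An automorphism of `T ≥ A` in `F` restricts to `A`. -/
theorem exists_restr_A (hTS : T ≤ S) (hAT : T₁ ⊓ T₂ ≤ T) {α : MulAut T} (hα : α ∈ F.autGroup T) :
    ∃ β ∈ F.autGroup (T₁ ⊓ T₂), Restr hAT α β := by
  refine exists_restr hAT hTS hα fun x => ?_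
  obtain ⟨φ, hφ, -, he⟩ := exists_hom_of_aut hTS hα
  rw [← he]
  exact stronglyClosed_apply_mem h.scA hφ x.2

/-- The hypotheses hold for a normal subsystem containing the generated system. -/
theorem base_normal (hE : E.IsNormalIn F p) (hAT : T₁ ⊓ T₂ ≤ T) (hW : h.wSys.IsSubsystemOf E) :
    Base h E where
  le := hE.1.2.2.2.1.1
  sat := hE.1.1
  sub := hE.1.2.2.1
  sc := sc_sub h.scA hE.1.2.2.1 hAT
  wsub := hW
  hcen := fun U hU => by
    refine ⟨hU.1, fun R hR => ?_⟩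
    obtain ⟨φ, hφ, rfl⟩ := hR
    obtain ⟨α, hα, e, he, hφe⟩ := hE.1.2.2.2.2.2 U (hU.1.trans hAT) φ hφ
    obtain ⟨β, hβ, hβr⟩ := h.exists_restr_A hE.1.2.2.2.1.1 hAT hα
    haveI := h.finA
    have heA : ∀ x, e x ∈ T₁ ⊓ T₂ := fun x =>
      stronglyClosed_apply_mem (sc_sub h.scA hE.1.2.2.1 hAT) he (hU.1 x.2)
    have hRA : e.range ≤ T₁ ⊓ T₂ := by rintro _ ⟨x, rfl⟩; exact heA x
    have hC := hU.2 e.range ⟨e, he, rfl⟩
    have hr : φ.range = img β e.range := by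
      have hx : ∀ x, φ x = ((β ⟨e x, heA x⟩ : ↥(T₁ ⊓ T₂)) : Ω) := fun x =>
        (hφe x (hAT (heA x))).trans (hβr ⟨e x, heA x⟩)
      ext y
      constructor
      · rintro ⟨x, rfl⟩
        rw [hx]
        exact apply_mem_img β hRA ⟨_, x, rfl⟩
      · rintro ⟨⟨z, hz⟩, ⟨x, hxz⟩, rfl⟩
        exact ⟨x, (hx x).trans (congrArg (fun w => ((β w : ↥(T₁ ⊓ T₂)) : Ω)) (Subtype.ext hxz))⟩
    rw [hr]
    intro y hy
    rw [mem_img (mem_centralizerIn.1 hy).1]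
    refine hC (mem_centralizerIn'.2 ⟨(β⁻¹ _).2, fun z hz => ?_⟩)
    have h1 := (mem_centralizerIn'.1 hy).2 _ (apply_mem_img β hRA ⟨z, hz⟩)
    have h2 : (⟨y, (mem_centralizerIn.1 hy).1⟩ : ↥(T₁ ⊓ T₂)) * β ⟨z, hRA hz⟩ *
        (⟨y, (mem_centralizerIn.1 hy).1⟩ : ↥(T₁ ⊓ T₂))⁻¹ = β ⟨z, hRA hz⟩ := Subtype.ext h1
    have h3 := congrArg (fun w : ↥(T₁ ⊓ T₂) => ((β⁻¹ w : ↥(T₁ ⊓ T₂)) : Ω)) h2
    simp only [map_mul, map_inv, MulAut.inv_apply_self] at h3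
    exact h3
  hrep := fun U hU => by
    have hTS := hE.1.2.2.2.1.1
    haveI := finite_sub hTS
    obtain ⟨QF, hUQ, hQF⟩ := exists_isFullyNormalized F (hU.1.trans h.scA.1)
    have hQFc := centricT_congr h.scA hU hUQ
    have hUT := hU.1.trans hAT
    obtain ⟨φ, hφ, hr⟩ := hUQ
    obtain ⟨α, hα, e, he, hφe⟩ := hE.1.2.2.2.2.2 U hUT φ hφ
    obtain ⟨β, hβ, hβr⟩ := h.exists_restr_A hTS hAT hα
    haveI := h.finA
    have hscA := sc_sub h.scA hE.1.2.2.1 hAT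
    have heA : ∀ x, e x ∈ T₁ ⊓ T₂ := fun x => stronglyClosed_apply_mem hscA he (hU.1 x.2)
    set Q := e.range with hQ
    have hQA : Q ≤ T₁ ⊓ T₂ := by rintro _ ⟨x, rfl⟩; exact heA x
    have himg : img β Q = QF := by
      have hx : ∀ x, φ x = ((β ⟨e x, heA x⟩ : ↥(T₁ ⊓ T₂)) : Ω) := fun x =>
        (hφe x (hAT (heA x))).trans (hβr ⟨e x, heA x⟩)
      rw [← hr]
      ext y
      constructor
      · rintro ⟨⟨z, hz⟩, ⟨x, hxz⟩, rfl⟩
        exact ⟨x, (hx x).trans (congrArg (fun w => ((β w : ↥(T₁ ⊓ T₂)) : Ω)) (Subtype.ext hxz))⟩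
      · rintro ⟨x, rfl⟩
        rw [hx]
        exact apply_mem_img β hQA ⟨_, x, rfl⟩
    have hR : Rep F E₁ E₂ p Q := h.rep_of_img hβ hQA (by rw [himg]; exact h.rep_of_fn hQFc hQF)
    have hαimg : ∀ R ≤ T₁ ⊓ T₂, img α R = img β R := fun R hR => by
      ext y
      constructor
      · rintro ⟨x, hx, rfl⟩
        exact ⟨⟨x, hR hx⟩, hx, (hβr ⟨x, hR hx⟩).symm⟩
      · rintro ⟨x, hx, rfl⟩
        exact ⟨⟨x, hAT x.2⟩, hx, hβr x⟩
    have hQn : E.IsFullyNormalized Q := by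
      refine ⟨hQA.trans hAT, fun R hR' => ?_⟩
      obtain ⟨θ, hθ, rfl⟩ := hR'
      have hRT : θ.range ≤ T := range_le_base hθ
      obtain ⟨χ, hχ, hχe⟩ := hE.1.2.2.2.2.1 Q (hQA.trans hAT) θ hθ α hα
      have hconj : E.IsConj (img α Q) (img α θ.range) := by
        refine ⟨χ, hχ, ?_⟩
        ext y
        constructor
        · rintro ⟨⟨_, x, hx, rfl⟩, rfl⟩
          exact ⟨⟨θ ⟨x, hx⟩, hRT ⟨_, rfl⟩⟩, ⟨_, rfl⟩, (hχe ⟨x, hx⟩ (hRT ⟨_, rfl⟩) ⟨x, hx, rfl⟩).symm⟩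
        · rintro ⟨⟨_, hz⟩, ⟨x, rfl⟩, rfl⟩
          exact ⟨⟨_, apply_mem_img α (hQA.trans hAT) x⟩, hχe x hz _⟩
      have hfn : E.IsFullyNormalized (img α Q) := by
        rw [hαimg Q hQA, himg]
        exact fnE h.hS hE (hQFc.1.trans hAT) hQF
      have h1 := hfn.2 _ hconj
      rwa [← img_normalizerIn α (hQA.trans hAT), ← img_normalizerIn α hRT,
        card_img α (normalizerIn_le _), card_img α (normalizerIn_le _)] at h1
    exact ⟨Q, ⟨e, he, rfl⟩, hQn, hR, extN_of_receptive (isPGroup_of_le h.hS hTS) hE.1.1 hscA hR.cA.1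
      (receptive_of_fullyNormalized (isPGroup_of_le h.hS hTS) hE.1.1 hQn) (h.centric_self_cen hR.cA)⟩

/-- The Frattini property in `F`. -/
theorem frattini {P : Subgroup Ω} (hP : P ≤ T₁ ⊓ T₂) {φ : P →* Ω} (hφ : φ ∈ F.Hom P) :
    Dec (F.autGroup (T₁ ⊓ T₂)) h.wSys φ :=
  h.base_top.frattini hP hφ

theorem frattini₁ {P : Subgroup Ω} (hP : P ≤ T₁ ⊓ T₂) {φ : P →* Ω} (hφ : φ ∈ E₁.Hom P) :
    Dec (E₁.autGroup (T₁ ⊓ T₂)) h.wSys φ :=
  (h.base_normal h.h₁ inf_le_left h.w_sub₁).frattini hP hφ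

theorem frattini₂ {P : Subgroup Ω} (hP : P ≤ T₁ ⊓ T₂) {φ : P →* Ω} (hφ : φ ∈ E₂.Hom P) :
    Dec (E₂.autGroup (T₁ ⊓ T₂)) h.wSys φ :=
  (h.base_normal h.h₂ inf_le_right h.w_sub₂).frattini hP hφ

end Setup

end Cfsg.Agent.Lib.FS.Inter
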