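import Cfsg.Agent.Lib.FusionSystem.Inter.Frattini

/-!
Full representatives, and links `N_A(R) → N_A(Q)` in the generated system onto them.
-/

set_option autoImplicit false
set_option linter.style.haveILetI false
set_option linter.unusedSectionVars false

namespace Cfsg.Agent.Lib.FS.Inter

open Cfsg Cfsg.FusionSystem Cfsg.Agent.Lib Cfsg.Agent.Lib.FS Cfsg.Agent.Lib.FS.NormalCentralizer
open Cfsg.Agent.Lib.FusionP3.Prime (img img_le autRes autRes_range apply_mem_img mem_img Inv Dec)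
open Cfsg.Agent.Lib.FS.CentralLift (Restr congr_apply_map congr_inv)

variable {Ω : Type*} [Group Ω] {S A T₁ T₂ : Subgroup Ω} {p : ℕ}
  {F : FusionSystem S} {E₁ : FusionSystem T₁} {E₂ : FusionSystem T₂}

section MapsOnto

/-- `f` carries `R` onto `Q`. -/
structure MapsOnto {Y : Subgroup Ω} (f : Y →* Ω) (R Q : Subgroup Ω) : Prop where
  le : R ≤ Y
  mem : ∀ x : R, f ⟨x, le x.2⟩ ∈ Q
  surj : ∀ z ∈ Q, ∃ x : R, f ⟨x, le x.2⟩ = z

theorem MapsOnto.of_map {Y R Q : Subgroup Ω} {f : Y →* Ω} (hle : R ≤ Y) (he : (R.subgroupOf Y).map f = Q) :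
    MapsOnto f R Q :=
  ⟨hle, fun x => he.le ⟨⟨x, hle x.2⟩, x.2, rfl⟩, fun z hz => by
    obtain ⟨w, hw, rfl⟩ := he.ge hz
    exact ⟨⟨w, hw⟩, rfl⟩⟩

theorem MapsOnto.comp {Y Z R Q M : Subgroup Ω} {f : Y →* Ω} {g : Z →* Ω} {χ : Y →* Ω}
    (h₁ : MapsOnto f R Q) (h₂ : MapsOnto g Q M) (hm : ∀ y, f y ∈ Z) (he : ∀ y, χ y = g ⟨f y, hm y⟩) :
    MapsOnto χ R M :=
  ⟨h₁.le, fun x => by rw [he]; exact h₂.mem ⟨_, h₁.mem x⟩, fun z hz => by
    obtain ⟨q, rfl⟩ := h₂.surj z hz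
    obtain ⟨x, hx⟩ := h₁.surj q q.2
    exact ⟨x, (he _).trans (congrArg g (Subtype.ext hx))⟩⟩

theorem MapsOnto.restrict {Y Z R Q : Subgroup Ω} {f : Y →* Ω} {g : Z →* Ω} (h : MapsOnto f R Q) (hRZ : R ≤ Z)
    (he : ∀ x : R, g ⟨x, hRZ x.2⟩ = f ⟨x, h.le x.2⟩) : MapsOnto g R Q :=
  ⟨hRZ, fun x => (he x).symm ▸ h.mem x, fun z hz => by
    obtain ⟨x, hx⟩ := h.surj z hz
    exact ⟨x, (he x).trans hx⟩⟩

variable [Finite S]

theorem MapsOnto.of_mem {Y R Q : Subgroup Ω} [Finite Q] {f : Y →* Ω} (hf : f ∈ F.Hom Y) (hle : R ≤ Y)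
    (hm : ∀ x : R, f ⟨x, hle x.2⟩ ∈ Q) (hc : Nat.card Q ≤ Nat.card R) : MapsOnto f R Q := by
  obtain ⟨φ, hφ, he⟩ := exists_restrict hf hle
  have hr := range_eq_of_mem hφ (fun x => by rw [he]; exact hm x) hc
  refine ⟨hle, hm, fun z hz => ?_⟩
  obtain ⟨x, rfl⟩ := hr.ge hz
  exact ⟨x, (he x).symm⟩

omit [Finite S] in
theorem MapsOnto.exists_hom {Y R Q : Subgroup Ω} {f : Y →* Ω} (h : MapsOnto f R Q) (hf : f ∈ F.Hom Y) :
    ∃ φ ∈ F.Hom R, φ.range = Q ∧ ∀ x : R, φ x = f ⟨x, h.le x.2⟩ := by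
  obtain ⟨φ, hφ, he⟩ := exists_restrict hf h.le
  refine ⟨φ, hφ, ?_, he⟩
  ext z
  constructor
  · rintro ⟨x, rfl⟩; rw [he]; exact h.mem x
  · intro hz
    obtain ⟨x, rfl⟩ := h.surj z hz
    exact ⟨x, he x⟩

omit [Finite S] in
theorem MapsOnto.isConj {Y R Q : Subgroup Ω} {f : Y →* Ω} (h : MapsOnto f R Q) (hf : f ∈ F.Hom Y) :
    F.IsConj R Q := by
  obtain ⟨φ, hφ, hr, -⟩ := h.exists_hom hf
  exact ⟨φ, hφ, hr⟩

end MapsOnto

section Full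

/-- An automorphism of `A` moves `Q` and `N_A(Q)` to fully normalised subgroups. -/
structure Full (F : FusionSystem S) (A Q : Subgroup Ω) : Prop where
  cA : CentricT F A Q
  fn : ∃ α ∈ F.autGroup A, F.IsFullyNormalized (img α Q) ∧ F.IsFullyNormalized (img α (normalizerIn A Q))

variable [Finite S] {p : ℕ} [hp : Fact p.Prime]

omit hp in
theorem Full.image (hsc : F.StronglyClosed A) {Q : Subgroup Ω} (h : Full F A Q) {α : MulAut A}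
    (hα : α ∈ F.autGroup A) : Full F A (img α Q) := by
  haveI := finite_sub hsc.1
  refine ⟨centricT_congr hsc h.cA (isConj_img hsc.1 hα h.cA.1), ?_⟩
  obtain ⟨β, hβ, h₁, h₂⟩ := h.fn
  refine ⟨β * α⁻¹, mul_mem hβ ((F.autGroup A).inv_mem hα), ?_, ?_⟩
  · rwa [← img_mul, inv_mul_cancel_right]
  · rwa [← img_normalizerIn α h.cA.1, ← img_mul, inv_mul_cancel_right]

/-- Conjugates of a full subgroup have smaller normalisers in `A`. -/
theorem Full.card_le (hS : IsPGroup p S) (hF : F.IsSaturated p) (hsc : F.StronglyClosed A) {Q R : Subgroup Ω}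
    (hQ : Full F A Q) (hRA : R ≤ A) (hRQ : F.IsConj R Q) :
    Nat.card (normalizerIn A R) ≤ Nat.card (normalizerIn A Q) := by
  haveI := finite_sub hsc.1
  obtain ⟨β, hβ, hP, -⟩ := hQ.fn
  obtain ⟨η, hη, hηm, hηP⟩ := exists_normalizer_map hS hF hP (isConj_trans hRQ (isConj_img hsc.1 hβ hQ.cA.1))
  obtain ⟨η', hη', he⟩ := exists_restrict hη
    (fun g hg => ⟨hsc.1 hg.1, hg.2⟩ : normalizerIn A R ≤ normalizerIn S R)
  rw [← card_img β (normalizerIn_le Q), img_normalizerIn β hQ.cA.1]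
  haveI := finite_sub (normalizerIn_le (S := A) (img β Q))
  exact card_le_of_hom hη' fun x => ⟨stronglyClosed_apply_mem hsc hη' x.2.1, by rw [he]; exact (hηm _).2⟩

/-- The extension property is carried along automorphisms of `A`. -/
theorem extN_of_img (hsc : F.StronglyClosed A) {α : MulAut A} (hα : α ∈ F.autGroup A) {Q : Subgroup Ω}
    (hQ : Q ≤ A) (h : ExtN F A (img α Q)) : ExtN F A Q := by
  haveI := finite_sub hsc.1
  intro Y hQY hYN k hk g hkg hg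
  have hAS := hsc.1
  have hαi := (F.autGroup A).inv_mem hα
  have hNA : normalizerIn A Q ≤ A := normalizerIn_le Q
  have hYA : Y ≤ A := hYN.trans hNA
  have hkA : ∀ y : Y, k y ∈ A := fun y => stronglyClosed_apply_mem hsc hk (hYA y.2)
  have hm : ∀ y : img α Y, autRes α⁻¹ (img_le α Y) y ∈ Y := fun y => by
    have h1 := y.2
    rw [mem_img (img_le α Y y.2)] at h1
    exact h1
  obtain ⟨k₁, hk₁, hk₁e⟩ := exists_comp (autRes_memF hAS hαi (img_le α Y)) hk hm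
  have hk₁A : ∀ y, k₁ y ∈ A := fun y => by rw [hk₁e]; exact hkA _
  obtain ⟨k', hk', hk'e⟩ := exists_comp hk₁ (autRes_memF hAS hα le_rfl) hk₁A
  have hφ := autRes_memF hAS hα hQ
  have hr := autRes_range α hQ
  have hψ := autRes_memF hAS hαi (img_le α Q)
  have hψr : (autRes α⁻¹ (img_le α Q)).range = Q := (autRes_range _ _).trans (img_inv_img α hQ)
  set κ := MulAut.congr (homEquiv hφ hr) with hκ
  set κ' := MulAut.congr (homEquiv hψ hψr) with hκ'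
  obtain ⟨x', hx', hx'e⟩ := h (img α Y) (img_mono α hQY)
    ((img_mono α hYN).trans (img_normalizerIn α hQ).le) k' hk' (κ g) (fun q => by
      obtain ⟨x, rfl⟩ := (homEquiv hφ hr).surjective q
      rw [hκ, congr_apply_map, hk'e, FusionP3.Prime.autRes_apply, FusionP3.Prime.autRes_apply]
      refine congrArg (fun z => ((α z : A) : Ω)) (Subtype.ext ?_)
      show k₁ _ = _
      rw [hk₁e, ← hkg]
      exact congrArg k (Subtype.ext (by simp)))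
    (fun c hc => by
      have h1 := congr_img_induced (α := α⁻¹) (img_le α Q) le_rfl hψ hψr (fun _ => rfl) hc
      rw [img_self, ← hκ'] at h1
      have h2 := congr_img_induced (α := α) hQ le_rfl hφ hr (fun _ => rfl) (hg _ h1)
      have h3 : κ (κ' c) = c := congr_inv hψ hψr hφ hr (fun x hx => by simp) c
      rw [img_self, ← hκ, map_mul, map_mul, map_inv, h3] at h2
      exact h2)
  have hχ := autRes_memF hAS hαi (normalizerIn_le (S := A) (img α Q))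
  have hχr : (autRes α⁻¹ (normalizerIn_le (S := A) (img α Q))).range = normalizerIn A Q := by
    rw [autRes_range, ← img_normalizerIn α hQ, img_inv_img α hNA]
  refine ⟨MulAut.congr (homEquiv hχ hχr) x', congr_mem_autGroup hχ hχr hx', fun y => ?_⟩
  set z : img α Y := ⟨_, apply_mem_img α hYA y⟩ with hz
  have hzN : (z : Ω) ∈ normalizerIn A (img α Q) :=
    (img_normalizerIn α hQ).le (img_mono α hYN z.2)
  have e : homEquiv hχ hχr ⟨z, hzN⟩ = ⟨y, hYN y.2⟩ := Subtype.ext (by simp [hz])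
  rw [← e, congr_apply_map, FusionP3.Prime.autRes_apply]
  have h1 := hx'e z
  rw [hk'e, FusionP3.Prime.autRes_apply] at h1
  simp only [h1]
  simp [hk₁e, hz]

end Full

variable [Finite S] [hp : Fact p.Prime] (h : Setup F E₁ E₂ p)
include h

theorem Full.rep {Q : Subgroup Ω} (hQ : Full F (T₁ ⊓ T₂) Q) : Rep F E₁ E₂ p Q := by
  obtain ⟨α, hα, hn, -⟩ := hQ.fn
  exact h.rep_of_img hα hQ.cA.1 (h.rep_of_fn (centricT_congr h.scA hQ.cA (isConj_img h.scA.1 hα hQ.cA.1)) hn)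

theorem Full.extN {Q : Subgroup Ω} (hQ : Full F (T₁ ⊓ T₂) Q) : ExtN F (T₁ ⊓ T₂) Q := by
  obtain ⟨α, hα, hn, -⟩ := hQ.fn
  refine extN_of_img h.scA hα hQ.cA.1 (extN_of_receptive h.hS h.hF h.scA (img_le α Q)
    (receptive_of_fullyNormalized h.hS h.hF hn) ?_)
  exact h.centric_self_cen (centricT_congr h.scA hQ.cA (isConj_img h.scA.1 hα hQ.cA.1))

/-- A map in the generated system from `N_A(R)` onto a full conjugate. -/
structure Link (h : Setup F E₁ E₂ p) (R : Subgroup Ω) (ι : ↥(normalizerIn (T₁ ⊓ T₂) R) →* Ω)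
    (Q : Subgroup Ω) : Prop where
  mem : ι ∈ h.wSys.Hom (normalizerIn (T₁ ⊓ T₂) R)
  full : Full F (T₁ ⊓ T₂) Q
  onto : MapsOnto ι R Q

omit h in
theorem Link.maps {h : Setup F E₁ E₂ p} {R Q : Subgroup Ω} {ι : ↥(normalizerIn (T₁ ⊓ T₂) R) →* Ω}
    (hl : Link h R ι Q) (x : ↥(normalizerIn (T₁ ⊓ T₂) R)) : ι x ∈ normalizerIn (T₁ ⊓ T₂) Q :=
  apply_mem_normalizerIn h.scA (h.w_sub _ hl.mem) hl.onto.le hl.onto.mem hl.onto.surj x.2

theorem exists_link {R : Subgroup Ω} (hR : CentricT F (T₁ ⊓ T₂) R) :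
    ∃ Q, ∃ ι : ↥(normalizerIn (T₁ ⊓ T₂) R) →* Ω, Link h R ι Q := by
  haveI := h.finA
  obtain ⟨P, hRP, hPA, hPn, hNn⟩ := exists_prepared h.hS h.hF h.scA hR.1
  obtain ⟨η, hη, hηm, hηP⟩ := exists_normalizer_map h.hS h.hF hPn hRP
  obtain ⟨η', hη', hη'e⟩ := exists_restrict hη
    (fun g hg => ⟨h.scA.1 hg.1, hg.2⟩ : normalizerIn (T₁ ⊓ T₂) R ≤ normalizerIn S R)
  obtain ⟨α, hα, ι, hι, hιe⟩ := h.frattini (normalizerIn_le R) hη'
  have hαi := (F.autGroup (T₁ ⊓ T₂)).inv_mem hα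
  have hιA : ∀ x, ι x ∈ T₁ ⊓ T₂ := fun x => apply_mem hι x
  have hval : ∀ (x : ↥(normalizerIn (T₁ ⊓ T₂) R)) (hx : η' x ∈ T₁ ⊓ T₂),
      ι x = ((α⁻¹ ⟨η' x, hx⟩ : ↥(T₁ ⊓ T₂)) : Ω) := fun x hx => by
    rw [show (⟨η' x, hx⟩ : ↥(T₁ ⊓ T₂)) = α ⟨ι x, hιA x⟩ from Subtype.ext (hιe x _), MulAut.inv_apply_self]
  have hη'A : ∀ x, η' x ∈ T₁ ⊓ T₂ := fun x => stronglyClosed_apply_mem h.scA hη' (normalizerIn_le R x.2)
  refine ⟨img α⁻¹ P, ι, hι, ?_, le_normalizerIn hR.1, fun x => ?_, fun z hz => ?_⟩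
  · refine ⟨centricT_congr h.scA (centricT_congr h.scA hR hRP) (isConj_img h.scA.1 hαi hPA), α, hα, ?_, ?_⟩
    · rwa [img_img_inv α hPA]
    · rwa [img_normalizerIn α (img_le _ _), img_img_inv α hPA]
  · rw [hval _ (hη'A _)]
    refine ⟨⟨_, hη'A _⟩, ?_, rfl⟩
    show η' _ ∈ P
    rw [hη'e, ← hηP]
    exact ⟨_, Subgroup.mem_subgroupOf.2 x.2, rfl⟩
  · obtain ⟨⟨y, hyA⟩, hy, rfl⟩ := hz
    obtain ⟨w, hw, hwe⟩ := hηP.ge hy
    refine ⟨⟨w, Subgroup.mem_subgroupOf.1 hw⟩, ?_⟩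
    rw [hval _ (hη'A _)]
    exact congrArg (fun u => ((α⁻¹ u : ↥(T₁ ⊓ T₂)) : Ω)) (Subtype.ext ((hη'e _).trans hwe))

/-- The conjugate of a generated map by an automorphism of `A`. -/
theorem exists_conj_map {α : MulAut ↥(T₁ ⊓ T₂)} (hα : α ∈ F.autGroup (T₁ ⊓ T₂)) {Y : Subgroup Ω} {f : Y →* Ω}
    (hf : f ∈ h.wSys.Hom Y) : ∃ f' ∈ h.wSys.Hom (img α Y), ∀ y : Y,
      f' ⟨_, apply_mem_img α (src_le hf) y⟩ = ((α ⟨f y, apply_mem hf y⟩ : ↥(T₁ ⊓ T₂)) : Ω) := by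
  obtain ⟨f', hf', he⟩ := h.w_inv hα Y (src_le hf) f hf
  exact ⟨f', hf', fun y => he y _ _⟩

/-- Links are carried along automorphisms of `A`. -/
theorem Link.conj {R Q : Subgroup Ω} {ι : ↥(normalizerIn (T₁ ⊓ T₂) R) →* Ω} (hl : Link h R ι Q)
    (hRA : R ≤ T₁ ⊓ T₂) {α : MulAut ↥(T₁ ⊓ T₂)} (hα : α ∈ F.autGroup (T₁ ⊓ T₂)) :
    ∃ ι' : ↥(normalizerIn (T₁ ⊓ T₂) (img α R)) →* Ω, Link h (img α R) ι' (img α Q) ∧
      ∀ (x : ↥(normalizerIn (T₁ ⊓ T₂) R))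
        (hx : ((α ⟨x, (normalizerIn_le R) x.2⟩ : ↥(T₁ ⊓ T₂)) : Ω) ∈ normalizerIn (T₁ ⊓ T₂) (img α R)),
        ι' ⟨_, hx⟩ = ((α ⟨ι x, apply_mem hl.mem x⟩ : ↥(T₁ ⊓ T₂)) : Ω) := by
  haveI := h.finA
  obtain ⟨f, hf, hfe⟩ := exists_conj_map h hα hl.mem
  obtain ⟨ι', hι', hι'e⟩ := exists_restrict hf (img_normalizerIn α hRA).ge
  have key : ∀ (x : ↥(normalizerIn (T₁ ⊓ T₂) R))
      (hx : ((α ⟨x, (normalizerIn_le R) x.2⟩ : ↥(T₁ ⊓ T₂)) : Ω) ∈ normalizerIn (T₁ ⊓ T₂) (img α R)),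
      ι' ⟨_, hx⟩ = ((α ⟨ι x, apply_mem hl.mem x⟩ : ↥(T₁ ⊓ T₂)) : Ω) := fun x hx => by
    rw [hι'e]; exact hfe x
  refine ⟨ι', ⟨hι', hl.full.image h.scA hα, le_normalizerIn (img_le α R), ?_, ?_⟩, key⟩
  · rintro ⟨_, r, hr, rfl⟩
    exact (key ⟨r, le_normalizerIn hRA hr⟩ _).symm ▸ ⟨⟨_, apply_mem hl.mem _⟩, hl.onto.mem ⟨r, hr⟩, rfl⟩
  · rintro _ ⟨⟨z, hzA⟩, hz, rfl⟩
    obtain ⟨x, hx⟩ := hl.onto.surj z hz
    refine ⟨⟨_, apply_mem_img α hRA x⟩, (key ⟨x, hl.onto.le x.2⟩ _).trans ?_⟩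
    exact congrArg (fun u => ((α u : ↥(T₁ ⊓ T₂)) : Ω)) (Subtype.ext hx)

end Cfsg.Agent.Lib.FS.Inter
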