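import Cfsg.Agent.Lib.FusionSystem.Inter.ExtN
import Cfsg.Agent.Lib.FusionP3.Prime.Basic

/-!
Images under automorphisms of a strongly closed subgroup `A`, values of maps on `N_A(Q)`, and preimages in
`N_A(Q)` of groups of automorphisms of `Q`.
-/

set_option autoImplicit false
set_option linter.style.haveILetI false
set_option linter.unusedSectionVars false

namespace Cfsg.Agent.Lib.FS.Inter

open Cfsg Cfsg.FusionSystem Cfsg.Agent.Lib Cfsg.Agent.Lib.FS Cfsg.Agent.Lib.FS.NormalCentralizer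
open Cfsg.Agent.Lib.FusionP3.Prime (img img_le autRes autRes_range apply_mem_img mem_img)
open Cfsg.Agent.Lib.FusionP3.Induction (preimageAut)
open Cfsg.Agent.Lib.FS.CentralLift (congr_apply_map)

variable {Ω : Type*} [Group Ω] {S A : Subgroup Ω} {F : FusionSystem S}

section Img

theorem img_mono (α : MulAut A) {P Q : Subgroup Ω} (h : P ≤ Q) : img α P ≤ img α Q := by
  rintro _ ⟨x, hx, rfl⟩
  exact ⟨x, h hx, rfl⟩

theorem img_inv_img (α : MulAut A) {P : Subgroup Ω} (hP : P ≤ A) : img α⁻¹ (img α P) = P := by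
  ext y
  constructor
  · intro hy
    have hyA := img_le α⁻¹ _ hy
    rw [mem_img hyA, mem_img (SetLike.coe_mem _), inv_inv] at hy
    simpa using hy
  · intro hy
    rw [mem_img (hP hy), inv_inv, mem_img (SetLike.coe_mem _)]
    simpa using hy

theorem img_img_inv (α : MulAut A) {P : Subgroup Ω} (hP : P ≤ A) : img α (img α⁻¹ P) = P := by
  have h := img_inv_img α⁻¹ hP
  rwa [inv_inv] at h

theorem img_mul (α β : MulAut A) (P : Subgroup Ω) : img (α * β) P = img α (img β P) := by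
  ext y
  constructor
  · rintro ⟨x, hx, rfl⟩
    exact ⟨β x, ⟨x, hx, rfl⟩, rfl⟩
  · rintro ⟨z, ⟨x, hx, hxz⟩, rfl⟩
    refine ⟨x, hx, ?_⟩
    have h : β x = z := Subtype.ext hxz
    rw [← h]
    rfl

theorem img_self (α : MulAut A) : img α A = A :=
  le_antisymm (img_le α A) fun y hy => (mem_img hy).2 (SetLike.coe_mem _)

theorem card_img (α : MulAut A) {P : Subgroup Ω} (hP : P ≤ A) : Nat.card (img α P) = Nat.card P := by
  rw [← autRes_range α hP]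
  refine (Nat.card_congr (MonoidHom.ofInjective (f := autRes α hP) ?_).toEquiv).symm
  intro a b hab
  have h : α ⟨a, hP a.2⟩ = α ⟨b, hP b.2⟩ := Subtype.ext hab
  exact Subtype.ext (congrArg Subtype.val (α.injective h) :)

theorem apply_mem_normalizer_img [Finite A] (α : MulAut A) (Q : Subgroup Ω) {g : Ω}
    (hg : g ∈ normalizerIn A Q) : ((α ⟨g, hg.1⟩ : A) : Ω) ∈ Subgroup.normalizer ((img α Q : Subgroup Ω) : Set Ω) := by
  haveI := finite_sub (img_le α Q)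
  refine mem_normalizer_of_conj_mem ?_
  rintro _ ⟨x, hx, rfl⟩
  refine ⟨⟨g, hg.1⟩ * x * (⟨g, hg.1⟩ : A)⁻¹,
    (conj_mem_of_normalizer hg.2 (show (x : Ω) ∈ Q from hx) :), ?_⟩
  show ((α (⟨g, hg.1⟩ * x * (⟨g, hg.1⟩ : A)⁻¹) : A) : Ω) = _
  rw [map_mul, map_mul, map_inv]
  rfl

theorem img_normalizerIn [Finite A] (α : MulAut A) {Q : Subgroup Ω} (hQ : Q ≤ A) :
    img α (normalizerIn A Q) = normalizerIn A (img α Q) := by
  have h : ∀ (β : MulAut A) (R : Subgroup Ω), img β (normalizerIn A R) ≤ normalizerIn A (img β R) := by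
    rintro β R _ ⟨x, hx, rfl⟩
    exact ⟨(β x).2, apply_mem_normalizer_img β R (g := x) hx⟩
  refine le_antisymm (h α Q) fun y hy => ?_
  have h2 : img α⁻¹ (normalizerIn A (img α Q)) ≤ normalizerIn A Q := by
    have h1 := h α⁻¹ (img α Q)
    rwa [img_inv_img α hQ] at h1
  have h3 := img_mono α h2
  rw [img_img_inv α (normalizerIn_le _)] at h3
  exact h3 hy

/-- Transport by an automorphism of `A` carries induced automorphisms to induced automorphisms. -/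
theorem congr_img_induced {α : MulAut A} {P Q Y : Subgroup Ω} (hQ : Q ≤ A) (hY : Y ≤ A) {φ : Q →* Ω}
    (hφ : φ ∈ F.Hom Q) (hr : φ.range = P) (he : ∀ x : Q, φ x = ((α ⟨x, hQ x.2⟩ : A) : Ω)) {c : MulAut Q}
    (hc : c ∈ autInducedBy Y Q) : MulAut.congr (homEquiv hφ hr) c ∈ autInducedBy (img α Y) P := by
  obtain ⟨g, hg, hge⟩ := mem_autInducedBy.1 hc
  refine mem_autInducedBy.2 ⟨_, apply_mem_img α hY ⟨g, hg⟩, fun y => ?_⟩
  obtain ⟨x, rfl⟩ := (homEquiv hφ hr).surjective y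
  rw [congr_apply_map, he, homEquiv_coe, he]
  rw [show (⟨((c x : Q) : Ω), hQ (c x).2⟩ : A) = ⟨g, hY hg⟩ * ⟨x, hQ x.2⟩ * (⟨g, hY hg⟩ : A)⁻¹ from
    Subtype.ext (hge x), map_mul, map_mul, map_inv]
  rfl

end Img

section Values

variable [Finite S]

/-- A map carrying `Q` onto `Q'` carries `N_A(Q)` into `N_A(Q')`. -/
theorem apply_mem_normalizerIn (hsc : F.StronglyClosed A) {Y Q Q' : Subgroup Ω} {f : Y →* Ω}
    (hf : f ∈ F.Hom Y) (hQY : Q ≤ Y) (hm : ∀ q : Q, f ⟨q, hQY q.2⟩ ∈ Q')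
    (hsurj : ∀ z ∈ Q', ∃ q : Q, f ⟨q, hQY q.2⟩ = z) {y : Y} (hy : (y : Ω) ∈ normalizerIn A Q) :
    f y ∈ normalizerIn A Q' := by
  have hQ'S : Q' ≤ S := fun z hz => by
    obtain ⟨q, rfl⟩ := hsurj z hz
    exact apply_mem hf _
  haveI := finite_sub hQ'S
  refine ⟨stronglyClosed_apply_mem hsc hf hy.1, mem_normalizer_of_conj_mem fun z hz => ?_⟩
  obtain ⟨q, rfl⟩ := hsurj z hz
  have h1 : (y : Ω) * q * (y : Ω)⁻¹ ∈ Q := conj_mem_of_normalizer hy.2 q.2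
  have h2 := hm ⟨_, h1⟩
  rw [show (⟨(y : Ω) * q * (y : Ω)⁻¹, hQY h1⟩ : Y) = y * ⟨q, hQY q.2⟩ * y⁻¹ from Subtype.ext rfl,
    map_mul, map_mul, map_inv] at h2
  exact h2

omit [Finite S] in
/-- Maps agreeing on `Q` agree on `N_A(Q)` modulo the image of `Q`. -/
theorem agree_mod (hsc : F.StronglyClosed A) {Y Q Q' : Subgroup Ω} {f f' : Y →* Ω} (hf : f ∈ F.Hom Y)
    (hf' : f' ∈ F.Hom Y) (hQY : Q ≤ Y) (he : ∀ q : Q, f' ⟨q, hQY q.2⟩ = f ⟨q, hQY q.2⟩)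
    (hsurj : ∀ z ∈ Q', ∃ q : Q, f ⟨q, hQY q.2⟩ = z) (hC : centralizerIn A Q' ≤ Q') {y : Y}
    (hy : (y : Ω) ∈ normalizerIn A Q) : (f y)⁻¹ * f' y ∈ Q' := by
  refine hC (mem_centralizerIn'.2
    ⟨A.mul_mem (A.inv_mem (stronglyClosed_apply_mem hsc hf hy.1)) (stronglyClosed_apply_mem hsc hf' hy.1),
      fun z hz => ?_⟩)
  obtain ⟨q, rfl⟩ := hsurj z hz
  have h1 : (y : Ω) * q * (y : Ω)⁻¹ ∈ Q := conj_mem_of_normalizer hy.2 q.2
  have h2 := he ⟨_, h1⟩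
  rw [show (⟨(y : Ω) * q * (y : Ω)⁻¹, hQY h1⟩ : Y) = y * ⟨q, hQY q.2⟩ * y⁻¹ from Subtype.ext rfl,
    map_mul, map_mul, map_inv, map_mul, map_mul, map_inv, he] at h2
  calc (f y)⁻¹ * f' y * f ⟨q, hQY q.2⟩ * ((f y)⁻¹ * f' y)⁻¹
      = (f y)⁻¹ * (f' y * f ⟨q, hQY q.2⟩ * (f' y)⁻¹) * f y := by group
    _ = f ⟨q, hQY q.2⟩ := by rw [h2]; group

end Values

section Preimage

variable {Q : Subgroup Ω}

theorem preimage_le (V : Subgroup (MulAut Q)) : preimageAut A Q V ≤ normalizerIn A Q := fun _ hg => hg.1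

theorem preimageAut_mono {V W : Subgroup (MulAut Q)} (h : V ≤ W) :
    preimageAut A Q V ≤ preimageAut A Q W := fun _ hg => by
  obtain ⟨hg1, w, hw, he⟩ := hg
  exact ⟨hg1, w, h hw, he⟩

theorem autInducedBy_preimageAut {V : Subgroup (MulAut Q)} (hV : V ≤ autInducedBy A Q) :
    autInducedBy (preimageAut A Q V) Q = V := by
  refine le_antisymm (fun a ha => ?_) fun v hv => ?_
  · obtain ⟨g, ⟨-, w, hw, hwe⟩, he⟩ := mem_autInducedBy.1 ha
    rwa [show a = w from MulEquiv.ext fun x => Subtype.ext ((he x).trans (hwe x).symm)]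
  · obtain ⟨g, hg, he⟩ := mem_autInducedBy.1 (hV hv)
    exact mem_autInducedBy.2 ⟨g, ⟨⟨hg, mem_normalizer_of_aut he⟩, v, hv, he⟩, he⟩

theorem le_preimage_induced {Y : Subgroup Ω} (hY : Y ≤ normalizerIn A Q) :
    Y ≤ preimageAut A Q (autInducedBy Y Q) := fun g hg =>
  ⟨hY hg, Q.normalizerMonoidHom ⟨g, (hY hg).2⟩, mem_autInducedBy.2 ⟨g, hg, fun _ => rfl⟩, fun _ => rfl⟩

theorem preimageAut_top : preimageAut A Q (autInducedBy A Q) = normalizerIn A Q :=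
  le_antisymm (preimage_le _) fun _ hg =>
    ⟨hg, Q.normalizerMonoidHom ⟨_, hg.2⟩, mem_autInducedBy.2 ⟨_, hg.1, fun _ => rfl⟩, fun _ => rfl⟩

/-- Values of maps on preimages. -/
theorem apply_mem_preimageAut (hsc : F.StronglyClosed A) [Finite S] {Y : Subgroup Ω} {f : Y →* Ω}
    (hf : f ∈ F.Hom Y) (hQY : Q ≤ Y) {u : MulAut Q} (hu : ∀ q : Q, f ⟨q, hQY q.2⟩ = ((u q : Q) : Ω))
    {V X : Subgroup (MulAut Q)} (hVX : ∀ v ∈ V, u * v * u⁻¹ ∈ X) {y : Y}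
    (hy : (y : Ω) ∈ preimageAut A Q V) : f y ∈ preimageAut A Q X := by
  obtain ⟨hyN, v, hv, hve⟩ := hy
  refine ⟨apply_mem_normalizerIn hsc hf hQY (fun q => by rw [hu]; exact (u q).2)
    (fun z hz => ⟨u⁻¹ ⟨z, hz⟩, by rw [hu, MulAut.apply_inv_self]⟩) hyN, _, hVX v hv, fun q => ?_⟩
  exact conj_aut_eq hQY hu hve q

end Preimage

end Cfsg.Agent.Lib.FS.Inter
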