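import Cfsg.Agent.Lib.FusionSystem.Inter.Gen
import Cfsg.Agent.Lib.FusionSystem.Inter.Transport

/-!
Representatives `Q`, and the extension in the generated system of elements of `K(Q)` to subgroups of `N_A(Q)`.
-/

set_option autoImplicit false
set_option linter.style.haveILetI false
set_option linter.unusedSectionVars false

namespace Cfsg.Agent.Lib.FS.Inter

open Cfsg Cfsg.FusionSystem Cfsg.Agent.Lib Cfsg.Agent.Lib.FS Cfsg.Agent.Lib.FS.NormalCentralizer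
open Cfsg.Agent.Lib.FusionP3.Prime (img img_le autRes autRes_range apply_mem_img mem_img)
open Cfsg.Agent.Lib.FusionP3.Induction (preimageAut)
open Cfsg.Agent.Lib.FS.CentralLift (Restr congr_apply_map congr_inv)

variable {Ω : Type*} [Group Ω] {S T T₁ T₂ : Subgroup Ω} {p : ℕ}
  {F : FusionSystem S} {E : FusionSystem T} {E₁ : FusionSystem T₁} {E₂ : FusionSystem T₂}

/-- An element of order prime to `p` congruent to an element of `p`-power order modulo a normal subgroup lies in it. -/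
theorem mem_of_coprime_mul {G : Type*} [Group G] [Fact p.Prime] {N H : Subgroup G}
    (hN : ∀ g ∈ H, ∀ n ∈ N, g * n * g⁻¹ ∈ N) {a d : G} (ha : a ∈ H) (hd : d ∈ H) (had : a * d⁻¹ ∈ N)
    (hda : ¬ p ∣ orderOf a) {k : ℕ} (hdp : d ^ p ^ k = 1) : a ∈ N := by
  haveI : (N.subgroupOf H).Normal := ⟨fun n hn g =>
    Subgroup.mem_subgroupOf.2 (hN g g.2 n (Subgroup.mem_subgroupOf.1 hn))⟩
  set f := QuotientGroup.mk' (N.subgroupOf H) with hf
  have hfa : f ⟨a, ha⟩ = f ⟨d, hd⟩ := by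
    rw [← mul_inv_eq_one, ← map_inv, ← map_mul]
    exact (QuotientGroup.eq_one_iff _).2 (Subgroup.mem_subgroupOf.2 had)
  have h1 : orderOf (f ⟨a, ha⟩) ∣ p ^ k := by
    refine orderOf_dvd_of_pow_eq_one ?_
    rw [hfa, ← map_pow, show (⟨d, hd⟩ : H) ^ p ^ k = 1 from Subtype.ext hdp, map_one]
  obtain ⟨j, -, hj⟩ := (Nat.dvd_prime_pow (Fact.out : p.Prime)).1 h1
  have hj0 : j = 0 := by
    by_contra hne
    refine hda ((dvd_pow_self p hne).trans (hj ▸ ?_))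
    have := orderOf_map_dvd f ⟨a, ha⟩
    rwa [Subgroup.orderOf_mk] at this
  rw [hj0, pow_zero, orderOf_eq_one_iff] at hj
  exact Subgroup.mem_subgroupOf.1 ((QuotientGroup.eq_one_iff _).1 hj)

/-- What is used about a representative `Q ≤ A`. -/
structure Rep (F : FusionSystem S) (E₁ : FusionSystem T₁) (E₂ : FusionSystem T₂) (p : ℕ) (Q : Subgroup Ω) :
    Prop where
  cA : CentricT F (T₁ ⊓ T₂) Q
  sylow : ∀ Z : Subgroup (MulAut Q), Z ≤ kAut F E₁ E₂ p Q → IsPGroup p Z →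
    ∃ a ∈ kAut F E₁ E₂ p Q, ∀ z ∈ Z, a * z * a⁻¹ ∈ autInducedBy (T₁ ⊓ T₂) Q
  ilift : ∀ b ∈ kAut F E₁ E₂ p Q, ¬ p ∣ orderOf b → ∀ (Y : Subgroup Ω) (hQY : Q ≤ Y),
    Y ≤ normalizerIn (T₁ ⊓ T₂) Q → (∀ c ∈ autInducedBy Y Q, b * c * b⁻¹ ∈ autInducedBy Y Q) →
    ∃ b' ∈ kAut F E₁ E₂ p Y, Restr hQY b' b

variable [Finite S] [hp : Fact p.Prime]

/-- An automorphism of order prime to `p` of a fully centralised `Q` extends in a normal subsystem. -/
theorem exists_ext_normal {A : Subgroup Ω} (hS : IsPGroup p S) (hE : E.IsNormalIn F p)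
    (hsc : F.StronglyClosed A) (hAT : A ≤ T) {Q Y : Subgroup Ω} (hQc : F.IsFullyCentralized Q)
    (hC : centralizerIn A Q ≤ Q) (hQY : Q ≤ Y) (hYN : Y ≤ normalizerIn A Q) {b : MulAut Q}
    (hb : b ∈ E.autGroup Q) (hord : ¬ p ∣ orderOf b)
    (hn : ∀ c ∈ autInducedBy Y Q, b * c * b⁻¹ ∈ autInducedBy Y Q) :
    ∃ a ∈ E.autGroup Y, Restr hQY a b ∧ ¬ p ∣ orderOf a := by
  have hTS := hE.1.2.2.2.1.1
  have hYT : Y ≤ T := (hYN.trans (normalizerIn_le Q)).trans hAT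
  haveI := finite_sub hTS
  haveI := finite_sub (hYT.trans hTS)
  obtain ⟨ψ, hψ, hψe⟩ := FusionP3.Induction.exists_extend_aut
    (receptiveE hS hE (hQY.trans hYT) hQc) (R := Y) (fun y hy => ⟨hYT hy, (hYN hy).2⟩) hb (fun g hg => by
      obtain ⟨h, hh, he⟩ := mem_autInducedBy.1 (hn (Q.normalizerMonoidHom ⟨g, (hYN hg).2⟩)
        (mem_autInducedBy.2 ⟨g, hg, fun _ => rfl⟩))
      refine ⟨h, hYT hh, fun x hx => ?_⟩
      rw [← he (b x), MulAut.mul_apply, MulAut.mul_apply, MulAut.inv_apply_self]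
      rfl)
  have hψQ : ∀ q : Q, ψ ⟨q, hQY q.2⟩ = ((b q : Q) : Ω) := fun q => hψe q q.2 _
  obtain ⟨a, ha, hae⟩ := exists_aut hψ fun g => by
    obtain ⟨h, hh, he⟩ := mem_autInducedBy.1 (hn (Q.normalizerMonoidHom ⟨g, (hYN g.2).2⟩)
      (mem_autInducedBy.2 ⟨g, g.2, fun _ => rfl⟩))
    have h1 : h⁻¹ * ψ g ∈ centralizerIn A Q := by
      refine mem_centralizerIn'.2 ⟨A.mul_mem (A.inv_mem (hYN hh).1)
        (stronglyClosed_apply_mem hsc (hE.1.2.2.1 Y hψ) (hYN g.2).1), fun y hy => ?_⟩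
      have h2 : (b * Q.normalizerMonoidHom ⟨g, (hYN g.2).2⟩ * b⁻¹) ⟨y, hy⟩ = (ψ g * y * (ψ g)⁻¹ : Ω) :=
        conj_aut_eq hQY hψQ (fun _ => rfl) ⟨y, hy⟩
      rw [he] at h2
      calc h⁻¹ * ψ g * y * (h⁻¹ * ψ g)⁻¹ = h⁻¹ * (ψ g * y * (ψ g)⁻¹) * h := by group
        _ = y := by rw [← h2]; group
    have h3 := Y.mul_mem hh (hQY (hC h1))
    rwa [mul_inv_cancel_left] at h3
  have har : Restr hQY a b := fun q => (hae _).trans (hψQ q)
  obtain ⟨n, hn', hnord⟩ := exists_pow_prime_to (x := a) hord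
  exact ⟨a ^ n, pow_mem ha n, hn' ▸ har.pow n, hnord⟩

namespace Setup

variable (h : Setup F E₁ E₂ p)
include h

theorem rep_of_fn {Q : Subgroup Ω} (hQ : CentricT F (T₁ ⊓ T₂) Q) (hQn : F.IsFullyNormalized Q) :
    Rep F E₁ E₂ p Q := by
  refine ⟨hQ, fun Z hZ hZp => ?_, fun b hb hord Y hQY hYN hn => ?_⟩
  · haveI := finite_sub hQn.1
    obtain ⟨R, hR⟩ := h.exists_sylow_kAut hQ.1 hQn
    exact exists_conj_le_sylow R hR hZ hZp
  have hbI := h.kAut_le_iAut hQ.1 hb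
  have hQc := (fullyNormalized_props h.hS h.hF hQn).1
  have hC : centralizerIn (T₁ ⊓ T₂) Q ≤ Q := hQ.2 Q (isConj_refl F hQn.1)
  have hYA : Y ≤ T₁ ⊓ T₂ := hYN.trans (normalizerIn_le Q)
  have hYS : Y ≤ S := hYA.trans h.scA.1
  haveI := finite_sub hYS
  obtain ⟨a₁, ha₁, hr₁, ho₁⟩ := exists_ext_normal h.hS h.h₁ h.scA inf_le_left hQc hC hQY hYN hbI.1 hord hn
  obtain ⟨a₂, ha₂, hr₂, -⟩ := exists_ext_normal h.hS h.h₂ h.scA inf_le_right hQc hC hQY hYN hbI.2 hord hn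
  have ha₁F := autE_le_autF h.h₁.1.2.2.1 (hYA.trans inf_le_left) ha₁
  have ha₂F := autE_le_autF h.h₂.1.2.2.1 (hYA.trans inf_le_right) ha₂
  refine ⟨a₁, coprime_mem_kAut ⟨ha₁, ?_⟩ ho₁, hr₁⟩
  set δ := a₂⁻¹ * a₁ with hδ
  have hδF : δ ∈ F.autGroup Y := mul_mem ((F.autGroup Y).inv_mem ha₂F) ha₁F
  have hδfix : δ ∈ fixSub Y Q := fun x hx => by
    have h1 := hr₂.inv.mul hr₁
    rw [inv_mul_cancel] at h1
    exact Subtype.ext (restr_apply h1 hx)
  have hδmove : δ ∈ moveSub Y Q := by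
    refine mem_moveSub (fun x => ⟨fun hx => by rwa [hδfix x hx], fun hx => ?_⟩) fun x => ?_
    · have h1 := (fixSub Y Q).inv_mem hδfix (δ x) hx
      rw [MulAut.inv_apply_self] at h1
      rwa [← h1] at hx
    · obtain ⟨φ, hφ, -, hφe⟩ := exists_hom_of_aut hYS hδF
      have h1 := agree_mod (Q' := Q) h.scA (subtype_mem F hYS) hφ hQY
        (fun q => (hφe _).trans (congrArg Subtype.val (hδfix _ q.2)))
        (fun z hz => ⟨⟨z, hz⟩, rfl⟩) hC (hYN x.2)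
      rwa [hφe] at h1
  obtain ⟨k, hk⟩ := isPGroup_fix_move h.hS hYS ⟨δ, hδmove, hδfix⟩
  refine mem_of_coprime_mul (H := F.autGroup Y) (fun g hg n hn => ?_) ha₁F hδF ?_ ho₁
    (congrArg Subtype.val hk)
  · exact autE_normal h.h₂ (hYA.trans inf_le_right) hn hg
  · rw [hδ, mul_inv_rev, inv_inv, ← mul_assoc, mul_inv_cancel, one_mul]
    exact ha₂

/-- Representatives are carried along automorphisms of `A`. -/
theorem rep_of_img {Q : Subgroup Ω} {α : MulAut ↥(T₁ ⊓ T₂)} (hα : α ∈ F.autGroup (T₁ ⊓ T₂))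
    (hQ : Q ≤ T₁ ⊓ T₂) (hR : Rep F E₁ E₂ p (img α Q)) : Rep F E₁ E₂ p Q := by
  have hAS := h.scA.1
  have hαi := (F.autGroup (T₁ ⊓ T₂)).inv_mem hα
  have hφ := autRes_memF hAS hα hQ
  have hr := autRes_range α hQ
  have hψ := autRes_memF hAS hαi (img_le α Q)
  have hψr : (autRes α⁻¹ (img_le α Q)).range = Q := (autRes_range _ _).trans (img_inv_img α hQ)
  have hl : ∀ (x : Q) (hx : autRes α hQ x ∈ img α Q), autRes α⁻¹ (img_le α Q) ⟨autRes α hQ x, hx⟩ = x :=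
    fun x hx => by simp
  set κ := MulAut.congr (homEquiv hφ hr) with hκ
  set κ' := MulAut.congr (homEquiv hψ hψr) with hκ'
  have hκκ : ∀ a, κ' (κ a) = a := congr_inv hφ hr hψ hψr hl
  refine ⟨centricT_congr h.scA hR.cA (isConj_symm (isConj_img hAS hα hQ)), fun Z hZ hZp => ?_,
    fun b hb hord Y hQY hYN hn => ?_⟩
  · obtain ⟨a, ha, hac⟩ := hR.sylow (Z.map κ.toMonoidHom)
      (by rintro _ ⟨z, hz, rfl⟩; exact h.congr_mem_kAut hQ hφ hr (hZ hz)) (hZp.map _)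
    refine ⟨κ' a, h.congr_mem_kAut (img_le α Q) hψ hψr ha, fun z hz => ?_⟩
    have h1 := congr_img_induced (α := α⁻¹) (img_le α Q) le_rfl hψ hψr (fun _ => rfl) (hac (κ z) ⟨z, hz, rfl⟩)
    rw [img_self, ← hκ', map_mul, map_mul, map_inv, hκκ] at h1
    exact h1
  have hYA : Y ≤ T₁ ⊓ T₂ := hYN.trans (normalizerIn_le Q)
  haveI := h.finA
  obtain ⟨b', hb', hb'r⟩ := hR.ilift (κ b) (h.congr_mem_kAut hQ hφ hr hb)
    (by rwa [hκ, MulEquiv.orderOf_eq]) (img α Y) (img_mono α hQY)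
    ((img_mono α hYN).trans (img_normalizerIn α hQ).le) (fun c hc => by
      have h1 := congr_img_induced (α := α⁻¹) (img_le α Q) (img_le α Y) hψ hψr (fun _ => rfl) hc
      rw [img_inv_img α hYA, ← hκ'] at h1
      have h2 := congr_img_induced hQ hYA hφ hr (fun _ => rfl) (hn _ h1)
      have h3 : κ (κ' c) = c := congr_inv hψ hψr hφ hr (fun x hx => by simp) c
      rw [← hκ, map_mul, map_mul, map_inv, h3] at h2
      exact h2)
  have hχ := autRes_memF hAS hαi (img_le α Y)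
  have hχr : (autRes α⁻¹ (img_le α Y)).range = Y := (autRes_range _ _).trans (img_inv_img α hYA)
  refine ⟨_, h.congr_mem_kAut (img_le α Y) hχ hχr hb', fun x => ?_⟩
  have e : homEquiv hχ hχr ⟨_, apply_mem_img α hYA (Subgroup.inclusion hQY x)⟩ = Subgroup.inclusion hQY x :=
    Subtype.ext (by simp)
  rw [← e, congr_apply_map]
  have h1 : ((b' ⟨_, apply_mem_img α hYA (Subgroup.inclusion hQY x)⟩ : img α Y) : Ω) =
      ((κ b (homEquiv hφ hr x) : img α Q) : Ω) := hb'r (homEquiv hφ hr x)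
  rw [hκ, congr_apply_map] at h1
  show ((α⁻¹ ⟨_, _⟩ : ↥(T₁ ⊓ T₂)) : Ω) = _
  simp only [h1, FusionP3.Prime.autRes_apply]
  simp

end Setup

section Fuse

variable {Q : Subgroup Ω}

omit [Finite S] hp in
theorem le_preimage {A : Subgroup Ω} (hQ : Q ≤ A) {V : Subgroup (MulAut Q)} (hV : Inn Q ≤ V) :
    Q ≤ preimageAut A Q V := fun g hg =>
  ⟨le_normalizerIn hQ hg, _, hV ⟨⟨g, hg⟩, rfl⟩, fun _ => rfl⟩

omit [Finite S] hp in
theorem inn_conj {c i : MulAut Q} (hi : i ∈ Inn Q) : c * i * c⁻¹ ∈ Inn Q := by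
  obtain ⟨q, rfl⟩ := hi
  exact ⟨c q, MulEquiv.ext fun x => by simp [MulAut.conj_apply]⟩

variable (h : Setup F E₁ E₂ p)
include h

/-- Elements of the normaliser of `X` in `K(Q)` extend to the preimage of `X` when the normaliser of `X` in
`Aut_A(Q)` is a Sylow subgroup. -/
theorem Rep.extend_normalising (hR : Rep F E₁ E₂ p Q) {X : Subgroup (MulAut Q)} (hX₁ : Inn Q ≤ X)
    (hX₂ : X ≤ autInducedBy (T₁ ⊓ T₂) Q)
    {M : Subgroup (MulAut Q)} (hM : M = kAut F E₁ E₂ p Q ⊓ Subgroup.normalizer (X : Set (MulAut Q)))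
    {Sy : Sylow p M} (hSy : ∀ x ∈ (Sy : Subgroup M), (x : MulAut Q) ∈ autInducedBy (T₁ ⊓ T₂) Q)
    {γ : MulAut Q} (hγ : γ ∈ M) :
    ∃ e ∈ h.wSys.Hom (preimageAut (T₁ ⊓ T₂) Q X), ∀ q : Q,
      e ⟨q, le_preimage hR.cA.1 hX₁ q.2⟩ = ((γ q : Q) : Ω) := by
  set A := T₁ ⊓ T₂ with hA
  have hQS : Q ≤ S := hR.cA.1.trans h.scA.1
  haveI := finite_sub hQS
  set Xp := preimageAut A Q X with hXp
  have hXpN : Xp ≤ normalizerIn A Q := preimage_le X
  have hQX : Q ≤ Xp := le_preimage hR.cA.1 hX₁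
  have hconj : ∀ g ∈ M, ∀ v ∈ X, g * v * g⁻¹ ∈ X := fun g hg v hv =>
    (Subgroup.mem_normalizer_iff.1 (hM.le hg).2 v).1 hv
  have hXpA : Xp ≤ A := hXpN.trans (normalizerIn_le Q)
  let G : Submonoid ↥M :=
    { carrier := {g | ∃ e ∈ h.wSys.Hom Xp, ∀ q : Q, e ⟨q, hQX q.2⟩ = (((g : MulAut Q) q : Q) : Ω)}
      one_mem' := ⟨Xp.subtype, subtype_mem h.wSys hXpA, fun _ => rfl⟩
      mul_mem' := fun {a b} ha hb => by
        obtain ⟨ea, hea, hea'⟩ := ha
        obtain ⟨eb, heb, heb'⟩ := hb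
        have hm : ∀ y, eb y ∈ Xp := fun y =>
          apply_mem_preimageAut h.scA (h.w_sub Xp heb) hQX heb' (hconj b b.2) y.2
        obtain ⟨e, he, hee⟩ := exists_comp heb hea hm
        refine ⟨e, he, fun q => ?_⟩
        rw [hee, Subgroup.coe_mul, MulAut.mul_apply, ← hea']
        exact congrArg ea (Subtype.ext (heb' q)) }
  suffices hall : ∀ g : M, g ∈ G from hall ⟨γ, hγ⟩
  intro g
  have hg := (closure_prime_to_sup_sylow Sy).ge (Subgroup.mem_top g)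
  rw [← Subgroup.closure_eq (Sy : Subgroup ↥M), ← Subgroup.closure_union, ← Subgroup.mem_toSubmonoid,
    Subgroup.closure_toSubmonoid_of_finite] at hg
  refine ((Submonoid.closure_le).2 ?_) hg
  rintro x (hx | hx)
  · obtain ⟨b, hb, hbr⟩ := hR.ilift (x : MulAut Q) (hM.le x.2).1 (by simpa [Subgroup.orderOf_coe] using hx) Xp hQX
      hXpN (by rw [hXp, autInducedBy_preimageAut hX₂]; exact hconj x x.2)
    obtain ⟨φ, hφ, -, hφe⟩ := exists_hom_of_aut hXpA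
      (h.kAut_le_w (hR.cA.mono hQX hXpA) hb)
    exact ⟨φ, hφ, fun q => (hφe _).trans (hbr q)⟩
  · obtain ⟨t, ht, hte⟩ := mem_autInducedBy.1 (hSy x hx)
    exact ⟨_, h.wSys.conj_mem hXpA ht, fun q => (hte q).symm⟩

/-- Elements of `K(Q)` extend in the generated system to preimages. -/
theorem Rep.fuse (hR : Rep F E₁ E₂ p Q) {V : Subgroup (MulAut Q)} (hV₁ : Inn Q ≤ V)
    (hV₂ : V ≤ autInducedBy (T₁ ⊓ T₂) Q) {a : MulAut Q} (ha : a ∈ kAut F E₁ E₂ p Q)
    (hav : ∀ v ∈ V, a * v * a⁻¹ ∈ autInducedBy (T₁ ⊓ T₂) Q) :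
    ∃ e ∈ h.wSys.Hom (preimageAut (T₁ ⊓ T₂) Q V), ∀ q : Q,
      e ⟨q, le_preimage hR.cA.1 hV₁ q.2⟩ = ((a q : Q) : Ω) := by
  set A := T₁ ⊓ T₂ with hA
  set K := kAut F E₁ E₂ p Q with hK
  set P := autInducedBy A Q with hP
  have hQS : Q ≤ S := hR.cA.1.trans h.scA.1
  haveI := finite_sub hQS
  have hPp : IsPGroup p P := isPGroup_autInducedBy_of_le h.hS h.scA.1 Q
  have hPK : P ≤ K := autA_le_kAut hQS
  induction hd : Nat.card P - Nat.card V using Nat.strong_induction_on generalizing V a with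
  | _ d ih =>
  rcases hV₂.eq_or_lt with hVP | hVP
  · subst hVP
    obtain ⟨Sy, hSy⟩ := exists_sylow_of_card_ge (A := K ⊓ Subgroup.normalizer (P : Set (MulAut Q)))
      (le_inf hPK Subgroup.le_normalizer) hPp default (by
        set M := K ⊓ Subgroup.normalizer (P : Set (MulAut Q)) with hM
        obtain ⟨c, -, hc⟩ := hR.sylow (((default : Sylow p M) : Subgroup M).map M.subtype)
          ((Subgroup.map_subtype_le _).trans inf_le_left) ((default : Sylow p M).2.map _)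
        rw [Nat.card_congr ((default : Sylow p M).1.equivMapOfInjective M.subtype M.subtype_injective).toEquiv]
        exact Nat.card_le_card_of_injective (fun t => (⟨c * t * c⁻¹, hc t t.2⟩ : P))
          fun s t hst => Subtype.ext (mul_left_cancel (mul_right_cancel (congrArg Subtype.val hst))))
    refine hR.extend_normalising h hV₁ le_rfl rfl (Sy := Sy)
      (fun x hx => by rw [hSy, Subgroup.mem_subgroupOf] at hx; exact hx) ⟨ha, ?_⟩
    exact mem_normalizer_of_conj_mem hav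
  · set N := P ⊓ Subgroup.normalizer (V : Set (MulAut Q)) with hN
    set M := K ⊓ Subgroup.normalizer (V : Set (MulAut Q)) with hM
    have hVN : V < N := FusionP3.Induction.lt_normalizerIn hPp hVP
    have hNM : N ≤ M := inf_le_inf_right _ hPK
    obtain ⟨Sp, hSp⟩ := ((hPp.to_le inf_le_left).of_equiv
      (Subgroup.subgroupOfEquivOfLe hNM).symm).exists_le_sylow
    set Zp := (Sp : Subgroup M).map M.subtype with hZp
    have hNZ : N ≤ Zp := fun n hn =>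
      ⟨⟨n, hNM hn⟩, hSp (Subgroup.mem_subgroupOf.2 hn), rfl⟩
    have hSpeq : (Sp : Subgroup M) = Zp.subgroupOf M :=
      (Subgroup.comap_map_eq_self_of_injective M.subtype_injective _).symm
    obtain ⟨c, hc, hcP⟩ := hR.sylow Zp ((Subgroup.map_subtype_le _).trans inf_le_left) (Sp.2.map _)
    set X := V.map (MulAut.conj c).toMonoidHom with hX
    have hXmem : ∀ {x}, x ∈ X ↔ c⁻¹ * x * c ∈ V := fun {x} => by
      rw [hX, Subgroup.mem_map]
      constructor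
      · rintro ⟨v, hv, rfl⟩
        simpa [mul_assoc] using hv
      · exact fun hx => ⟨_, hx, by simp [mul_assoc]⟩
    have hXP : X ≤ P := fun x hx => by
      have h1 := hcP _ (hNZ (hVN.le (hXmem.1 hx)))
      simpa [mul_assoc] using h1
    have hX₁ : Inn Q ≤ X := fun i hi =>
      hXmem.2 (hV₁ (by simpa using inn_conj (c := c⁻¹) hi))
    have hcardX : Nat.card X = Nat.card V :=
      (Nat.card_congr (V.equivMapOfInjective _ (MulAut.conj c).injective).toEquiv).symm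
    -- the normaliser of `X` in `P` is a Sylow subgroup
    have hZX : ∀ z ∈ Zp, c * z * c⁻¹ ∈ Subgroup.normalizer (X : Set (MulAut Q)) := fun z hz => by
      refine mem_normalizer_of_conj_mem fun x hx => hXmem.2 ?_
      have hzM : z ∈ M := Subgroup.map_subtype_le _ hz
      have h1 := (Subgroup.mem_normalizer_iff.1 hzM.2 _).1 (hXmem.1 hx)
      simpa [mul_assoc] using h1
    obtain ⟨SyX, hSyX⟩ := exists_sylow_of_card_ge (A := K ⊓ Subgroup.normalizer (X : Set (MulAut Q)))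
      (inf_le_inf_right _ hPK) (hPp.to_le inf_le_left) default (by
        set MX := K ⊓ Subgroup.normalizer (X : Set (MulAut Q)) with hMX
        set Z' := ((default : Sylow p MX) : Subgroup MX).map MX.subtype with hZ'
        obtain ⟨d₁, -, hd₁⟩ := exists_conj_le_sylow Sp hSpeq (T := Z'.map (MulAut.conj c⁻¹).toMonoidHom)
          (by
            rintro _ ⟨z, hz, rfl⟩
            have hzM : z ∈ MX := Subgroup.map_subtype_le _ hz
            refine ⟨by simpa using K.mul_mem (K.mul_mem (K.inv_mem hc) hzM.1) hc,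
              mem_normalizer_of_conj_mem fun v hv => ?_⟩
            have h1 := hXmem.1 ((Subgroup.mem_normalizer_iff.1 hzM.2 (c * v * c⁻¹)).1
              (hXmem.2 (by simpa [mul_assoc] using hv)))
            simpa [mul_assoc] using h1)
          (((default : Sylow p MX).2.map _).map _)
        rw [Nat.card_congr ((default : Sylow p MX).1.equivMapOfInjective MX.subtype
          MX.subtype_injective).toEquiv]
        refine Nat.card_le_card_of_injective (fun t : Z' => (⟨c * (d₁ * (c⁻¹ * t * c) * d₁⁻¹) * c⁻¹, ?_⟩ :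
          ↥(P ⊓ Subgroup.normalizer (X : Set (MulAut Q))))) fun s t hst => ?_
        · have h1 := hd₁ (c⁻¹ * t * c) ⟨t, t.2, by simp⟩
          exact ⟨hcP _ h1, hZX _ h1⟩
        · have h1 := congrArg Subtype.val hst
          exact Subtype.ext (by simpa using h1))
    have hcardN : Nat.card V < Nat.card N :=
      lt_of_not_ge fun hle => hVN.ne (Subgroup.eq_of_le_of_card_ge hVN.le hle)
    have hNP : Nat.card N ≤ Nat.card P := Subgroup.card_le_of_le inf_le_left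
    -- `c` on the preimage of `V`
    obtain ⟨e₁, he₁, he₁Q⟩ := ih (Nat.card P - Nat.card N) (by omega) (V := N) (hV₁.trans hVN.le)
      hc inf_le_left (fun n hn => hcP n (hNZ hn)) rfl
    -- `a` and the image of `V`
    set V' := V.map (MulAut.conj a).toMonoidHom with hV'
    have hV'P : V' ≤ P := by rintro _ ⟨v, hv, rfl⟩; exact hav v hv
    have hcardV' : Nat.card V' = Nat.card V :=
      (Nat.card_congr (V.equivMapOfInjective _ (MulAut.conj a).injective).toEquiv).symm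
    have hV'lt : V' < P := lt_of_le_of_ne hV'P fun he => hVP.ne
      (Subgroup.eq_of_le_of_card_ge hVP.le (by rw [← hcardV', he]))
    set N' := P ⊓ Subgroup.normalizer (V' : Set (MulAut Q)) with hN'
    have hV'N' : V' < N' := FusionP3.Induction.lt_normalizerIn hPp hV'lt
    obtain ⟨d₀, hd₀, hd₀c⟩ := exists_conj_le_sylow Sp hSpeq (T := N'.map (MulAut.conj a⁻¹).toMonoidHom)
      (by
        rintro _ ⟨n, hn, rfl⟩
        refine ⟨by simpa using K.mul_mem (K.mul_mem (K.inv_mem ha) (hPK hn.1)) ha,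
          mem_normalizer_of_conj_mem fun v hv => ?_⟩
        obtain ⟨w, hw, hwe⟩ := (Subgroup.mem_normalizer_iff.1 hn.2 _).1
          (show a * v * a⁻¹ ∈ V' from ⟨v, hv, by simp⟩)
        have h2 : a * w * a⁻¹ = n * (a * v * a⁻¹) * n⁻¹ := by simpa using hwe
        rw [show (MulAut.conj a⁻¹).toMonoidHom n * v * ((MulAut.conj a⁻¹).toMonoidHom n)⁻¹ = w from
          calc (MulAut.conj a⁻¹).toMonoidHom n * v * ((MulAut.conj a⁻¹).toMonoidHom n)⁻¹
              = a⁻¹ * (n * (a * v * a⁻¹) * n⁻¹) * a := by simp [mul_assoc]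
            _ = w := by rw [← h2]; group]
        exact hw)
      ((hPp.to_le inf_le_left).map _)
    set a₂ := c * d₀ * a⁻¹ with ha₂
    have ha₂K : a₂ ∈ K := K.mul_mem (K.mul_mem hc hd₀.1) (K.inv_mem ha)
    set U := N'.map (MulAut.conj a₂).toMonoidHom with hU
    have hUP : U ≤ P := by
      rintro _ ⟨n, hn, rfl⟩
      have h1 := hcP _ (hd₀c _ ⟨n, hn, rfl⟩)
      simpa [ha₂, mul_assoc] using h1
    have hXU : X ≤ U := fun x hx => by
      refine ⟨a₂⁻¹ * x * a₂, hV'N'.le ⟨d₀⁻¹ * (c⁻¹ * x * c) * d₀, ?_, ?_⟩, ?_⟩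
      · have h1 := (Subgroup.mem_normalizer_iff.1 ((Subgroup.normalizer _).inv_mem hd₀.2) _).1 (hXmem.1 hx)
        simpa using h1
      · simp [ha₂, mul_assoc]
      · simp [mul_assoc]
    have hcardU : Nat.card V < Nat.card U := by
      rw [← Nat.card_congr (N'.equivMapOfInjective _ (MulAut.conj a₂).injective).toEquiv, ← hcardV']
      exact lt_of_not_ge fun hle => hV'N'.ne (Subgroup.eq_of_le_of_card_ge hV'N'.le hle)
    have hUle : Nat.card U ≤ Nat.card P := Subgroup.card_le_of_le hUP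
    obtain ⟨e₃, he₃, he₃Q⟩ := ih (Nat.card P - Nat.card U) (by omega) (V := U) (hX₁.trans hXU)
      (K.inv_mem ha₂K) hUP (by rintro _ ⟨n, hn, rfl⟩; simpa [mul_assoc] using hn.1) rfl
    -- the middle
    set γ := c * d₀ * c⁻¹ with hγ
    have hγN : γ ∈ Subgroup.normalizer (X : Set (MulAut Q)) := by
      refine mem_normalizer_of_conj_mem fun x hx => hXmem.2 ?_
      have h1 := (Subgroup.mem_normalizer_iff.1 hd₀.2 _).1 (hXmem.1 hx)
      simpa [hγ, mul_assoc] using h1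
    obtain ⟨e₂, he₂, he₂Q⟩ := hR.extend_normalising h hX₁ hXP rfl (Sy := SyX)
      (fun x hx => by rw [hSyX, Subgroup.mem_subgroupOf] at hx; exact hx.1)
      (γ := γ) ⟨K.mul_mem (K.mul_mem hc hd₀.1) (K.inv_mem hc), hγN⟩
    -- compose
    obtain ⟨f₁, hf₁, hf₁e⟩ := exists_restrict he₁ (preimageAut_mono hVN.le)
    have hf₁Q : ∀ q : Q, f₁ ⟨q, le_preimage hR.cA.1 hV₁ q.2⟩ = ((c q : Q) : Ω) := fun q =>
      (hf₁e _).trans (he₁Q q)
    have hm₁ : ∀ y, f₁ y ∈ preimageAut A Q X := fun y =>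
      apply_mem_preimageAut h.scA (h.w_sub _ hf₁) _ hf₁Q
        (fun v hv => hXmem.2 (by simpa [mul_assoc] using hv)) y.2
    obtain ⟨f₂, hf₂, hf₂e⟩ := exists_comp hf₁ he₂ hm₁
    have hm₂ : ∀ y, f₂ y ∈ preimageAut A Q U := fun y => by
      rw [hf₂e]
      exact preimageAut_mono hXU (apply_mem_preimageAut h.scA (h.w_sub _ he₂) _ he₂Q
        (fun v hv => (Subgroup.mem_normalizer_iff.1 hγN v).1 hv) (hm₁ y))
    obtain ⟨f₃, hf₃, hf₃e⟩ := exists_comp hf₂ he₃ hm₂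
    refine ⟨f₃, hf₃, fun q => ?_⟩
    have h2 : f₂ ⟨q, le_preimage hR.cA.1 hV₁ q.2⟩ = ((γ (c q) : Q) : Ω) := by
      rw [hf₂e, ← he₂Q]
      exact congrArg e₂ (Subtype.ext (hf₁Q q))
    have h3 : a = a₂⁻¹ * γ * c := by rw [ha₂, hγ]; group
    rw [hf₃e, h3, MulAut.mul_apply, MulAut.mul_apply, ← he₃Q]
    exact congrArg e₃ (Subtype.ext h2)

/-- Maps stabilising a representative split into a map in the generated system and an automorphism of `N_A(Q)`. -/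
theorem Rep.split (hR : Rep F E₁ E₂ p Q) {T₀ : Subgroup Ω} {F₀ : FusionSystem T₀}
    (hW₀ : h.wSys.IsSubsystemOf F₀) (hF₀ : F₀.IsSubsystemOf F) (hExt : ExtN F₀ (T₁ ⊓ T₂) Q)
    {Y : Subgroup Ω} (hQY : Q ≤ Y) (hYN : Y ≤ normalizerIn (T₁ ⊓ T₂) Q) {ν : Y →* Ω} (hν : ν ∈ F₀.Hom Y)
    (hνQ : ∀ q : Q, ν ⟨q, hQY q.2⟩ ∈ Q) :
    ∃ x ∈ F₀.autGroup (normalizerIn (T₁ ⊓ T₂) Q), ∃ R : Subgroup Ω, ∃ ψ ∈ h.wSys.Hom R,
      (∀ y : Y, ∃ hy : ((x ⟨y, hYN y.2⟩ : normalizerIn (T₁ ⊓ T₂) Q) : Ω) ∈ R, ψ ⟨_, hy⟩ = ν y) ∧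
      ∃ hQR : Q ≤ R, ∃ k ∈ kAut F E₁ E₂ p Q, ∀ q : Q, ψ ⟨q, hQR q.2⟩ = ((k q : Q) : Ω) := by
  set A := T₁ ⊓ T₂ with hA
  set P := autInducedBy A Q with hP
  have hQS : Q ≤ S := hR.cA.1.trans h.scA.1
  haveI := finite_sub hQS
  have hνF := hF₀ Y hν
  obtain ⟨νQ, hνQm, hνQe⟩ := exists_restrict hνF hQY
  obtain ⟨g, hgF, hge⟩ := exists_aut hνQm (fun q => by rw [hνQe]; exact hνQ q)
  have hνg : ∀ q : Q, ν ⟨q, hQY q.2⟩ = ((g q : Q) : Ω) := fun q => ((hge q).trans (hνQe q)).symm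
  obtain ⟨a₀, ha₀, ha₀c⟩ := hR.sylow (P.map (MulAut.conj g).toMonoidHom)
    (by rintro _ ⟨c, hc, rfl⟩; exact h.kAut_normal hR.cA.1 (autA_le_kAut hQS hc) hgF)
    ((isPGroup_autInducedBy_of_le h.hS h.scA.1 Q).map _)
  have hνN : ∀ y : Y, ν y ∈ normalizerIn A Q := fun y =>
    apply_mem_normalizerIn h.scA hνF hQY hνQ
      (fun z hz => ⟨g⁻¹ ⟨z, hz⟩, by rw [hνg, MulAut.apply_inv_self]⟩) (hYN y.2)
  have hνr : ν.range ≤ normalizerIn A Q := by rintro _ ⟨y, rfl⟩; exact hνN y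
  set V := autInducedBy ν.range Q with hV
  have hQr : Q ≤ ν.range := fun z hz =>
    ⟨⟨_, hQY (g⁻¹ ⟨z, hz⟩).2⟩, by rw [hνg, MulAut.apply_inv_self]⟩
  obtain ⟨e, he, heQ⟩ := hR.fuse h (V := V) (inn_le_autInducedBy hQr)
    (autInducedBy_mono (hνr.trans (normalizerIn_le Q))) ha₀ (fun v hv => by
      obtain ⟨_, ⟨y, rfl⟩, hte⟩ := mem_autInducedBy.1 hv
      have h1 := ha₀c _ ⟨Q.normalizerMonoidHom ⟨y, (hYN y.2).2⟩,
        mem_autInducedBy.2 ⟨y, (hYN y.2).1, fun _ => rfl⟩, rfl⟩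
      rwa [show (MulAut.conj g).toMonoidHom (Q.normalizerMonoidHom ⟨y, (hYN y.2).2⟩) = v from
        MulEquiv.ext fun q => Subtype.ext ((conj_aut_eq hQY hνg (fun _ => rfl) q).trans (hte q).symm)] at h1)
  have hνpre : ∀ y, ν y ∈ preimageAut A Q V := fun y => le_preimage_induced hνr ⟨y, rfl⟩
  obtain ⟨ε, hε, hεe⟩ := exists_comp hν (hW₀ _ he) hνpre
  obtain ⟨x, hx, hxe⟩ := hExt Y hQY hYN ε hε (a₀ * g) (fun q => by
      rw [hεe, MulAut.mul_apply, ← heQ]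
      exact congrArg e (Subtype.ext (hνg q)))
    (fun c hc => by
      have h1 := ha₀c _ ⟨c, hc, rfl⟩
      simpa [mul_assoc] using h1)
  obtain ⟨ψ, hψ, -, hψl, -⟩ := exists_inv he rfl
  have hQR : Q ≤ e.range := fun z hz =>
    ⟨⟨_, le_preimage hR.cA.1 (inn_le_autInducedBy hQr) (a₀⁻¹ ⟨z, hz⟩).2⟩,
      by rw [heQ, MulAut.apply_inv_self]⟩
  refine ⟨x, hx, e.range, ψ, hψ, fun y => ?_, hQR, a₀⁻¹, inv_mem ha₀, fun q => ?_⟩
  · have h1 : ((x ⟨y, hYN y.2⟩ : normalizerIn A Q) : Ω) = e ⟨ν y, hνpre y⟩ := (hxe y).trans (hεe y)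
    exact ⟨h1 ▸ ⟨_, rfl⟩, (congrArg ψ (Subtype.ext h1)).trans (hψl ⟨ν y, hνpre y⟩ ⟨_, rfl⟩)⟩
  · have h1 : e ⟨_, le_preimage hR.cA.1 (inn_le_autInducedBy hQr) (a₀⁻¹ q).2⟩ = q := by
      rw [heQ, MulAut.apply_inv_self]
    refine Eq.trans ?_ (hψl ⟨_, le_preimage hR.cA.1 (inn_le_autInducedBy hQr) (a₀⁻¹ q).2⟩ ⟨_, rfl⟩)
    exact congrArg ψ (Subtype.ext h1.symm)

end Fuse

end Cfsg.Agent.Lib.FS.Inter
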