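import Cfsg.Agent.Lib.FusionSystem.Inter.Sylow
import Cfsg.Agent.Lib.FusionP3.Prime.Basic

/-!
The system `W` over `A = T₁ ⊓ T₂` generated by the automisers `K(V)` on the members centric relative to `A`.
-/

set_option autoImplicit false
set_option linter.style.haveILetI false
set_option linter.unusedSectionVars false

namespace Cfsg.Agent.Lib.FS.Inter

open Cfsg Cfsg.FusionSystem Cfsg.Agent.Lib Cfsg.Agent.Lib.FS Cfsg.Agent.Lib.FS.NormalCentralizer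
open Cfsg.Agent.Lib.FS.CentralLift (congr_eq_conj congr_apply_map)
open Cfsg.Agent.Lib.FusionP3.Prime (img img_le autRes autRes_range apply_mem_img mem_img Inv)

variable {Ω : Type*} [Group Ω] {S T₁ T₂ A : Subgroup Ω} {p : ℕ}
  {F : FusionSystem S} {E₁ : FusionSystem T₁} {E₂ : FusionSystem T₂}

/-- Composites of restrictions of automorphisms in `𝒦 V`, for `V` centric relative to `A`. -/
inductive WGen (F : FusionSystem S) (A : Subgroup Ω) (𝒦 : ∀ V : Subgroup Ω, Subgroup (MulAut V)) :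
    ∀ {P : Subgroup Ω}, (P →* Ω) → Prop
  | base {P V : Subgroup Ω} (φ : P →* Ω) (k : MulAut V) : CentricT F A V → k ∈ 𝒦 V →
      (h : P ≤ V) → (∀ x : P, φ x = ((k ⟨x, h x.2⟩ : V) : Ω)) → WGen F A 𝒦 φ
  | comp {P Q : Subgroup Ω} (φ : P →* Ω) (ψ : Q →* Ω) (χ : P →* Ω) : WGen F A 𝒦 φ → WGen F A 𝒦 ψ →
      (h : ∀ x, φ x ∈ Q) → (∀ x, χ x = ψ ⟨φ x, h x⟩) → WGen F A 𝒦 χ

theorem WGen.inv {𝒦 : ∀ V : Subgroup Ω, Subgroup (MulAut V)} {P : Subgroup Ω} {φ : P →* Ω}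
    (h : WGen F A 𝒦 φ) :
    ∀ {Y : Subgroup Ω}, Y ≤ φ.range → ∃ η : Y →* Ω, WGen F A 𝒦 η ∧
      ∀ (y : Y), ∃ hy : η y ∈ P, φ ⟨η y, hy⟩ = y := by
  induction h with
  | @base P V φ k hV hk hle he =>
    intro Y hY
    have hYV : Y ≤ V := fun y hy => by
      obtain ⟨x, rfl⟩ := hY hy
      rw [he]; exact SetLike.coe_mem _
    refine ⟨V.subtype.comp ((k⁻¹ : MulAut V).toMonoidHom.comp (Subgroup.inclusion hYV)),
      WGen.base _ k⁻¹ hV (inv_mem hk) hYV fun _ => rfl, fun y => ?_⟩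
    obtain ⟨x, hx⟩ := hY y.2
    have e : (k⁻¹ ⟨y, hYV y.2⟩ : V) = ⟨x, hle x.2⟩ := by
      rw [show (⟨(y : Ω), hYV y.2⟩ : V) = k ⟨x, hle x.2⟩ from Subtype.ext (hx.symm.trans (he x)),
        MulAut.inv_apply_self]
    have e' : ((k⁻¹ ⟨y, hYV y.2⟩ : V) : Ω) = x := congrArg Subtype.val e
    exact ⟨(congrArg (· ∈ P) e').mpr x.2, (congrArg φ (Subtype.ext e')).trans hx⟩
  | @comp P Q φ ψ χ hgφ hgψ hm he ihφ ihψ =>
    intro Y hY
    have hY' : Y ≤ ψ.range := fun y hy => by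
      obtain ⟨x, rfl⟩ := hY hy
      exact ⟨_, (he x).symm⟩
    obtain ⟨ηψ, hηψ, hψl⟩ := ihψ hY'
    have hZ : ηψ.range ≤ φ.range := by
      rintro _ ⟨y, rfl⟩
      obtain ⟨hy', e⟩ := hψl y
      obtain ⟨x, hx⟩ := hY y.2
      refine ⟨x, ?_⟩
      have h2 : ψ ⟨ηψ y, hy'⟩ = ψ ⟨φ x, hm x⟩ := e.trans (hx.symm.trans (he x))
      have hinj : ∀ {R : Subgroup Ω} {θ : R →* Ω}, WGen F A 𝒦 θ → Function.Injective θ := by
        intro R θ hθ
        induction hθ with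
        | base φ k _ _ hle he' =>
          intro a b hab
          rw [he', he'] at hab
          exact Subtype.ext (congrArg Subtype.val (k.injective (Subtype.ext hab)) :)
        | comp φ ψ χ _ _ hm' he' i₁ i₂ =>
          intro a b hab
          rw [he', he'] at hab
          exact i₁ (congrArg Subtype.val (i₂ hab))
      exact (congrArg Subtype.val (hinj hgψ h2)).symm
    obtain ⟨ηφ, hηφ, hφl⟩ := ihφ hZ
    refine ⟨ηφ.comp (ηψ.codRestrict ηψ.range fun y => ⟨y, rfl⟩),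
      WGen.comp ηψ ηφ _ hηψ hηφ (fun y => ⟨y, rfl⟩) fun _ => rfl, fun y => ?_⟩
    obtain ⟨hy₁, e₁⟩ := hφl ⟨ηψ y, y, rfl⟩
    obtain ⟨hy₂, e₂⟩ := hψl y
    exact ⟨hy₁, (he _).trans ((congrArg ψ (Subtype.ext e₁)).trans e₂)⟩

variable [Finite S] [hp : Fact p.Prime]

/-- `A` is centric relative to itself. -/
theorem centricT_self (hA : F.StronglyClosed A) : CentricT F A A := by
  haveI := finite_sub hA.1
  refine ⟨le_rfl, fun Q hQ => ?_⟩
  obtain ⟨φ, hφ, rfl⟩ := hQ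
  rw [range_eq_of_mem hφ (fun x => stronglyClosed_apply_mem hA hφ x.2) le_rfl]
  exact centralizerIn_le A

theorem centricT_congr (hA : F.StronglyClosed A) {P Q : Subgroup Ω} (hP : CentricT F A P) (h : F.IsConj P Q) :
    CentricT F A Q := by
  refine ⟨?_, fun R hR => hP.2 R (isConj_trans h hR)⟩
  obtain ⟨φ, hφ, rfl⟩ := h
  rintro _ ⟨x, rfl⟩
  exact stronglyClosed_apply_mem hA hφ (hP.1 x.2)

/-- The restriction of an automorphism of `A` in `F`. -/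
theorem autRes_memF (hA : A ≤ S) {α : MulAut A} (hα : α ∈ F.autGroup A) {P : Subgroup Ω} (hP : P ≤ A) :
    autRes α hP ∈ F.Hom P := by
  obtain ⟨g, hg, -, hge⟩ := exists_hom_of_aut hA hα
  exact mem_of_restrict hg hP fun x => (hge _).symm

theorem isConj_img (hA : A ≤ S) {α : MulAut A} (hα : α ∈ F.autGroup A) {P : Subgroup Ω} (hP : P ≤ A) :
    F.IsConj P (img α P) :=
  ⟨_, autRes_memF hA hα hP, autRes_range α hP⟩

namespace Setup

variable (h : Setup F E₁ E₂ p)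
include h

theorem wgen_mem {P : Subgroup Ω} {φ : P →* Ω} (hg : WGen F (T₁ ⊓ T₂) (kAut F E₁ E₂ p) φ) :
    φ ∈ E₁.Hom P ∧ φ ∈ E₂.Hom P := by
  induction hg with
  | @base P V φ k hV hk hle he =>
    have hk' := h.kAut_le_iAut hV.1 hk
    exact ⟨mem_of_restrict ((mem_autGroup (hV.1.trans inf_le_left)).1 hk'.1) hle he,
      mem_of_restrict ((mem_autGroup (hV.1.trans inf_le_right)).1 hk'.2) hle he⟩
  | comp φ ψ χ _ _ hm he ihφ ihψ =>
    exact ⟨mem_comp ihφ.1 ihψ.1 hm he, mem_comp ihφ.2 ihψ.2 hm he⟩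

/-- The generated system over `A`. -/
def wSys : FusionSystem (T₁ ⊓ T₂) where
  Hom P := {φ | WGen F (T₁ ⊓ T₂) (kAut F E₁ E₂ p) φ}
  le_of_mem hg := ⟨le_inf (src_le (h.wgen_mem hg).1) (src_le (h.wgen_mem hg).2),
    fun x => ⟨apply_mem (h.wgen_mem hg).1 x, apply_mem (h.wgen_mem hg).2 x⟩⟩
  injective_of_mem hg := E₁.injective_of_mem (h.wgen_mem hg).1
  conj_mem {P g} hP hg := by
    refine WGen.base _ ((T₁ ⊓ T₂).normalizerMonoidHom ⟨g, Subgroup.le_normalizer hg⟩)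
      (centricT_self h.scA) ?_ hP fun _ => rfl
    exact autA_le_kAut h.scA.1 (mem_autInducedBy.2 ⟨g, hg, fun _ => rfl⟩)
  comp_mem hφ hψ hm := WGen.comp _ _ _ hφ hψ hm fun _ => rfl
  inv_mem := by
    intro P φ hφ
    obtain ⟨η, hη, hl⟩ := WGen.inv hφ (le_refl φ.range)
    refine ⟨η, hη, fun x => ?_⟩
    obtain ⟨hy, e⟩ := hl ⟨φ x, x, rfl⟩
    exact congrArg Subtype.val (E₁.injective_of_mem (h.wgen_mem hφ).1 e)

theorem w_sub₁ : h.wSys.IsSubsystemOf E₁ := fun _ _ hφ => (h.wgen_mem hφ).1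

theorem w_sub₂ : h.wSys.IsSubsystemOf E₂ := fun _ _ hφ => (h.wgen_mem hφ).2

theorem w_sub : h.wSys.IsSubsystemOf F := fun _ _ hφ => h.h₁.1.2.2.1 _ (h.wgen_mem hφ).1

theorem kAut_le_w {V : Subgroup Ω} (hV : CentricT F (T₁ ⊓ T₂) V) :
    kAut F E₁ E₂ p V ≤ h.wSys.autGroup V := fun k hk =>
  (mem_autGroup hV.1).2 (WGen.base _ k hV hk le_rfl fun _ => rfl)

theorem finA : Finite ↥(T₁ ⊓ T₂) := finite_sub h.scA.1

theorem pA : IsPGroup p ↥(T₁ ⊓ T₂) := isPGroup_of_le h.hS h.scA.1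

/-- The generated system is invariant under `Aut_F(A)`. -/
theorem w_inv {α : MulAut ↥(T₁ ⊓ T₂)} (hα : α ∈ F.autGroup (T₁ ⊓ T₂)) : Inv h.wSys α := by
  intro P hP φ hφ
  induction hφ with
  | @base P V φ k hV hk hle he =>
    have hres := autRes_memF h.scA.1 hα hV.1
    have hr := autRes_range α hV.1
    have hle' : img α P ≤ img α V := by
      rintro _ ⟨x, hx, rfl⟩; exact ⟨x, hle hx, rfl⟩
    refine ⟨(img α V).subtype.comp ((MulAut.congr (homEquiv hres hr) k).toMonoidHom.comp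
      (Subgroup.inclusion hle')), WGen.base _ _ (centricT_congr h.scA hV (isConj_img h.scA.1 hα hV.1))
        (h.congr_mem_kAut hV.1 hres hr hk) hle' fun _ => rfl, fun x hφx hαx => ?_⟩
    show ((MulAut.congr (homEquiv hres hr) k (Subgroup.inclusion hle' ⟨_, hαx⟩) : img α V) : Ω) = _
    rw [show Subgroup.inclusion hle' (⟨_, hαx⟩ : img α P) = homEquiv hres hr ⟨x, hle x.2⟩ from
      Subtype.ext rfl, congr_apply_map]
    exact congrArg (fun z : ↥(T₁ ⊓ T₂) => ((α z : ↥(T₁ ⊓ T₂)) : Ω)) (Subtype.ext (he x).symm)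
  | @comp P Q φ ψ χ hgφ hgψ hm he ihφ ihψ =>
    have hQ : Q ≤ T₁ ⊓ T₂ := src_le (F := h.wSys) hgψ
    obtain ⟨f, hf, hfe⟩ := ihφ hP
    obtain ⟨g, hg, hge⟩ := ihψ hQ
    have hval : ∀ z : img α P, f z ∈ img α Q := by
      rintro ⟨_, y, hy, rfl⟩
      exact (congrArg (· ∈ img α Q) (hfe ⟨y, hy⟩ (hQ (hm _)) _)).mpr (apply_mem_img α hQ ⟨_, hm _⟩)
    refine ⟨g.comp (f.codRestrict _ hval), WGen.comp f g _ hf hg hval fun _ => rfl, fun x hχx hαx => ?_⟩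
    have h1 := hfe x (hQ (hm x)) hαx
    have h2 := hge ⟨φ x, hm x⟩ (he x ▸ hχx) (apply_mem_img α hQ ⟨_, hm x⟩)
    refine ((congrArg g (Subtype.ext h1)).trans h2).trans ?_
    exact congrArg (fun z : ↥(T₁ ⊓ T₂) => ((α z : ↥(T₁ ⊓ T₂)) : Ω)) (Subtype.ext (he x).symm)

end Setup

end Cfsg.Agent.Lib.FS.Inter
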