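import Cfsg.Agent.Lib.FusionSystem.Inter.Basic

/-!
Lifting: an automorphism of order prime to `p` of a fully centralised `P ≤ T`, coming from `Aut_E(R)` for a fully
normalised `R ≤ T` containing `P`, extends to `R C_S(P)` moving `C_S(P)` within cosets of `T`.
-/

set_option autoImplicit false
set_option linter.style.haveILetI false
set_option linter.unusedSectionVars false

namespace Cfsg.Agent.Lib.FS.Inter

open Cfsg Cfsg.FusionSystem Cfsg.Agent.Lib Cfsg.Agent.Lib.FS Cfsg.Agent.Lib.FS.NormalCentralizer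
open Cfsg.Agent.Lib.FS.CentralLift (Restr)
open scoped Pointwise

variable {Ω : Type*} [Group Ω] {S T : Subgroup Ω}

section Groups

/-- The automorphisms of `R` fixing the elements of `P`. -/
def fixSub (R P : Subgroup Ω) : Subgroup (MulAut R) where
  carrier := {a | ∀ x : R, (x : Ω) ∈ P → a x = x}
  one_mem' := fun _ _ => rfl
  mul_mem' := fun {a b} ha hb x hx => by rw [MulAut.mul_apply, hb x hx, ha x hx]
  inv_mem' := fun {a} ha x hx => by
    apply a.injective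
    rw [MulAut.apply_inv_self, ha x hx]

theorem fixSub_conj {R P : Subgroup Ω} {g k : MulAut R} (hk : k ∈ fixSub R P)
    (hg : ∀ x : R, (x : Ω) ∈ P → ((g⁻¹ x : R) : Ω) ∈ P) : g * k * g⁻¹ ∈ fixSub R P := fun x hx => by
  rw [MulAut.mul_apply, MulAut.mul_apply, hk _ (hg x hx), MulAut.apply_inv_self]

/-- The automorphisms of `H` moving every element within its coset of `R`. -/
abbrev moveSub (H R : Subgroup Ω) : Subgroup (MulAut H) :=
  layerStab H (fun _ : Unit => R) fun _ => H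

theorem mem_moveSub {H R : Subgroup Ω} {a : MulAut H}
    (h₁ : ∀ x : H, (x : Ω) ∈ R ↔ ((a x : H) : Ω) ∈ R) (h₂ : ∀ x : H, (x : Ω)⁻¹ * ((a x : H) : Ω) ∈ R) :
    a ∈ moveSub H R :=
  fun _ => ⟨h₁, fun x _ => h₂ x⟩

variable [Finite S] {p : ℕ} [hp : Fact p.Prime]

theorem isPGroup_fix_move (hS : IsPGroup p S) {H R : Subgroup Ω} (hH : H ≤ S) :
    IsPGroup p ↥(moveSub H R ⊓ fixSub H R) := by
  rintro ⟨γ, hm, hf⟩
  obtain ⟨a, -, ha⟩ := exists_pow_fix hS hH (γ := γ) (Z := (⊥ : Subgroup Ω)) (a := 0)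
    (fun x hx => by
      have : x = 1 := Subtype.ext (Subgroup.mem_bot.1 hx)
      simp [this])
    (fun x hx => by
      have : x = 1 := Subtype.ext (Subgroup.mem_bot.1 hx)
      simp [this])
  obtain ⟨b, -, hb⟩ := exists_pow_fix hS hH (γ := γ) (Z := R) (a := a)
    (fun x hx => ((hm ()).1 x).1 hx)
    (fun x hx => ha x (by rw [hf x hx, inv_mul_cancel]; exact Subgroup.one_mem _))
  exact ⟨b, Subtype.ext (MulEquiv.ext fun x => hb x ((hm ()).2 x x.2))⟩

theorem card_autInducedBy_mul {K R : Subgroup Ω} (hK : K ≤ Subgroup.normalizer (R : Set Ω)) :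
    Nat.card (autInducedBy K R) * Nat.card (centralizerIn K R) = Nat.card K := by
  rw [← card_normalizerIn, show normalizerIn K R = K from inf_eq_left.2 hK]

end Groups

variable [Finite S] {p : ℕ} [hp : Fact p.Prime] {F : FusionSystem S} {E : FusionSystem T}

section Hull

variable {R : Subgroup Ω}

omit hp in
theorem mem_of_hull (hRT : R ≤ T) (hCT : centralizerIn T R ≤ R) {y : Ω} (hy : y ∈ R ⊔ centralizerIn S R)
    (hyT : y ∈ T) : y ∈ R := by
  obtain ⟨u, hu, c, hc, rfl⟩ := Odd.exists_mul hy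
  refine R.mul_mem hu (hCT ⟨?_, hc.2⟩)
  have h := T.mul_mem (T.inv_mem (hRT hu)) hyT
  rwa [inv_mul_cancel_left] at h

omit hp in
theorem normalizer_le_hull (hRS : R ≤ S) {g : Ω} (hg : g ∈ normalizerIn S R) :
    g ∈ Subgroup.normalizer ((R ⊔ centralizerIn S R : Subgroup Ω) : Set Ω) := by
  haveI := finite_sub (hull_le hRS)
  refine mem_normalizer_of_conj_mem fun y hy => ?_
  obtain ⟨u, hu, c, hc, rfl⟩ := Odd.exists_mul hy
  rw [show g * (u * c) * g⁻¹ = g * u * g⁻¹ * (g * c * g⁻¹) by group]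
  exact mul_mem ((le_sup_left : R ≤ R ⊔ centralizerIn S R) (conj_mem_of_normalizer hg.2 hu))
    ((le_sup_right : _ ≤ R ⊔ centralizerIn S R)
      ⟨S.mul_mem (S.mul_mem hg.1 hc.1) (S.inv_mem hg.1), conj_centralizer hg.2 hc.2⟩)

theorem hull_fn (hsc : F.StronglyClosed T) (hRT : R ≤ T) (hCT : centralizerIn T R ≤ R)
    (hfn : F.IsFullyNormalized R) : F.IsFullyNormalized (R ⊔ centralizerIn S R) := by
  refine ⟨hull_le hfn.1, fun Q hQ => ?_⟩
  obtain ⟨φ, hφ, rfl⟩ := hQ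
  obtain ⟨φR, hφR, heR⟩ := exists_restrict hφ (le_sup_left : R ≤ R ⊔ centralizerIn S R)
  have hinf : ∀ y ∈ φ.range, y ∈ T → y ∈ φR.range := by
    rintro _ ⟨w, rfl⟩ hwT
    obtain ⟨ψ, hψ, -, hl, -⟩ := exists_inv hφ rfl
    have hw := stronglyClosed_apply_mem hsc hψ (x := ⟨φ w, ⟨w, rfl⟩⟩) hwT
    rw [hl w ⟨w, rfl⟩] at hw
    exact ⟨⟨w, mem_of_hull hRT hCT w.2 hw⟩, heR _⟩
  have hle : normalizerIn S φ.range ≤ normalizerIn S φR.range := fun g hg => ⟨hg.1, by
    haveI := finite_sub (range_le_base hφR)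
    refine mem_normalizer_of_conj_mem fun y hy => hinf _ ?_ ?_
    · obtain ⟨u, rfl⟩ := hy
      exact conj_mem_of_normalizer hg.2 ⟨_, (heR u).symm⟩
    · obtain ⟨u, rfl⟩ := hy
      exact conj_mem_of_normalizer (stronglyClosed_le_normalizer hsc hg.1)
        (stronglyClosed_apply_mem hsc hφR (hRT u.2))⟩
  haveI := finite_sub (normalizerIn_le (S := S) φR.range)
  haveI := finite_sub (normalizerIn_le (S := S) (R ⊔ centralizerIn S R))
  calc Nat.card (normalizerIn S φ.range) ≤ Nat.card (normalizerIn S φR.range) := Subgroup.card_le_of_le hle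
    _ ≤ Nat.card (normalizerIn S R) := hfn.2 _ ⟨φR, hφR, rfl⟩
    _ ≤ Nat.card (normalizerIn S (R ⊔ centralizerIn S R)) :=
        Subgroup.card_le_of_le fun g hg => ⟨hg.1, normalizer_le_hull hfn.1 hg⟩

end Hull

/-- The bound on the `p`-subgroups of automorphisms of `R` fixing `P`. -/
theorem card_fix_le (hS : IsPGroup p S) (hF : F.IsSaturated p) {P R : Subgroup Ω}
    (hPc : F.IsFullyCentralized P) (hPR : P ≤ R) (hR : F.IsFullyNormalized R)
    (hCR : centralizerIn S P ≤ Subgroup.normalizer (R : Set Ω)) {K : Subgroup (MulAut R)}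
    (hK : K ≤ fixSub R P ⊓ F.autGroup R) (hKp : IsPGroup p K) :
    Nat.card K ≤ Nat.card (autInducedBy (centralizerIn S P) R) := by
  haveI := finite_sub hR.1
  obtain ⟨Sy, hSy⟩ := (fullyAutomized_of_fullyNormalized hS hF hR).2
  obtain ⟨a, ha, hconj⟩ := exists_conj_le_sylow Sy hSy (hK.trans inf_le_right) hKp
  obtain ⟨φ, hφ, -, hφe⟩ := exists_hom_of_aut hR.1 ha
  obtain ⟨φP, hφP, hφPe⟩ := exists_restrict hφ hPR
  set P' := φP.range with hP'
  have hP'R : P' ≤ R := by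
    rintro _ ⟨x, rfl⟩
    rw [hφPe, hφe]
    exact SetLike.coe_mem _
  set K₁ := centralizerIn S P' ⊓ Subgroup.normalizer (R : Set Ω) with hK₁
  have hinto : ∀ k ∈ K, a * k * a⁻¹ ∈ autInducedBy K₁ R := by
    intro k hk
    obtain ⟨g, hg, hge⟩ := mem_autInducedBy.1 (hconj k hk)
    refine mem_autInducedBy.2 ⟨g, ⟨mem_centralizerIn'.2 ⟨hg, ?_⟩, mem_normalizer_of_aut hge⟩, hge⟩
    rintro _ ⟨x, rfl⟩
    have h1 := hge (a (Subgroup.inclusion hPR x))
    rw [MulAut.mul_apply, MulAut.mul_apply, MulAut.inv_apply_self, (hK hk).1 _ x.2] at h1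
    rw [hφPe, hφe]
    exact h1.symm
  have h1 : Nat.card K ≤ Nat.card (autInducedBy K₁ R) :=
    Nat.card_le_card_of_injective (fun k : K => (⟨a * k * a⁻¹, hinto k k.2⟩ : autInducedBy K₁ R))
      fun s t h => Subtype.ext (mul_left_cancel (mul_right_cancel (congrArg Subtype.val h)))
  have hc1 : centralizerIn K₁ R = centralizerIn S R :=
    le_antisymm (fun g hg => ⟨hg.1.1.1, hg.2⟩) fun g hg =>
      ⟨⟨centralizerIn_anti hP'R hg, Subgroup.centralizer_le_normalizer _ hg.2⟩, hg.2⟩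
  have hc2 : centralizerIn (centralizerIn S P) R = centralizerIn S R :=
    le_antisymm (fun g hg => ⟨hg.1.1, hg.2⟩) fun g hg => ⟨centralizerIn_anti hPR hg, hg.2⟩
  have e1 := card_autInducedBy_mul (inf_le_right : K₁ ≤ Subgroup.normalizer (R : Set Ω))
  have e2 := card_autInducedBy_mul hCR
  rw [hc1] at e1
  rw [hc2] at e2
  have h3 : Nat.card K₁ ≤ Nat.card (centralizerIn S P) := by
    haveI := finite_sub (centralizerIn_le (S := S) P')
    exact (Subgroup.card_le_of_le inf_le_left).trans (hPc.2 P' ⟨φP, hφP, rfl⟩)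
  haveI := finite_sub (centralizerIn_le (S := S) R)
  refine h1.trans (Nat.le_of_mul_le_mul_right ?_ (Nat.card_pos (α := centralizerIn S R)))
  rw [e1, e2]
  exact h3

/-- An element of `Aut_E(R)` restricting to `β` which normalises the automorphisms induced by `C_S(P)`. -/
theorem exists_normalizing (hS : IsPGroup p S) (hE : E.IsNormalIn F p) {P R : Subgroup Ω}
    (hPc : F.IsFullyCentralized P) (hPR : P ≤ R) (hRT : R ≤ T) (hR : F.IsFullyNormalized R)
    (hCR : centralizerIn S P ≤ Subgroup.normalizer (R : Set Ω))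
    {δ₀ : MulAut R} (hδ₀ : δ₀ ∈ E.autGroup R) {β : MulAut P} (hres : Restr hPR δ₀ β)
    (hord : ¬ p ∣ orderOf β) :
    ∃ δ ∈ E.autGroup R, Restr hPR δ β ∧ ¬ p ∣ orderOf δ ∧
      ∀ u ∈ autInducedBy (centralizerIn S P) R, δ * u * δ⁻¹ ∈ autInducedBy (centralizerIn S P) R := by
  have hF := hE.1.2.1
  haveI := finite_sub hR.1
  set Uc := autInducedBy (centralizerIn S P) R with hUc
  have hUF : Uc ≤ F.autGroup R :=
    (autInducedBy_mono (centralizerIn_le P)).trans (autInducedBy_le_autGroup F hR.1)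
  have hUfix : Uc ≤ fixSub R P := fun u hu x hx => by
    obtain ⟨g, hg, he⟩ := mem_autInducedBy.1 hu
    exact Subtype.ext ((he x).trans ((mem_centralizerIn'.1 hg).2 x hx))
  have hEF := autE_le_autF hE.1.2.2.1 hRT
  set A := fixSub R P ⊓ E.autGroup R with hA
  have hAU : Uc ≤ Subgroup.normalizer (A : Set (MulAut R)) := fun u hu => by
    refine Subgroup.mem_normalizer_iff.2 fun k => ⟨fun hk => ?_, fun hk => ?_⟩
    · exact ⟨(fixSub R P).mul_mem ((fixSub R P).mul_mem (hUfix hu) hk.1) ((fixSub R P).inv_mem (hUfix hu)),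
        autE_normal hE hRT hk.2 (hUF hu)⟩
    · have h1 : u⁻¹ * (u * k * u⁻¹) * u⁻¹⁻¹ = k := by group
      rw [← h1]
      exact ⟨(fixSub R P).mul_mem ((fixSub R P).mul_mem ((fixSub R P).inv_mem (hUfix hu)) hk.1)
        ((fixSub R P).inv_mem ((fixSub R P).inv_mem (hUfix hu))),
        autE_normal hE hRT hk.2 ((F.autGroup R).inv_mem (hUF hu))⟩
  set M := A ⊔ Uc with hM
  have hMle : M ≤ fixSub R P ⊓ F.autGroup R :=
    sup_le (le_inf inf_le_left (inf_le_right.trans hEF)) (le_inf hUfix hUF)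
  have hUp : IsPGroup p Uc := isPGroup_autInducedBy_of_le hS (centralizerIn_le P) R
  obtain ⟨Sy, hSy⟩ := exists_sylow_of_card_ge (A := M) (R₀ := Uc) le_sup_right hUp default (by
    rw [Nat.card_congr ((default : Sylow p M).1.equivMapOfInjective M.subtype M.subtype_injective).toEquiv]
    exact card_fix_le hS hF hPc hPR hR hCR ((Subgroup.map_subtype_le _).trans hMle)
      ((default : Sylow p M).2.map _))
  have hδP : ∀ x : R, (x : Ω) ∈ P → ((δ₀⁻¹ x : R) : Ω) ∈ P := fun x hx => restr_mem hres.inv hx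
  have hconj : ∀ u ∈ Uc, δ₀ * u * δ₀⁻¹ ∈ M := by
    intro u hu
    have e : δ₀ * u * δ₀⁻¹ = δ₀ * (u * δ₀⁻¹ * u⁻¹) * u := by group
    rw [e]
    refine Subgroup.mul_mem_sup ⟨?_, mul_mem hδ₀ (autE_normal hE hRT (inv_mem hδ₀) (hUF hu))⟩ hu
    rw [show δ₀ * (u * δ₀⁻¹ * u⁻¹) = δ₀ * u * δ₀⁻¹ * u⁻¹ by group]
    exact mul_mem (fixSub_conj (hUfix hu) hδP) ((fixSub R P).inv_mem (hUfix hu))
  obtain ⟨g, hg, hgU⟩ := exists_conj_le_sylow Sy hSy (T := Uc.map (MulAut.conj δ₀).toMonoidHom)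
    (by rintro _ ⟨u, hu, rfl⟩; exact hconj u hu) (hUp.map _)
  have hg' : g ∈ ((A ⊔ Uc : Subgroup (MulAut R)) : Set (MulAut R)) := hg
  rw [Subgroup.coe_mul_of_right_le_normalizer_left A Uc hAU] at hg'
  obtain ⟨a, ha, v, hv, rfl⟩ := hg'
  have hg2 : v⁻¹ * a * v ∈ A := by
    have h := (Subgroup.mem_normalizer_iff.1 (hAU (inv_mem hv)) a).1 ha
    simpa using h
  set δ₁ := v⁻¹ * a * v * δ₀ with hδ₁
  have hδ₁E : δ₁ ∈ E.autGroup R := mul_mem hg2.2 hδ₀
  have hδ₁N : ∀ u ∈ Uc, δ₁ * u * δ₁⁻¹ ∈ Uc := by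
    intro u hu
    have h := Uc.mul_mem (Uc.mul_mem (inv_mem hv) (hgU _ ⟨u, hu, rfl⟩)) hv
    convert h using 1
    simp only [hδ₁, MulEquiv.coe_toMonoidHom, MulAut.conj_apply]
    group
  have hres₁ : Restr hPR δ₁ β := fun x => by
    rw [hδ₁, MulAut.mul_apply, hg2.1 _ (restr_mem hres x.2)]
    exact hres x
  have hpow : ∀ m : ℕ, ∀ u ∈ Uc, δ₁ ^ m * u * (δ₁ ^ m)⁻¹ ∈ Uc := by
    intro m
    induction m with
    | zero => intro u hu; simpa using hu
    | succ m ih =>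
      intro u hu
      rw [pow_succ, show δ₁ ^ m * δ₁ * u * (δ₁ ^ m * δ₁)⁻¹ = δ₁ ^ m * (δ₁ * u * δ₁⁻¹) * (δ₁ ^ m)⁻¹ by group]
      exact ih _ (hδ₁N u hu)
  obtain ⟨n, hn, hnord⟩ := exists_pow_prime_to (x := δ₁) hord
  refine ⟨δ₁ ^ n, pow_mem hδ₁E n, ?_, hnord, ?_⟩
  · have := hres₁.pow n
    rwa [hn] at this
  · exact hpow n

/-- Conjugations by elements normalising `R`, carried by an automorphism, restricted. -/
theorem restr_conj {R H : Subgroup Ω} (hRH : R ≤ H) {g : Ω} (hgH : g ∈ Subgroup.normalizer (H : Set Ω))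
    (hgR : g ∈ Subgroup.normalizer (R : Set Ω)) :
    Restr hRH (H.normalizerMonoidHom ⟨g, hgH⟩) (R.normalizerMonoidHom ⟨g, hgR⟩) := fun _ => rfl

/-- `R C_S(P)` carries the automorphism `δ` when every conjugation by an element of `C_S(P)` is carried by the
hull map `B` to a conjugation by an element of `S`. -/
theorem exists_extend_hull (hS : IsPGroup p S) (hE : E.IsNormalIn F p) {P R : Subgroup Ω}
    (hR : F.IsFullyNormalized R) (hRT : R ≤ T) (hCT : centralizerIn T R ≤ R)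
    (hCR : centralizerIn S P ≤ Subgroup.normalizer (R : Set Ω))
    {δ : MulAut R} (hδE : δ ∈ E.autGroup R)
    (hδN : ∀ u ∈ autInducedBy (centralizerIn S P) R, δ * u * δ⁻¹ ∈ autInducedBy (centralizerIn S P) R)
    {B : MulAut ↥(R ⊔ centralizerIn S R)} (hB : B ∈ F.autGroup (R ⊔ centralizerIn S R))
    (hBδ : Restr le_sup_left B δ) (hBm : B ∈ moveSub (R ⊔ centralizerIn S R) R) :
    ∃ ψ ∈ F.Hom (R ⊔ centralizerIn S P), (∀ x : R, ψ (Subgroup.inclusion le_sup_left x) = ((δ x : R) : Ω)) ∧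
      (∀ (x : Ω) (hx : x ∈ R ⊔ centralizerIn S R) (hx' : x ∈ R ⊔ centralizerIn S P),
        ψ ⟨x, hx'⟩ = ((B ⟨x, hx⟩ : ↥(R ⊔ centralizerIn S R)) : Ω)) ∧
      ∀ c : centralizerIn S P, (c : Ω)⁻¹ * ψ (Subgroup.inclusion le_sup_right c) ∈ T ⊔ centralizerIn S R := by
  have hsc := hE.1.2.2.2.1
  revert B hB hBδ hBm
  set H := R ⊔ centralizerIn S R with hHdef
  intro B hB hBδ hBm
  have hHS : H ≤ S := hull_le hR.1
  haveI := finite_sub hR.1
  haveI := finite_sub hHS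
  have hHn : F.IsFullyNormalized H := hull_fn hsc hRT hCT hR
  have hinv : ∀ a ∈ F.autGroup H, ∀ x : H, (x : Ω) ∈ R ↔ ((a x : H) : Ω) ∈ R := fun a ha x => by
    have h := autGroup_mem_iff_of_stronglyClosed hsc hHS ha x
    exact ⟨fun hx => mem_of_hull hRT hCT (a x).2 (h.1 (hRT hx)),
      fun hx => mem_of_hull hRT hCT x.2 (h.2 (hRT hx))⟩
  have hmoveN : ∀ a ∈ F.autGroup H, ∀ k ∈ moveSub H R, a * k * a⁻¹ ∈ moveSub H R := fun a ha k hk =>
    layerStab_conj_mem (fun _ => hinv a ha) (fun _ x => ⟨fun _ => (a x).2, fun _ => x.2⟩) hk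
  have hstab : moveSub H R ⊓ fixSub H R ⊓ F.autGroup H ≤ autInducedBy S H := by
    refine le_autS_of_normal (fullyAutomized_of_fullyNormalized hS hE.1.2.1 hHn) inf_le_right ?_
      ((isPGroup_fix_move hS hHS).to_le inf_le_left)
    intro a ha k hk
    exact ⟨⟨hmoveN a ha k hk.1.1, fixSub_conj hk.1.2 fun x hx => (hinv _ ((F.autGroup H).inv_mem ha) x).1 hx⟩,
      mul_mem (mul_mem ha hk.2) ((F.autGroup H).inv_mem ha)⟩
  -- conjugations by `C_S(P)`
  have hcent : ∀ c : centralizerIn S P, ∃ (e : Ω) (heR : e ∈ Subgroup.normalizer (R : Set Ω))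
      (hcH : (c : Ω) ∈ Subgroup.normalizer (H : Set Ω)), e ∈ S ∧ (c : Ω)⁻¹ * e ∈ T ∧
      δ * R.normalizerMonoidHom ⟨c, hCR c.2⟩ * δ⁻¹ = R.normalizerMonoidHom ⟨e, heR⟩ ∧
      B * H.normalizerMonoidHom ⟨c, hcH⟩ * B⁻¹ ∈ autInducedBy S H := by
    intro c
    have hcS : (c : Ω) ∈ S := c.2.1
    have hcH : (c : Ω) ∈ Subgroup.normalizer (H : Set Ω) := normalizer_le_hull hR.1 ⟨hcS, hCR c.2⟩
    set u := R.normalizerMonoidHom ⟨c, hCR c.2⟩ with hu
    have huU : u ∈ autInducedBy (centralizerIn S P) R := mem_autInducedBy.2 ⟨c, c.2, fun _ => rfl⟩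
    have huS : u ∈ autInducedBy S R := mem_autInducedBy.2 ⟨c, hcS, fun _ => rfl⟩
    set k := δ * u * δ⁻¹ * u⁻¹ with hk
    have hkE : k ∈ E.autGroup R := by
      rw [hk, show δ * u * δ⁻¹ * u⁻¹ = δ * (u * δ⁻¹ * u⁻¹) by group]
      exact mul_mem hδE (autE_normal hE hRT (inv_mem hδE) (autInducedBy_le_autGroup F hR.1 huS))
    have hkS : k ∈ autInducedBy S R :=
      mul_mem (autInducedBy_mono (centralizerIn_le P) (hδN u huU)) (inv_mem huS)
    obtain ⟨t, ht, hte⟩ := mem_autInducedBy.1 (autE_inter_autS hS hE hRT hR hkE hkS)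
    have htR : t ∈ Subgroup.normalizer (R : Set Ω) := mem_normalizer_of_aut hte
    have heR : t * c ∈ Subgroup.normalizer (R : Set Ω) := mul_mem htR (hCR c.2)
    have htS : t ∈ S := hsc.1 ht
    have heS : t * c ∈ S := S.mul_mem htS hcS
    have hδu : δ * u * δ⁻¹ = R.normalizerMonoidHom ⟨t * c, heR⟩ := by
      rw [show δ * u * δ⁻¹ = k * u by rw [hk]; group]
      refine MulEquiv.ext fun x => Subtype.ext ?_
      rw [MulAut.mul_apply, hte, hu, normalizerMonoidHom_coe, normalizerMonoidHom_coe]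
      group
    refine ⟨t * c, heR, hcH, heS, ?_, hδu, ?_⟩
    · rw [← mul_assoc]
      exact conj_inv_mem_of_normalizer (stronglyClosed_le_normalizer hsc hcS) ht
    set κ := H.normalizerMonoidHom ⟨c, hcH⟩ with hκ
    have htH : t ∈ Subgroup.normalizer (H : Set Ω) := normalizer_le_hull hR.1 ⟨htS, htR⟩
    have heH : t * c ∈ Subgroup.normalizer (H : Set Ω) := mul_mem htH hcH
    set κe := H.normalizerMonoidHom ⟨t * c, heH⟩ with hκe
    have hκS : κ ∈ autInducedBy S H := mem_autInducedBy.2 ⟨c, hcS, fun _ => rfl⟩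
    have hκeS : κe ∈ autInducedBy S H := mem_autInducedBy.2 ⟨t * c, heS, fun _ => rfl⟩
    have hκF := autInducedBy_le_autGroup F hHS hκS
    have hκeF := autInducedBy_le_autGroup F hHS hκeS
    set l := B * κ * B⁻¹ * κe⁻¹ with hl
    have hlm : l ∈ moveSub H R := by
      rw [hl, show B * κ * B⁻¹ * κe⁻¹ = B * (κ * B⁻¹ * κ⁻¹) * (κ * κe⁻¹) by group]
      refine mul_mem (mul_mem hBm (hmoveN κ hκF _ (inv_mem hBm))) ?_
      refine mem_moveSub (hinv _ (mul_mem hκF (inv_mem hκeF))) fun x => ?_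
      refine mem_of_hull hRT hCT (H.mul_mem (H.inv_mem x.2) (SetLike.coe_mem _)) ?_
      rw [MulAut.mul_apply, hκ, hκe, ← map_inv, normalizerMonoidHom_coe, normalizerMonoidHom_coe,
        Subgroup.coe_inv]
      rw [show (x : Ω)⁻¹ * ((c : Ω) * ((t * c)⁻¹ * x * (t * c)⁻¹⁻¹) * (c : Ω)⁻¹) =
        (x : Ω)⁻¹ * t⁻¹ * (x : Ω) * t by group]
      exact T.mul_mem
        (conj_inv_mem_of_normalizer (stronglyClosed_le_normalizer hsc (hHS x.2)) (T.inv_mem ht)) ht
    have hlf : l ∈ fixSub H R := by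
      intro x hx
      have h := ((hBδ.mul (restr_conj le_sup_left hcH (hCR c.2))).mul hBδ.inv).mul
        (restr_conj le_sup_left heH heR).inv
      rw [← hu, hδu, mul_inv_cancel] at h
      exact Subtype.ext (restr_apply h hx)
    have hlF : l ∈ F.autGroup H := mul_mem (mul_mem (mul_mem hB hκF) (inv_mem hB)) (inv_mem hκeF)
    rw [show B * κ * B⁻¹ = l * κe by rw [hl]; group]
    exact mul_mem (hstab ⟨⟨hlm, hlf⟩, hlF⟩) hκeS
  -- the extension
  have hXn : R ⊔ centralizerIn S P ≤ FusionP3.Induction.preimageAut S H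
      ((autInducedBy S H).comap (MulAut.conj B).toMonoidHom) := by
    refine sup_le (fun r hr => ?_) fun c hc => ?_
    · have hrH : r ∈ H := (le_sup_left : R ≤ H) hr
      refine ⟨⟨hHS hrH, Subgroup.le_normalizer hrH⟩,
        H.normalizerMonoidHom ⟨r, Subgroup.le_normalizer hrH⟩, ?_, fun _ => rfl⟩
      refine mem_autInducedBy.2 ⟨B ⟨r, hrH⟩, hHS (B ⟨r, hrH⟩).2, fun x => ?_⟩
      exact conj_aut_eq (le_refl H) (ψ := H.subtype.comp B.toMonoidHom) (α := B) (g := ⟨r, hrH⟩)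
        (k := H.normalizerMonoidHom ⟨r, Subgroup.le_normalizer hrH⟩) (fun _ => rfl) (fun _ => rfl) x
    · obtain ⟨e, heR, hcH, -, -, -, hmem⟩ := hcent ⟨c, hc⟩
      exact ⟨⟨hc.1, hcH⟩, H.normalizerMonoidHom ⟨c, hcH⟩, hmem, fun _ => rfl⟩
  obtain ⟨ψ, hψ, hψe⟩ := FusionP3.Induction.exists_extend_aut (receptive_of_fullyNormalized hS hE.1.2.1 hHn)
    (R := R ⊔ centralizerIn S P) (hXn.trans (FusionP3.Induction.preimageAut_le H _)) hB (fun g hg => by
      obtain ⟨-, w, hw, hwg⟩ := hXn hg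
      obtain ⟨h, hh, hhe⟩ := mem_autInducedBy.1 hw
      refine ⟨h, hh, fun x hx => ?_⟩
      rw [← hhe (B x)]
      simp only [MulEquiv.coe_toMonoidHom, MulAut.conj_apply, MulAut.mul_apply, MulAut.inv_apply_self]
      congr 2
      exact Subtype.ext (hwg x).symm)
  have hψR : ∀ x : R, ψ (Subgroup.inclusion le_sup_left x) = ((δ x : R) : Ω) := fun x =>
    (hψe x ((le_sup_left : R ≤ H) x.2) _).trans (hBδ x)
  refine ⟨ψ, hψ, hψR, hψe, fun c => ?_⟩
  obtain ⟨e, heR, hcH, heS, heT, hδu, -⟩ := hcent c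
  set w := ψ (Subgroup.inclusion le_sup_right c) with hw
  have hz : e⁻¹ * w ∈ centralizerIn S R := by
    refine mem_centralizerIn'.2 ⟨S.mul_mem (S.inv_mem heS) (apply_mem hψ _), fun x hx => ?_⟩
    have h1 : ((δ * R.normalizerMonoidHom ⟨c, hCR c.2⟩ * δ⁻¹) ⟨x, hx⟩ : Ω) = w * x * w⁻¹ :=
      conj_aut_eq (X := R ⊔ centralizerIn S P) le_sup_left (ψ := ψ)
        (g := Subgroup.inclusion le_sup_right c) hψR (fun _ => rfl) ⟨x, hx⟩
    rw [hδu, normalizerMonoidHom_coe] at h1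
    rw [show e⁻¹ * w * x * (e⁻¹ * w)⁻¹ = e⁻¹ * (w * x * w⁻¹) * e by group, ← h1]
    group
  have h3 := Subgroup.mul_mem_sup (T := centralizerIn S R) heT hz
  rwa [mul_assoc, mul_inv_cancel_left] at h3

omit hp in
/-- In a group where `g` fixes the class of `w`, the powers of an automorphism translate by powers of `w`. -/
theorem pow_translate {G Q : Type*} [Group G] [Group Q] (f : G →* Q) (B : MulAut G) {c w : G}
    (hB : B c = c * w) (hw : f (B w) = f w) (hker : ∀ k, f k = 1 → f (B k) = 1) (i : ℕ) :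
    f ((B ^ i) c) = f c * f w ^ i := by
  induction i with
  | zero => simp
  | succ i ih =>
    have e : (B ^ i) c = c * w ^ i * ((c * w ^ i)⁻¹ * (B ^ i) c) := (mul_inv_cancel_left _ _).symm
    have hk : f ((c * w ^ i)⁻¹ * (B ^ i) c) = 1 := by
      rw [map_mul, map_inv, ih, map_mul, map_pow, inv_mul_cancel]
    rw [pow_succ', MulAut.mul_apply, e, map_mul, map_mul, hker _ hk, mul_one, map_mul, map_pow, hB, map_mul,
      map_pow, hw, map_mul f c w, mul_assoc, ← pow_succ']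

/-- The lifting lemma. -/
theorem exists_lift (hS : IsPGroup p S) (hE : E.IsNormalIn F p) {P R : Subgroup Ω}
    (hPc : F.IsFullyCentralized P) (hPR : P ≤ R) (hRT : R ≤ T) (hR : F.IsFullyNormalized R)
    (hCT : centralizerIn T R ≤ R) (hCR : centralizerIn S P ≤ Subgroup.normalizer (R : Set Ω))
    (hMV : ∀ a ∈ E.autGroup R, MV F T R a) {δ₀ : MulAut R} (hδ₀ : δ₀ ∈ E.autGroup R) {β : MulAut P}
    (hres : Restr hPR δ₀ β) (hord : ¬ p ∣ orderOf β) :
    ∃ D ∈ F.Hom (R ⊔ centralizerIn S P), ∃ δ ∈ E.autGroup R, Restr hPR δ β ∧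
      (∀ x : R, D (Subgroup.inclusion le_sup_left x) = ((δ x : R) : Ω)) ∧
      ∀ c : centralizerIn S P, (c : Ω)⁻¹ * D (Subgroup.inclusion le_sup_right c) ∈ T := by
  have hsc := hE.1.2.2.2.1
  haveI := finite_sub hR.1
  obtain ⟨δ, hδE, hδβ, hδord, hδN⟩ := exists_normalizing hS hE hPc hPR hRT hR hCR hδ₀ hres hord
  obtain ⟨D, hD, hD1, hD2⟩ := hMV δ hδE
  have hHS : R ⊔ centralizerIn S R ≤ S := hull_le hR.1
  haveI := finite_sub hHS
  have hDm : ∀ w, D w ∈ R ⊔ centralizerIn S R := mapsTo_of_sup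
    (fun x => by rw [hD1]; exact (le_sup_left : R ≤ R ⊔ _) (δ x).2)
    (fun c => (le_sup_right : _ ≤ R ⊔ centralizerIn S R)
      (apply_centralizer_mem hD (fun y hy => ⟨δ⁻¹ ⟨y, hy⟩, by rw [hD1, MulAut.apply_inv_self]⟩) c))
  obtain ⟨B₀, hB₀, hB₀e⟩ := exists_aut hD hDm
  have hB₀δ : Restr le_sup_left B₀ δ := fun x => (hB₀e _).trans (hD1 x)
  have hB₀m : B₀ ∈ moveSub (R ⊔ centralizerIn S R) R := by
    refine mem_moveSub (fun x => ?_) fun x => ?_
    · have h := autGroup_mem_iff_of_stronglyClosed hsc hHS hB₀ x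
      exact ⟨fun hx => mem_of_hull hRT hCT (B₀ x).2 (h.1 (hRT hx)),
        fun hx => mem_of_hull hRT hCT x.2 (h.2 (hRT hx))⟩
    · obtain ⟨u, hu, c, hc, he⟩ := Odd.exists_mul x.2
      refine mem_of_hull hRT hCT (mul_mem (inv_mem x.2) (B₀ x).2) ?_
      have hx : x = Subgroup.inclusion le_sup_left ⟨u, hu⟩ * Subgroup.inclusion le_sup_right ⟨c, hc⟩ :=
        Subtype.ext he.symm
      rw [hB₀e, hx, map_mul, hD1, Subgroup.coe_mul]
      show (u * c)⁻¹ * (((δ ⟨u, hu⟩ : R) : Ω) * D (Subgroup.inclusion le_sup_right ⟨c, hc⟩)) ∈ T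
      rw [show (u * c)⁻¹ * (((δ ⟨u, hu⟩ : R) : Ω) * D (Subgroup.inclusion le_sup_right ⟨c, hc⟩)) =
        c⁻¹ * (u⁻¹ * ((δ ⟨u, hu⟩ : R) : Ω)) * c * (c⁻¹ * D (Subgroup.inclusion le_sup_right ⟨c, hc⟩)) by group]
      exact T.mul_mem (conj_inv_mem_of_normalizer (stronglyClosed_le_normalizer hsc hc.1)
        (hRT (R.mul_mem (R.inv_mem hu) (δ _).2))) (hD2 ⟨c, hc⟩)
  obtain ⟨n₀, hn₀, -⟩ := exists_pow_prime_to (x := B₀) hδord
  obtain ⟨ψ, hψ, hψR, hψH, hψc⟩ := exists_extend_hull hS hE (P := P) hR hRT hCT hCR hδE hδN (pow_mem hB₀ n₀)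
    (by have := hB₀δ.pow n₀; rwa [hn₀] at this) (pow_mem hB₀m n₀)
  -- the automorphism of `R C_S(P)` and its power
  have hXS : R ⊔ centralizerIn S P ≤ S := src_le hψ
  haveI := finite_sub hXS
  obtain ⟨ψP, hψP, hψPe⟩ := exists_restrict hψ (sup_le_sup_right hPR (centralizerIn S P))
  have hψPx : ∀ x : P, ψP (Subgroup.inclusion le_sup_left x) = ((β x : P) : Ω) := fun x => by
    rw [hψPe]
    exact (hψR (Subgroup.inclusion hPR x)).trans (hδβ x)
  have hψC : ∀ c : centralizerIn S P, ψ (Subgroup.inclusion le_sup_right c) ∈ centralizerIn S P := fun c => by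
    have h := apply_centralizer_mem hψP (fun y hy => ⟨β⁻¹ ⟨y, hy⟩, by rw [hψPx, MulAut.apply_inv_self]⟩) c
    rwa [hψPe] at h
  obtain ⟨B₁, hB₁, hB₁e⟩ := exists_aut hψ (mapsTo_of_sup
    (fun x => by rw [hψR]; exact (le_sup_left : R ≤ R ⊔ _) (δ x).2)
    (fun c => (le_sup_right : _ ≤ R ⊔ centralizerIn S P) (hψC c)))
  have hB₁δ : Restr le_sup_left B₁ δ := fun x => (hB₁e _).trans (hψR x)
  obtain ⟨n, hn, hnord⟩ := exists_pow_prime_to (x := B₁) hδord
  obtain ⟨φ, hφ, -, hφe⟩ := exists_hom_of_aut hXS (pow_mem hB₁ n)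
  refine ⟨φ, hφ, δ, hδE, hδβ, fun x => ?_, fun c => ?_⟩
  · rw [hφe]
    have h := (hB₁δ.pow n) x
    rwa [hn] at h
  -- modulo `T`
  haveI : (T.subgroupOf S).Normal :=
    ⟨fun t ht g => Subgroup.mem_subgroupOf.2 (conj_mem_of_normalizer (stronglyClosed_le_normalizer hsc g.2)
      (Subgroup.mem_subgroupOf.1 ht))⟩
  set f : ↥(R ⊔ centralizerIn S P) →* S ⧸ T.subgroupOf S :=
    (QuotientGroup.mk' (T.subgroupOf S)).comp (Subgroup.inclusion hXS) with hf
  have hf1 : ∀ k, f k = 1 ↔ (k : Ω) ∈ T := fun k =>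
    (QuotientGroup.eq_one_iff _).trans Subgroup.mem_subgroupOf
  set cX : ↥(R ⊔ centralizerIn S P) := Subgroup.inclusion le_sup_right c with hcX
  set w := cX⁻¹ * B₁ cX with hwdef
  have hwB : B₁ cX = cX * w := (mul_inv_cancel_left _ _).symm
  have hker : ∀ k, f k = 1 → f (B₁ k) = 1 := fun k hk =>
    (hf1 _).2 (by rw [hB₁e]; exact stronglyClosed_apply_mem hsc hψ ((hf1 k).1 hk))
  have hfw : f (B₁ w) = f w := by
    have h := hψc c
    rw [← hB₁e] at h
    have hT : centralizerIn S R ≤ Subgroup.normalizer (T : Set Ω) := fun g hg =>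
      stronglyClosed_le_normalizer hsc hg.1
    have h' : ((w : ↥(R ⊔ centralizerIn S P)) : Ω) ∈ ((T ⊔ centralizerIn S R : Subgroup Ω) : Set Ω) := h
    rw [Subgroup.coe_mul_of_right_le_normalizer_left T _ hT] at h'
    obtain ⟨τ, hτ, z, hz, hτz⟩ := h'
    have hzX : z ∈ R ⊔ centralizerIn S P :=
      (le_sup_right : _ ≤ R ⊔ centralizerIn S P) (centralizerIn_anti hPR hz)
    have hτX : τ ∈ R ⊔ centralizerIn S P := by
      have hh := mul_mem w.2 (inv_mem hzX)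
      rw [show (w : Ω) = τ * z from hτz.symm, mul_inv_cancel_right] at hh
      exact hh
    have hwe : w = ⟨τ, hτX⟩ * ⟨z, hzX⟩ := Subtype.ext hτz.symm
    have hz1 : f ((⟨z, hzX⟩ : ↥(R ⊔ centralizerIn S P))⁻¹ * B₁ ⟨z, hzX⟩) = 1 := by
      refine (hf1 _).2 ?_
      rw [Subgroup.coe_mul, Subgroup.coe_inv, hB₁e]
      have hzH : z ∈ R ⊔ centralizerIn S R := (le_sup_right : _ ≤ R ⊔ centralizerIn S R) hz
      rw [hψH z hzH hzX]
      exact hRT (((pow_mem hB₀m n₀) ()).2 ⟨z, hzH⟩ hzH)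
    rw [hwe, map_mul, map_mul, hker ⟨τ, hτX⟩ ((hf1 ⟨τ, hτX⟩).2 hτ), map_mul, (hf1 ⟨τ, hτX⟩).2 hτ, one_mul, one_mul]
    rw [map_mul, map_inv, inv_mul_eq_one] at hz1
    exact hz1.symm
  have hi := pow_translate f B₁ hwB hfw hker
  have h1 := hi (n * orderOf (B₁ ^ n))
  rw [pow_mul, pow_orderOf_eq_one, MulAut.one_apply, pow_mul, left_eq_mul] at h1
  have hfin : f w ^ n = 1 := by
    obtain ⟨k, hk⟩ := hS (Subgroup.inclusion hXS w)
    have hwp : f w ^ p ^ k = 1 := by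
      rw [hf, MonoidHom.comp_apply, ← map_pow, hk, map_one]
    have hwp' : (f w ^ n) ^ p ^ k = 1 := by rw [← pow_mul, mul_comm, pow_mul, hwp, one_pow]
    have hz' := mem_zpowers_pow hwp' hnord
    rw [h1, Subgroup.zpowers_one_eq_bot, Subgroup.mem_bot] at hz'
    exact hz'
  have h2 := hi n
  rw [hfin, mul_one] at h2
  have h3 : (cX⁻¹ * (B₁ ^ n) cX : ↥(R ⊔ centralizerIn S P)).1 ∈ T := by
    refine (hf1 _).1 ?_
    rw [map_mul, map_inv, h2, inv_mul_cancel]
  rw [hφe]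
  exact h3

end Cfsg.Agent.Lib.FS.Inter
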