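import Cfsg.Agent.Lib.FusionSystem.Inter.MoveT
import Cfsg.Agent.Lib.FusionSystem.Inter.Exists
import Cfsg.Agent.Lib.FusionSystem.Fitting
import Cfsg.Agent.Lib.FusionP3.StronglyClosed

/-!
Two commuting normal subsystems: the maps of their central product.
-/

set_option autoImplicit false
set_option linter.style.haveILetI false
set_option linter.unusedSectionVars false

namespace Cfsg.Agent.Lib.FS.Inter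

open Cfsg Cfsg.FusionSystem Cfsg.Agent.Lib Cfsg.Agent.Lib.FS Cfsg.Agent.Lib.FS.NormalCentralizer
open Cfsg.Agent.Lib.FS.CentralLift (Restr)
open Cfsg.Agent.Lib.FusionP3.Prime (img img_le apply_mem_img mem_img Inv)

variable {Ω : Type*} [Group Ω] {S T₁ T₂ : Subgroup Ω} [Finite S] {p : ℕ} [hp : Fact p.Prime]
  {F : FusionSystem S} {E₁ : FusionSystem T₁} {E₂ : FusionSystem T₂}

/-- Two normal subsystems centralising each other. -/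
structure Comm (F : FusionSystem S) (E₁ : FusionSystem T₁) (E₂ : FusionSystem T₂) (p : ℕ) : Prop where
  hS : IsPGroup p S
  h₁ : E₁.IsNormalIn F p
  h₂ : E₂.IsNormalIn F p
  comm : ∀ a ∈ T₁, ∀ b ∈ T₂, a * b = b * a
  fix₁ : ∀ (P : Subgroup Ω) (φ : P →* Ω), φ ∈ E₁.Hom P → ∀ x : P, (x : Ω) ∈ T₂ → φ x = x
  fix₂ : ∀ (P : Subgroup Ω) (φ : P →* Ω), φ ∈ E₂.Hom P → ∀ x : P, (x : Ω) ∈ T₁ → φ x = x

/-- `φ` is a product of a map of `E₁` and a map of `E₂`. -/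
def Pair (E₁ : FusionSystem T₁) (E₂ : FusionSystem T₂) (P : Subgroup Ω) (φ : P →* Ω) : Prop :=
  P ≤ T₁ ⊔ T₂ ∧ ∃ (P₁ P₂ : Subgroup Ω) (φ₁ : P₁ →* Ω) (φ₂ : P₂ →* Ω), φ₁ ∈ E₁.Hom P₁ ∧ φ₂ ∈ E₂.Hom P₂ ∧
    ∀ (x : P) (a b : Ω), a ∈ T₁ → b ∈ T₂ → (x : Ω) = a * b →
      ∃ (ha : a ∈ P₁) (hb : b ∈ P₂), φ x = φ₁ ⟨a, ha⟩ * φ₂ ⟨b, hb⟩

omit [Finite S] hp in
theorem exists_split (hcomm : ∀ a ∈ T₁, ∀ b ∈ T₂, a * b = b * a) {x : Ω} (hx : x ∈ T₁ ⊔ T₂) :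
    ∃ a ∈ T₁, ∃ b ∈ T₂, x = a * b :=
  FusionP3.StronglyClosed.exists_mul_of_mem_sup
    (fun u hu t ht => by rw [hcomm u hu t ht, mul_inv_cancel_right]; exact ht) hx

namespace Comm

variable (h : Comm F E₁ E₂ p)
include h

theorem swap : Comm F E₂ E₁ p := ⟨h.hS, h.h₂, h.h₁, fun a ha b hb => (h.comm b hb a ha).symm, h.fix₂, h.fix₁⟩

theorem hF : F.IsSaturated p := h.h₁.1.2.1

theorem sc₁ : F.StronglyClosed T₁ := h.h₁.1.2.2.2.1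

theorem sc₂ : F.StronglyClosed T₂ := h.h₂.1.2.2.2.1

theorem le_cent₁ : T₁ ≤ centralizerIn S T₂ := fun a ha =>
  mem_centralizerIn.2 ⟨h.sc₁.1 ha, fun b hb => (h.comm a ha b hb).symm⟩

theorem le_cent₂ : T₂ ≤ centralizerIn S T₁ := h.swap.le_cent₁

theorem fixes₁ {P : Subgroup Ω} {φ : P →* Ω} (hφ : φ ∈ E₁.Hom P) : Fixes F T₂ P φ :=
  fixes_of_fixed h.hS h.h₁ h.sc₂ h.le_cent₁ h.fix₁ hφ

theorem fixes₂ {P : Subgroup Ω} {φ : P →* Ω} (hφ : φ ∈ E₂.Hom P) : Fixes F T₁ P φ :=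
  h.swap.fixes₁ hφ

theorem scU : F.StronglyClosed (T₁ ⊔ T₂) := by
  refine ⟨sup_le h.sc₁.1 h.sc₂.1, fun R hR φ hφ x => ?_⟩
  obtain ⟨ψ, hψ, hc⟩ := FusionP3.StronglyClosed.hasLift h.hS h.hF h.sc₁ hφ
  obtain ⟨a, ha, b, hb, hab⟩ := exists_split h.comm (hR x.2)
  have hbm : b ∈ R ⊔ T₁ := by
    rw [show b = a⁻¹ * (x : Ω) by rw [hab]; group]
    exact mul_mem (Subgroup.mem_sup_right (T₁.inv_mem ha)) (Subgroup.mem_sup_left x.2)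
  have hx : Subgroup.inclusion le_sup_left x =
      Subgroup.inclusion (le_sup_right : T₁ ≤ R ⊔ T₁) ⟨a, ha⟩ * ⟨b, hbm⟩ := Subtype.ext hab
  have h1 : ψ (Subgroup.inclusion le_sup_left x) ∈ T₁ ⊔ T₂ := by
    rw [hx, map_mul]
    exact Subgroup.mul_mem_sup (stronglyClosed_apply_mem h.sc₁ hψ ha) (stronglyClosed_apply_mem h.sc₂ hψ hb)
  have h2 := mul_mem h1 (Subgroup.mem_sup_left (T := T₂) (T₁.inv_mem (hc x)))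
  rwa [mul_inv_rev, inv_inv, mul_inv_cancel_left] at h2

/-- Products of maps lie in `F`. -/
theorem pair_mem {P : Subgroup Ω} {φ : P →* Ω} (hφ : Pair E₁ E₂ P φ) : φ ∈ F.Hom P := by
  obtain ⟨hPU, P₁, P₂, φ₁, φ₂, h1, h2, he⟩ := hφ
  obtain ⟨ψ₁, hψ₁, hψ₁a, hψ₁b⟩ := h.fixes₁ h1
  obtain ⟨ψ₂, hψ₂, hψ₂a, hψ₂b⟩ := h.fixes₂ h2
  have hP₂ : P₂ ≤ T₂ := src_le h2
  obtain ⟨χ, hχ, hχe⟩ := exists_restrict hψ₁ (sup_le_sup_left hP₂ P₁)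
  have hm : ∀ w, χ w ∈ P₂ ⊔ T₁ := mapsTo_sup
    (fun x => (congrArg (· ∈ P₂ ⊔ T₁) ((hχe _).trans (hψ₁a x))).mpr (Subgroup.mem_sup_right (apply_mem h1 x)))
    (fun y => (congrArg (· ∈ P₂ ⊔ T₁) ((hχe _).trans (hψ₁b ⟨y, hP₂ y.2⟩))).mpr (Subgroup.mem_sup_left y.2))
  obtain ⟨c, hc, hce⟩ := exists_comp hχ hψ₂ hm
  have hle : P ≤ P₁ ⊔ P₂ := fun x hx => by
    obtain ⟨a, ha, b, hb, hab⟩ := exists_split h.comm (hPU hx)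
    obtain ⟨ha', hb', -⟩ := he ⟨x, hx⟩ a b ha hb hab
    rw [hab]; exact Subgroup.mul_mem_sup ha' hb'
  refine mem_of_restrict hc hle fun x => ?_
  obtain ⟨a, ha, b, hb, hab⟩ := exists_split h.comm (hPU x.2)
  obtain ⟨ha', hb', hx⟩ := he x a b ha hb hab
  rw [hx, show (⟨x, hle x.2⟩ : ↥(P₁ ⊔ P₂)) =
    Subgroup.inclusion le_sup_left ⟨a, ha'⟩ * Subgroup.inclusion le_sup_right ⟨b, hb'⟩ from Subtype.ext hab,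
    map_mul]
  refine congrArg₂ (· * ·) ?_ ?_
  · rw [hce]
    refine (hψ₂b ⟨φ₁ ⟨a, ha'⟩, apply_mem h1 _⟩).symm.trans (congrArg ψ₂ (Subtype.ext ?_))
    exact ((hχe _).trans (hψ₁a ⟨a, ha'⟩)).symm
  · rw [hce]
    refine (hψ₂a ⟨b, hb'⟩).symm.trans (congrArg ψ₂ (Subtype.ext ?_))
    exact ((hχe _).trans (hψ₁b ⟨b, hP₂ hb'⟩)).symm

end Comm

/-- The conjugate of a map inside a strongly closed subgroup by an automorphism of it. -/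
theorem exists_conjugate {U : Subgroup Ω} (hU : F.StronglyClosed U) {α : MulAut U} (hα : α ∈ F.autGroup U)
    {P : Subgroup Ω} (hP : P ≤ U) {φ : P →* Ω} (hφ : φ ∈ F.Hom P) :
    ∃ χ ∈ F.Hom (img α P), ∀ (x : P) (hφx : φ x ∈ U) (hαx : ((α ⟨x, hP x.2⟩ : U) : Ω) ∈ img α P),
      χ ⟨(α ⟨x, hP x.2⟩ : U), hαx⟩ = ((α ⟨φ x, hφx⟩ : U) : Ω) := by
  obtain ⟨a, ha, -, hae⟩ := exists_hom_of_aut hU.1 hα
  obtain ⟨b, hb, -, hbe⟩ := exists_hom_of_aut hU.1 ((F.autGroup U).inv_mem hα)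
  obtain ⟨b', hb', hb'e⟩ := exists_restrict hb (img_le α P)
  have hb'P : ∀ y, b' y ∈ P := by
    rintro ⟨_, w, hw, rfl⟩
    rw [hb'e, hbe, show (⟨U.subtype.comp α.toMonoidHom w, _⟩ : U) = α w from Subtype.ext rfl,
      MulAut.inv_apply_self]
    exact hw
  obtain ⟨c, hc, hce⟩ := exists_comp hb' hφ hb'P
  obtain ⟨d, hd, hde⟩ := exists_comp hc ha fun y => by
    rw [hce]; exact stronglyClosed_apply_mem hU hφ (hP (hb'P y))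
  refine ⟨d, hd, fun x hφx hαx => ?_⟩
  rw [hde, hae]
  refine congrArg (fun z => ((α z : U) : Ω)) (Subtype.ext ?_)
  show c ⟨_, hαx⟩ = φ x
  rw [hce]
  refine congrArg φ (Subtype.ext ?_)
  show b' ⟨_, hαx⟩ = (x : Ω)
  rw [hb'e, hbe]
  exact congrArg Subtype.val (MulAut.inv_apply_self _ α ⟨x, hP x.2⟩)

theorem Comm.inv (h : Comm F E₁ E₂ p) {D : FusionSystem (T₁ ⊔ T₂)}
    (hD : ∀ (P : Subgroup Ω) (φ : P →* Ω), φ ∈ D.Hom P ↔ Pair E₁ E₂ P φ) {α : MulAut ↥(T₁ ⊔ T₂)}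
    (hα : α ∈ F.autGroup (T₁ ⊔ T₂)) : Inv D α := by
  intro Q hQ φ hφ
  have hp₁ : ∀ x : T₁, ((α (Subgroup.inclusion le_sup_left x) : ↥(T₁ ⊔ T₂)) : Ω) ∈ T₁ := fun x =>
    (autGroup_mem_iff_of_stronglyClosed h.sc₁ h.scU.1 hα _).1 x.2
  have hp₂ : ∀ x : T₂, ((α (Subgroup.inclusion le_sup_right x) : ↥(T₁ ⊔ T₂)) : Ω) ∈ T₂ := fun x =>
    (autGroup_mem_iff_of_stronglyClosed h.sc₂ h.scU.1 hα _).1 x.2
  obtain ⟨α₁, hα₁, hr₁⟩ := exists_restr le_sup_left h.scU.1 hα hp₁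
  obtain ⟨α₂, hα₂, hr₂⟩ := exists_restr le_sup_right h.scU.1 hα hp₂
  obtain ⟨χ, hχ, hχe⟩ := exists_conjugate h.scU hα hQ (h.pair_mem ((hD Q φ).1 hφ))
  obtain ⟨-, P₁, P₂, φ₁, φ₂, h1, h2, he⟩ := (hD Q φ).1 hφ
  obtain ⟨χ₁, hχ₁, hχ₁e⟩ := h.h₁.1.2.2.2.2.1 P₁ (src_le h1) φ₁ h1 α₁ hα₁
  obtain ⟨χ₂, hχ₂, hχ₂e⟩ := h.h₂.1.2.2.2.2.1 P₂ (src_le h2) φ₂ h2 α₂ hα₂
  refine ⟨χ, (hD _ χ).2 ⟨img_le α Q, _, _, χ₁, χ₂, hχ₁, hχ₂, ?_⟩, hχe⟩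
  rintro ⟨_, w, hw, rfl⟩ a b ha hb hab
  obtain ⟨a', ha'⟩ : ∃ a' : T₁, α₁ a' = ⟨a, ha⟩ := α₁.surjective _
  obtain ⟨b', hb'⟩ : ∃ b' : T₂, α₂ b' = ⟨b, hb⟩ := α₂.surjective _
  have hwe : w = Subgroup.inclusion le_sup_left a' * Subgroup.inclusion le_sup_right b' := by
    refine α.injective (Subtype.ext ?_)
    rw [map_mul, Subgroup.coe_mul, hr₁, hr₂, ha', hb']
    exact hab
  obtain ⟨haP, hbP, hφw⟩ := he ⟨w, hw⟩ a' b' a'.2 b'.2 (congrArg Subtype.val hwe)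
  have hma : a ∈ (P₁.subgroupOf T₁).map (T₁.subtype.comp α₁.toMonoidHom) :=
    ⟨a', haP, congrArg Subtype.val ha'⟩
  have hmb : b ∈ (P₂.subgroupOf T₂).map (T₂.subtype.comp α₂.toMonoidHom) :=
    ⟨b', hbP, congrArg Subtype.val hb'⟩
  refine ⟨hma, hmb, ?_⟩
  have e1 : χ₁ ⟨a, hma⟩ = ((α₁ ⟨φ₁ ⟨a', haP⟩, apply_mem h1 _⟩ : T₁) : Ω) := by
    rw [← hχ₁e ⟨a', haP⟩ (apply_mem h1 _) ⟨a', haP, rfl⟩]
    exact congrArg χ₁ (Subtype.ext (congrArg Subtype.val ha').symm)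
  have e2 : χ₂ ⟨b, hmb⟩ = ((α₂ ⟨φ₂ ⟨b', hbP⟩, apply_mem h2 _⟩ : T₂) : Ω) := by
    rw [← hχ₂e ⟨b', hbP⟩ (apply_mem h2 _) ⟨b', hbP, rfl⟩]
    exact congrArg χ₂ (Subtype.ext (congrArg Subtype.val hb').symm)
  rw [e1, e2, ← hr₁, ← hr₂, ← Subgroup.coe_mul, ← map_mul]
  refine (hχe ⟨w, hw⟩ (apply_mem hφ _) ⟨w, hw, rfl⟩).trans ?_
  exact congrArg (fun z => ((α z : ↥(T₁ ⊔ T₂)) : Ω)) (Subtype.ext hφw)

/-- The maps of a central product. -/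
theorem centralProduct_iff {D : FusionSystem (T₁ ⊔ T₂)} (hD : IsCentralProductOf E₁ E₂ D) (P : Subgroup Ω)
    (φ : P →* Ω) : φ ∈ D.Hom P ↔ Pair E₁ E₂ P φ := by
  obtain ⟨D₀, hD₀, Z, θ, -, -, -, hfst, hsnd, -, -, hr, hmem⟩ := hD
  have hθ : ∀ s : ↥(T₁.prod T₂), θ s = (s : Ω × Ω).1 * (s : Ω × Ω).2 := by
    rintro ⟨⟨a, b⟩, ha, hb⟩
    refine ((congrArg θ (Subtype.ext (by simp) : _ = (⟨(a, 1), ha, one_mem _⟩ : ↥(T₁.prod T₂)) *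
      ⟨(1, b), one_mem _, hb⟩)).trans (map_mul θ _ _)).trans ?_
    exact congrArg₂ (· * ·) (hfst _ _) (hsnd _ _)
  constructor
  · intro hφ
    obtain ⟨hP, ψ, hψ, hind⟩ := (hmem P φ).1 hφ
    obtain ⟨-, φ₁, h1, φ₂, h2, rfl⟩ := (product_mem_iff hD₀).1 hψ
    refine ⟨hP, _, _, φ₁, φ₂, h1, h2, fun x a b ha hb hab => ?_⟩
    have hs : ((a, b) : Ω × Ω) ∈ T₁.prod T₂ := ⟨ha, hb⟩
    have hθs : θ ⟨(a, b), hs⟩ = (x : Ω) := (hθ _).trans hab.symm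
    have hmP : ((a, b) : Ω × Ω) ∈ preimageAlong θ P := mem_preimageAlong.2 ⟨hs, by rw [hθs]; exact x.2⟩
    refine ⟨fst_mem hmP, snd_mem hmP, ?_⟩
    rw [show x = (⟨θ ⟨(a, b), hs⟩, by rw [hθs]; exact x.2⟩ : P) from Subtype.ext hθs.symm]
    refine (inducedAlong_apply hind ⟨(a, b), hmP⟩ hs _ (apply_mem hψ _)).trans ?_
    exact hθ _
  · rintro ⟨hP, P₁, P₂, φ₁, φ₂, h1, h2, he⟩
    have hpre : ∀ z ∈ preimageAlong θ P, z.1 ∈ P₁ ∧ z.2 ∈ P₂ := fun z hz => by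
      obtain ⟨hzS, hzP⟩ := mem_preimageAlong.1 hz
      obtain ⟨ha, hb, -⟩ := he ⟨_, hzP⟩ z.1 z.2 hzS.1 hzS.2 (hθ _)
      exact ⟨ha, hb⟩
    obtain ⟨f₁, hf₁, hf₁e⟩ := exists_restrict h1 (P := proj₁ (preimageAlong θ P))
      (by rintro _ ⟨z, hz, rfl⟩; exact (hpre z hz).1)
    obtain ⟨f₂, hf₂, hf₂e⟩ := exists_restrict h2 (P := proj₂ (preimageAlong θ P))
      (by rintro _ ⟨z, hz, rfl⟩; exact (hpre z hz).2)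
    have hψ : pairMap f₁ f₂ ∈ D₀.Hom (preimageAlong θ P) :=
      (product_mem_iff hD₀).2 ⟨preimageAlong_le θ P, f₁, hf₁, f₂, hf₂, rfl⟩
    refine (hmem P φ).2 ⟨hP, _, hψ, inducedAlong_preimage hψ fun s hs => ?_⟩
    obtain ⟨ha, hb, hx⟩ := he ⟨θ s, hs⟩ _ _ s.2.1 s.2.2 (hθ s)
    have hmP : (s : Ω × Ω) ∈ preimageAlong θ P := mem_preimageAlong.2 ⟨s.2, hs⟩
    rw [hx, hθ]
    exact congrArg₂ (· * ·) (hf₁e ⟨_, fst_mem hmP⟩).symm (hf₂e ⟨_, snd_mem hmP⟩).symm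

end Cfsg.Agent.Lib.FS.Inter
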