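import Cfsg.Agent.Lib.FusionSystem.Inter.Pair
import Cfsg.Agent.Lib.FusionP3.Prime.Factor
import Cfsg.Agent.Lib.FusionSystem.NormalFacts

/-!
The Frattini property of the product of two commuting normal subsystems.
-/

set_option autoImplicit false
set_option linter.style.haveILetI false
set_option linter.unusedSectionVars false

namespace Cfsg.Agent.Lib.FS.Inter

open scoped commutatorElement
open Cfsg Cfsg.FusionSystem Cfsg.Agent.Lib Cfsg.Agent.Lib.FS Cfsg.Agent.Lib.FS.NormalCentralizer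
open Cfsg.Agent.Lib.FS.CentralLift (Restr)
open Cfsg.Agent.Lib.FusionP3.Prime (img img_le apply_mem_img mem_img Inv Dec)

variable {Ω : Type*} [Group Ω] {S T₁ T₂ : Subgroup Ω} [Finite S] {p : ℕ} [hp : Fact p.Prime]
  {F : FusionSystem S} {E₁ : FusionSystem T₁} {E₂ : FusionSystem T₂}

namespace Comm

variable (h : Comm F E₁ E₂ p)
include h

theorem scA : F.StronglyClosed (T₁ ⊓ T₂) :=
  ⟨inf_le_left.trans h.sc₁.1, fun R hR φ hφ x =>
    ⟨stronglyClosed_apply_mem h.sc₁ hφ (hR x.2).1, stronglyClosed_apply_mem h.sc₂ hφ (hR x.2).2⟩⟩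

/-- A centric radical subgroup contains the components of its elements in `T₁ T₂`. -/
theorem proj_le {P : Subgroup Ω} (hc : F.IsCentric P) (hr : F.IsRadical p P) : (P ⊔ T₂) ⊓ T₁ ≤ P := by
  classical
  have hPS : P ≤ S := hc.1
  haveI := finite_sub hPS
  set P₁ := (P ⊔ T₂) ⊓ T₁ with hP₁
  set A := T₁ ⊓ T₂ with hA
  have hP₁S : P₁ ≤ S := inf_le_right.trans h.sc₁.1
  haveI := finite_sub hP₁S
  have hscA := h.scA
  have hAP₁ : A ≤ P₁ := le_inf (inf_le_right.trans le_sup_right) inf_le_left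
  haveI : Group.IsNilpotent P₁ := (isPGroup_of_le h.hS hP₁S).isNilpotent
  obtain ⟨n, hn⟩ := (Subgroup.isNilpotent_iff_lowerCentralSeries P₁).1 inferInstance
  let Z : ℕ → Subgroup Ω := fun k => P₁.lowerCentralSeries k ⊔ A
  have hZP₁ : ∀ k, Z k ≤ P₁ := fun k => sup_le (P₁.lowerCentralSeries_le_self k) hAP₁
  have hZ0 : P₁ ≤ Z 0 := fun x hx => Subgroup.mem_sup_left hx
  have hZn : Z n = A := by
    show P₁.lowerCentralSeries n ⊔ A = A
    rw [hn, bot_sup_eq]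
  have hcent : ∀ z ∈ A, ∀ q ∈ P₁, q * z = z * q := fun z hz q hq => h.comm q hq.2 z hz.2
  -- invariance of the series
  have hinv1 : ∀ a ∈ F.autGroup P, ∀ k, ∀ x : P, (x : Ω) ∈ Z k → ((a x : P) : Ω) ∈ Z k := by
    intro a ha k x hx
    obtain ⟨φ, hφ, -, hφe⟩ := exists_hom_of_aut hPS ha
    obtain ⟨ψ, hψ, hψc⟩ := FusionP3.StronglyClosed.hasLift h.hS h.hF h.sc₂ hφ
    have hψP : ∀ w, ψ w ∈ P ⊔ T₂ := mapsTo_sup
      (fun y => by
        have h1 := mul_mem (Subgroup.mem_sup_left (T := T₂) ((a y : P).2 : ((a y : P) : Ω) ∈ P))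
          (Subgroup.mem_sup_right (S := P) (hψc y))
        rwa [hφe, mul_inv_cancel_left] at h1)
      (fun t => Subgroup.mem_sup_right (stronglyClosed_apply_mem h.sc₂ hψ t.2))
    obtain ⟨ψ₁, hψ₁, hψ₁e⟩ := exists_restrict hψ (inf_le_left : P₁ ≤ P ⊔ T₂)
    have hψ₁r : ψ₁.range ≤ P₁ := by
      rintro _ ⟨y, rfl⟩
      exact ⟨by rw [hψ₁e]; exact hψP _, stronglyClosed_apply_mem h.sc₁ hψ₁ y.2.2⟩
    have hxP₁ : (x : Ω) ∈ P₁ := hZP₁ k hx
    have hfx : ψ₁ ⟨x, hxP₁⟩ ∈ Z k := by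
      obtain ⟨g, hg, z, hz, hgz⟩ := FusionP3.StronglyClosed.exists_mul_of_mem_sup
        (fun u hu t ht => by
          rw [hcent t ht u (P₁.lowerCentralSeries_le_self k hu), mul_inv_cancel_right]
          exact ht) hx
      rw [← Subgroup.top_subtype_lowerCentralSeries] at hg
      obtain ⟨g', hg', rfl⟩ := hg
      rw [show (⟨x, hxP₁⟩ : P₁) = g' * ⟨z, hAP₁ hz⟩ from Subtype.ext hgz, map_mul]
      have h0 : ψ₁ g' ∈ P₁.lowerCentralSeries k := by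
        refine Subgroup.lowerCentralSeries_mono k hψ₁r ?_
        show ψ₁ g' ∈ ψ₁.range.lowerCentralSeries k
        rw [MonoidHom.range_eq_map, ← Subgroup.map_lowerCentralSeries]
        exact ⟨g', hg', rfl⟩
      exact Subgroup.mul_mem_sup h0 (stronglyClosed_apply_mem hscA hψ₁ (x := ⟨z, hAP₁ hz⟩) hz)
    have h1 : ψ₁ ⟨x, hxP₁⟩ = ψ (Subgroup.inclusion le_sup_left x) := hψ₁e _
    have h2 : ((a x : P) : Ω) ∈ T₁ := by
      rw [← hφe]; exact stronglyClosed_apply_mem h.sc₁ hφ hxP₁.2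
    have h3 : ((a x : P) : Ω)⁻¹ * ψ₁ ⟨x, hxP₁⟩ ∈ A :=
      ⟨T₁.mul_mem (T₁.inv_mem h2) (hZP₁ k hfx).2, by rw [h1, ← hφe]; exact hψc x⟩
    have h4 := mul_mem hfx (Subgroup.mem_sup_right (S := P₁.lowerCentralSeries k) (A.inv_mem h3))
    rwa [mul_inv_rev, inv_inv, mul_inv_cancel_left] at h4
  have hinv : ∀ a ∈ F.autGroup P, ∀ k, ∀ x : P, (x : Ω) ∈ Z k ↔ ((a x : P) : Ω) ∈ Z k := fun a ha k x =>
    ⟨hinv1 a ha k x, fun hx => by simpa using hinv1 a⁻¹ ((F.autGroup P).inv_mem ha) k (a x) hx⟩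
  -- the stabiliser
  let LA : Option ℕ → Subgroup Ω := fun i => match i with
    | none => ⊥
    | some 0 => Z 0
    | some (k + 1) => Z (k + 1)
  let LB : Option ℕ → Subgroup Ω := fun i => match i with
    | none => A
    | some 0 => P
    | some (k + 1) => Z k
  have hLA : ∀ i, ∀ a ∈ F.autGroup P, ∀ x : P, (x : Ω) ∈ LA i ↔ ((a x : P) : Ω) ∈ LA i := by
    rintro (_ | _ | k) a ha x
    · show (x : Ω) ∈ (⊥ : Subgroup Ω) ↔ ((a x : P) : Ω) ∈ (⊥ : Subgroup Ω)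
      simp [Subgroup.mem_bot]
    · exact hinv a ha 0 x
    · exact hinv a ha _ x
  have hLB : ∀ i, ∀ a ∈ F.autGroup P, ∀ x : P, (x : Ω) ∈ LB i ↔ ((a x : P) : Ω) ∈ LB i := by
    rintro (_ | _ | k) a ha x
    · exact autGroup_mem_iff_of_stronglyClosed hscA hPS ha x
    · exact ⟨fun _ => (a x).2, fun _ => x.2⟩
    · exact hinv a ha _ x
  set K := layerStab P LA LB ⊓ F.autGroup P with hK
  have hKp : IsPGroup p K := by
    rintro ⟨γ, hγ, -⟩
    have hstep : ∀ j, j ≤ n → ∃ b, ∀ x : P, (x : Ω) ∈ Z (n - j) → (γ ^ p ^ b) x = x := by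
      intro j
      induction j with
      | zero =>
        intro _
        refine ⟨0, fun x hx => ?_⟩
        rw [Nat.sub_zero, hZn] at hx
        have h1 : (x : Ω)⁻¹ * ((γ x : P) : Ω) ∈ (⊥ : Subgroup Ω) := (hγ none).2 x hx
        rw [Subgroup.mem_bot, inv_mul_eq_one] at h1
        rw [pow_zero, pow_one]
        exact Subtype.ext h1.symm
      | succ j ih =>
        intro hj
        obtain ⟨b, hb⟩ := ih (by omega)
        have he : n - j = n - (j + 1) + 1 := by omega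
        rw [he] at hb
        obtain ⟨b', -, hb'⟩ := exists_pow_fix h.hS hPS (γ := γ) (Z := Z (n - (j + 1) + 1)) (a := b)
          (fun x hx => ((hγ (some (n - (j + 1) + 1))).1 x).1 hx) hb
        exact ⟨b', fun x hx => hb' x ((hγ (some (n - (j + 1) + 1))).2 x hx)⟩
    obtain ⟨b, hb⟩ := hstep n le_rfl
    rw [Nat.sub_self] at hb
    obtain ⟨b', -, hb'⟩ := exists_pow_fix h.hS hPS (γ := γ) (Z := Z 0) (a := b)
      (fun x hx => ((hγ (some 0)).1 x).1 hx) hb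
    exact ⟨b', Subtype.ext (MulEquiv.ext fun x => hb' x ((hγ (some 0)).2 x x.2))⟩
  have hKi : K ≤ Inn P := le_inn_of_radical hr inf_le_right (fun a ha k hk =>
    ⟨layerStab_conj_mem (fun i => hLA i a ha) (fun i => hLB i a ha) hk.1,
      mul_mem (mul_mem ha hk.2) ((F.autGroup P).inv_mem ha)⟩) hKp
  -- conclusion
  have hPn : ∀ u ∈ P, ∀ t ∈ P₁, u * t * u⁻¹ ∈ P₁ := fun u hu t ht =>
    ⟨mul_mem (mul_mem (Subgroup.mem_sup_left hu) ht.1) ((P ⊔ T₂).inv_mem (Subgroup.mem_sup_left hu)),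
      conj_mem_of_normalizer (stronglyClosed_le_normalizer h.sc₁ (hPS hu)) ht.2⟩
  by_contra hle
  have hlt : P < P ⊔ P₁ := left_lt_sup.2 hle
  have hXS : P ⊔ P₁ ≤ S := sup_le hPS hP₁S
  haveI := finite_sub hXS
  obtain ⟨g, hg, hgP⟩ := SetLike.exists_of_lt
    (FusionP3.Induction.lt_normalizerIn (isPGroup_of_le h.hS hXS) hlt)
  obtain ⟨u, hu, y, hy, rfl⟩ := FusionP3.StronglyClosed.exists_mul_of_mem_sup hPn hg.1
  have hyN : y ∈ Subgroup.normalizer (P : Set Ω) :=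
    (Subgroup.mul_mem_cancel_left _ (Subgroup.le_normalizer hu)).mp hg.2
  set c := P.normalizerMonoidHom ⟨y, hyN⟩ with hcdef
  have hcF : c ∈ F.autGroup P :=
    autInducedBy_le_autGroup F hPS (mem_autInducedBy.2 ⟨y, hP₁S hy, fun _ => rfl⟩)
  have hcK : c ∈ K := by
    refine ⟨fun i => ⟨hLA i c hcF, fun x hx => ?_⟩, hcF⟩
    rw [hcdef, normalizerMonoidHom_coe]
    show (x : Ω)⁻¹ * (y * x * y⁻¹) ∈ LA i
    rcases i with _ | _ | k
    · show _ ∈ (⊥ : Subgroup Ω)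
      rw [Subgroup.mem_bot, hcent x hx y hy]
      group
    · refine hZ0 ?_
      have h1 := P₁.mul_mem (hPn _ (P.inv_mem x.2) y hy) (P₁.inv_mem hy)
      rw [inv_inv] at h1
      simpa [mul_assoc] using h1
    · have hx' : (x : Ω) ∈ Z k := hx
      obtain ⟨g, hg, z, hz, hgz⟩ := FusionP3.StronglyClosed.exists_mul_of_mem_sup
        (fun u hu t ht => by
          rw [hcent t ht u (P₁.lowerCentralSeries_le_self k hu), mul_inv_cancel_right]
          exact ht) hx'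
      have h1 : ⁅g⁻¹, y⁆ ∈ P₁.lowerCentralSeries (k + 1) := by
        rw [Subgroup.lowerCentralSeries_succ]
        exact Subgroup.commutator_mem_commutator ((P₁.lowerCentralSeries k).inv_mem hg) hy
      refine Subgroup.mem_sup_left ?_
      have hc1 : Commute y z := hcent z hz y hy
      have hc2 : Commute g z := hcent z hz g (P₁.lowerCentralSeries_le_self k hg)
      have e : (g * z)⁻¹ * (y * (g * z) * y⁻¹) = ⁅g⁻¹, y⁆ := by
        have hz' : Commute (g⁻¹ * y * g) z := ((hc2.inv_left.mul_left hc1).mul_left hc2)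
        calc (g * z)⁻¹ * (y * (g * z) * y⁻¹) = z⁻¹ * ((g⁻¹ * y * g) * z) * y⁻¹ := by group
          _ = z⁻¹ * (z * (g⁻¹ * y * g)) * y⁻¹ := by rw [hz'.eq]
          _ = ⁅g⁻¹, y⁆ := by rw [commutatorElement_def]; group
      rw [hgz, e]
      exact h1
  obtain ⟨⟨v, hv⟩, hve⟩ := hKi hcK
  refine hgP (P.mul_mem hu ?_)
  have hvy : v⁻¹ * y ∈ centralizerIn S P := mem_centralizerIn'.2
    ⟨S.mul_mem (S.inv_mem (hPS hv)) (hP₁S hy), fun x hx => by
      have h1 := congrArg (fun m : MulAut P => ((m ⟨x, hx⟩ : P) : Ω)) hve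
      simp only [hcdef, MulAut.conj_apply, Subgroup.coe_mul, Subgroup.coe_inv, normalizerMonoidHom_coe] at h1
      rw [mul_inv_eq_iff_eq_mul]
      calc v⁻¹ * y * x = v⁻¹ * (y * x * y⁻¹) * y := by group
        _ = v⁻¹ * (v * x * v⁻¹) * y := by rw [h1]
        _ = x * (v⁻¹ * y) := by group⟩
  have h2 := P.mul_mem hv (hc.2 P (isConj_refl F hPS) hvy)
  rwa [mul_inv_cancel_left] at h2

/-- Conjugation in `F` preserves the product automorphisms of split subgroups. -/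
theorem autD_conj {D : FusionSystem (T₁ ⊔ T₂)} (hD : ∀ (P : Subgroup Ω) (φ : P →* Ω), φ ∈ D.Hom P ↔ Pair E₁ E₂ P φ)
    {V : Subgroup Ω} (hV : V ≤ T₁ ⊔ T₂)
    (hsplit : ∀ x ∈ V, ∀ a ∈ T₁, ∀ b ∈ T₂, x = a * b → a ∈ V ∧ b ∈ V)
    {g c : MulAut V} (hg : g ∈ D.autGroup V) (hc : c ∈ F.autGroup V) : c * g * c⁻¹ ∈ D.autGroup V := by
  have hVS : V ≤ S := hV.trans h.scU.1
  haveI := finite_sub hVS
  obtain ⟨γ, hγ, -, hγe⟩ := exists_hom_of_aut hV hg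
  obtain ⟨-, P₁, P₂, φ₁, φ₂, h1, h2, he⟩ := (hD V γ).1 hγ
  have hle₁ : V ⊓ T₁ ≤ P₁ := fun a ha =>
    (he ⟨a, ha.1⟩ a 1 ha.2 T₂.one_mem (mul_one a).symm).1
  have hle₂ : V ⊓ T₂ ≤ P₂ := fun b hb =>
    (he ⟨b, hb.1⟩ 1 b T₁.one_mem hb.2 (one_mul b).symm).2.1
  obtain ⟨f₁, hf₁, hf₁e⟩ := exists_restrict h1 hle₁
  obtain ⟨f₂, hf₂, hf₂e⟩ := exists_restrict h2 hle₂
  have hg₁ : ∀ a : ↥(V ⊓ T₁), f₁ a = ((g (Subgroup.inclusion inf_le_left a) : V) : Ω) := fun a => by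
    obtain ⟨ha, hb, hx⟩ := he ⟨a, a.2.1⟩ a 1 a.2.2 T₂.one_mem (mul_one _).symm
    rw [show (⟨1, hb⟩ : P₂) = 1 from rfl, map_one, mul_one] at hx
    rw [hf₁e, ← hγe]
    exact hx.symm
  have hg₂ : ∀ b : ↥(V ⊓ T₂), f₂ b = ((g (Subgroup.inclusion inf_le_left b) : V) : Ω) := fun b => by
    obtain ⟨ha, hb, hx⟩ := he ⟨b, b.2.1⟩ 1 b T₁.one_mem b.2.2 (one_mul _).symm
    rw [show (⟨1, ha⟩ : P₁) = 1 from rfl, map_one, one_mul] at hx
    rw [hf₂e, ← hγe]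
    exact hx.symm
  haveI := finite_sub h.sc₁.1
  haveI := finite_sub h.sc₂.1
  obtain ⟨g₁, hg₁m, hg₁e⟩ := exists_aut hf₁ fun a => ⟨by rw [hg₁]; exact SetLike.coe_mem _, apply_mem hf₁ a⟩
  obtain ⟨g₂, hg₂m, hg₂e⟩ := exists_aut hf₂ fun b => ⟨by rw [hg₂]; exact SetLike.coe_mem _, apply_mem hf₂ b⟩
  have hr₁ : Restr inf_le_left g g₁ := fun a => ((hg₁e a).trans (hg₁ a)).symm
  have hr₂ : Restr inf_le_left g g₂ := fun b => ((hg₂e b).trans (hg₂ b)).symm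
  obtain ⟨c₁, hc₁, hs₁⟩ := exists_restr (inf_le_left : V ⊓ T₁ ≤ V) hVS hc fun a =>
    ⟨SetLike.coe_mem _, (autGroup_mem_iff_of_stronglyClosed h.sc₁ hVS hc _).1 a.2.2⟩
  obtain ⟨c₂, hc₂, hs₂⟩ := exists_restr (inf_le_left : V ⊓ T₂ ≤ V) hVS hc fun b =>
    ⟨SetLike.coe_mem _, (autGroup_mem_iff_of_stronglyClosed h.sc₂ hVS hc _).1 b.2.2⟩
  obtain ⟨ψ₁, hψ₁, -, hψ₁e⟩ := exists_hom_of_aut (inf_le_right : V ⊓ T₁ ≤ T₁)
    (autE_normal h.h₁ inf_le_right hg₁m hc₁)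
  obtain ⟨ψ₂, hψ₂, -, hψ₂e⟩ := exists_hom_of_aut (inf_le_right : V ⊓ T₂ ≤ T₂)
    (autE_normal h.h₂ inf_le_right hg₂m hc₂)
  refine (mem_autGroup hV).2 ((hD V _).2 ⟨hV, _, _, ψ₁, ψ₂, hψ₁, hψ₂, fun x a b ha hb hab => ?_⟩)
  obtain ⟨haV, hbV⟩ := hsplit x x.2 a ha b hb hab
  refine ⟨⟨haV, ha⟩, ⟨hbV, hb⟩, ?_⟩
  rw [hψ₁e, hψ₂e, ← ((hs₁.mul hr₁).mul hs₁.inv), ← ((hs₂.mul hr₂).mul hs₂.inv), ← Subgroup.coe_mul, ← map_mul]
  exact congrArg (fun z => (((c * g * c⁻¹) z : V) : Ω)) (Subtype.ext hab)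

/-- The Frattini property. -/
theorem frattini {D : FusionSystem (T₁ ⊔ T₂)} (hD : ∀ (P : Subgroup Ω) (φ : P →* Ω), φ ∈ D.Hom P ↔ Pair E₁ E₂ P φ)
    {P : Subgroup Ω} (hP : P ≤ T₁ ⊔ T₂) {φ : P →* Ω} (hφ : φ ∈ F.Hom P) :
    Dec (F.autGroup (T₁ ⊔ T₂)) D φ := by
  have hscU := h.scU
  set G := F.autGroup (T₁ ⊔ T₂) with hG
  have hinvD : ∀ α ∈ G, Inv D α := fun α hα => h.inv hD hα
  suffices key : ∀ (P : Subgroup Ω) (φ : P →* Ω), φ ∈ F.Hom P →
      ∀ Q : Subgroup Ω, Q ≤ T₁ ⊔ T₂ → ∀ hQ : Q ≤ P, Dec G D (φ.comp (Subgroup.inclusion hQ)) from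
    (key P φ hφ P hP le_rfl).congr fun x => rfl
  refine FusionP3.Induction.hom_induction h.hS h.hF ?_ ?_ ?_
  · intro P R φ ψ χ hφ _ hm he h1 h2 Q hQU hQ
    obtain ⟨φQ, hφQ, hφQe⟩ := exists_restrict hφ hQ
    have hrU : φQ.range ≤ T₁ ⊔ T₂ := by
      rintro _ ⟨x, rfl⟩; exact stronglyClosed_apply_mem hscU hφQ (hQU x.2)
    have hrR : φQ.range ≤ R := by
      rintro _ ⟨x, rfl⟩; rw [hφQe]; exact hm _
    refine Dec.comp hinvD ((h1 Q hQU hQ).congr hφQe) (h2 _ hrU hrR) (fun x => ⟨x, rfl⟩) fun x => ?_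
    show χ _ = ψ _
    rw [he]
    exact congrArg ψ (Subtype.ext (hφQe x).symm)
  · intro P R φ ψ hle _ he h2 Q hQU hQ
    exact (h2 Q hQU (hQ.trans hle)).congr fun x => he _
  intro P hPn hPc hPr a ha big Q hQU hQ
  have hPS := hPn.1
  haveI := finite_sub hPS
  set V := P ⊓ (T₁ ⊔ T₂) with hVdef
  have hVP : V ≤ P := inf_le_left
  have hVU : V ≤ T₁ ⊔ T₂ := inf_le_right
  haveI := finite_sub (hVP.trans hPS)
  haveI := finite_sub hscU.1
  suffices hV : Dec G D ((P.subtype.comp a.toMonoidHom).comp (Subgroup.inclusion hVP)) from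
    hV.restrict (le_inf hQ hQU) fun x => rfl
  by_cases hUP : T₁ ⊔ T₂ ≤ P
  · obtain ⟨b, hb, hbe⟩ := exists_restr hUP hPS ha fun x =>
      (autGroup_mem_iff_of_stronglyClosed hscU hPS ha _).1 x.2
    exact Dec.of_aut hb hVU fun x => hbe ⟨x, hVU x.2⟩
  have hproj := h.proj_le hPc hPr
  have hsplit : ∀ x ∈ V, ∀ a ∈ T₁, ∀ b ∈ T₂, x = a * b → a ∈ V ∧ b ∈ V := by
    intro x hx a ha b hb hab
    have haP : a ∈ P := hproj ⟨by
      rw [show a = x * b⁻¹ by rw [hab]; group]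
      exact mul_mem (Subgroup.mem_sup_left hx.1) (Subgroup.mem_sup_right (T₂.inv_mem hb)), ha⟩
    refine ⟨⟨haP, Subgroup.mem_sup_left ha⟩, ?_, Subgroup.mem_sup_right hb⟩
    rw [show b = a⁻¹ * x by rw [hab]; group]
    exact P.mul_mem (P.inv_mem haP) hx.1
  have hinvV : ∀ c ∈ F.autGroup P, ∀ x : P, (x : Ω) ∈ V ↔ ((c x : P) : Ω) ∈ V := fun c hc x =>
    and_congr ⟨fun _ => (c x).2, fun _ => x.2⟩ (autGroup_mem_iff_of_stronglyClosed hscU hPS hc x)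
  set X := F.autGroup P with hX
  let K : Subgroup X :=
    { carrier := {c | (c : MulAut P) ∈ moveSub P V ∧ ∃ b ∈ D.autGroup V, Restr hVP (c : MulAut P) b}
      one_mem' := ⟨one_mem _, 1, one_mem _, Restr.one⟩
      mul_mem' := fun {c d} ⟨hc, b, hb, hbr⟩ ⟨hd, b', hb', hbr'⟩ =>
        ⟨mul_mem hc hd, b * b', mul_mem hb hb', hbr.mul hbr'⟩
      inv_mem' := fun {c} ⟨hc, b, hb, hbr⟩ => ⟨inv_mem hc, b⁻¹, inv_mem hb, hbr.inv⟩ }
  haveI hKn : K.Normal := by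
    refine ⟨?_⟩
    rintro c ⟨hc, b, hb, hbr⟩ d
    obtain ⟨e, he, her⟩ := exists_restr hVP hPS d.2 fun x => (hinvV _ d.2 _).1 x.2
    exact ⟨layerStab_conj_mem (fun _ => hinvV _ d.2) (fun _ x => ⟨fun _ => ((d : MulAut P) x).2, fun _ => x.2⟩) hc,
      e * b * e⁻¹, h.autD_conj hD hVU hsplit hb he, (her.mul hbr).mul her.inv⟩
  obtain ⟨R, hR⟩ := (fullyAutomized_of_fullyNormalized h.hS h.hF hPn).2
  set W : Subgroup (MulAut P) := ((R : Subgroup X) ⊓ K).map X.subtype with hWdef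
  have hWS : W ≤ autInducedBy S P := by
    rintro _ ⟨w, hw, rfl⟩
    exact Subgroup.mem_subgroupOf.mp (hR ▸ hw.1)
  have hVn : ∀ u ∈ P, u ∈ Subgroup.normalizer (V : Set Ω) := fun u hu => mem_normalizer_of_conj_mem fun x hx =>
    ⟨P.mul_mem (P.mul_mem hu hx.1) (P.inv_mem hu),
      conj_mem_of_normalizer (stronglyClosed_le_normalizer hscU (hPS hu)) hx.2⟩
  -- elements of `T₁ T₂` normalizing `P`
  have hcW : ∀ t ∈ T₁ ⊔ T₂, ∀ ht : t ∈ Subgroup.normalizer (P : Set Ω),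
      P.normalizerMonoidHom ⟨t, ht⟩ ∈ W := by
    intro t htU ht
    have htS := hscU.1 htU
    have hτS : P.normalizerMonoidHom ⟨t, ht⟩ ∈ autInducedBy S P :=
      mem_autInducedBy.2 ⟨t, htS, fun _ => rfl⟩
    have hτF := autInducedBy_le_autGroup F hPS hτS
    refine ⟨⟨_, hτF⟩, ⟨hR ▸ Subgroup.mem_subgroupOf.mpr hτS, mem_moveSub (hinvV _ hτF) fun x => ?_, ?_⟩, rfl⟩
    · refine ⟨P.mul_mem (P.inv_mem x.2) (SetLike.coe_mem _), ?_⟩
      rw [normalizerMonoidHom_coe]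
      have h1 := mul_mem (conj_inv_mem_of_normalizer (stronglyClosed_le_normalizer hscU (hPS x.2)) htU)
        ((T₁ ⊔ T₂).inv_mem htU)
      simpa [mul_assoc] using h1
    · have hVt : t ∈ Subgroup.normalizer (V : Set Ω) := mem_normalizer_of_conj_mem fun x hx =>
        ⟨conj_mem_of_normalizer ht hx.1, mul_mem (mul_mem htU hx.2) ((T₁ ⊔ T₂).inv_mem htU)⟩
      exact ⟨V.normalizerMonoidHom ⟨t, hVt⟩,
        autInducedBy_le_autGroup D hVU (mem_autInducedBy.2 ⟨t, htU, fun _ => rfl⟩), fun _ => rfl⟩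
  set W' := W ⊔ Inn P with hW'
  have hW'S : W' ≤ autInducedBy S P := sup_le hWS (inn_le_autInducedBy hPS)
  have hPW : P ≤ FusionP3.Induction.preimageAut S P W' := FusionP3.Induction.le_preimageAut hPS le_sup_right
  have hbig : Nat.card P < Nat.card (FusionP3.Induction.preimageAut S P W') := by
    haveI := finite_sub ((FusionP3.Induction.preimageAut_le P W').trans (normalizerIn_le (S := S) P))
    have hnormU : ∀ u ∈ P, ∀ t ∈ T₁ ⊔ T₂, u * t * u⁻¹ ∈ T₁ ⊔ T₂ := fun u hu t ht =>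
      conj_mem_of_normalizer (stronglyClosed_le_normalizer hscU (hPS hu)) ht
    have hXS : P ⊔ (T₁ ⊔ T₂) ≤ S := sup_le hPS hscU.1
    haveI := finite_sub hXS
    obtain ⟨g, hg, hgP⟩ := SetLike.exists_of_lt
      (FusionP3.Induction.lt_normalizerIn (isPGroup_of_le h.hS hXS) (left_lt_sup.2 hUP))
    obtain ⟨u, hu, t, ht, rfl⟩ := FusionP3.StronglyClosed.exists_mul_of_mem_sup hnormU hg.1
    have htN : t ∈ Subgroup.normalizer (P : Set Ω) :=
      (Subgroup.mul_mem_cancel_left _ (Subgroup.le_normalizer hu)).mp hg.2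
    refine lt_of_not_ge fun hh => hgP ?_
    rw [Subgroup.eq_of_le_of_card_ge hPW hh]
    exact mul_mem (hPW hu) ⟨⟨hscU.1 ht, htN⟩, _, Subgroup.mem_sup_left (hcW t ht htN), fun _ => rfl⟩
  have htop := FusionP3.StronglyClosed.normalizer_inf_sup_eq_top R K
  obtain ⟨n, hn, k, hk, hnk⟩ := Subgroup.mem_sup_of_normal_right.mp
    (show (⟨a, ha⟩ : X) ∈ Subgroup.normalizer (((R : Subgroup X) ⊓ K : Subgroup X) : Set X) ⊔ K by
      rw [htop]; exact Subgroup.mem_top _)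
  have hnW : W' ≤ W'.comap (MulAut.conj (n : MulAut P)).toMonoidHom := by
    refine sup_le ?_ ?_
    · rintro _ ⟨w, hw, rfl⟩
      exact Subgroup.mem_sup_left ⟨n * w * n⁻¹, (Subgroup.mem_normalizer_iff.mp hn w).mp hw, rfl⟩
    · rintro _ ⟨v, rfl⟩
      refine Subgroup.mem_sup_right ⟨(n : MulAut P) v, ?_⟩
      ext x
      simp [MulAut.mul_apply, MulAut.conj_apply]
  obtain ⟨ψ, hψ, hψe⟩ := FusionP3.Induction.exists_extend_preimage
    (receptive_of_fullyNormalized h.hS h.hF hPn) hW'S n.2 fun w hw => hnW hw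
  have hn' : Dec G D ((P.subtype.comp (n : MulAut P).toMonoidHom).comp (Subgroup.inclusion hVP)) :=
    (big _ hbig ψ hψ V hVU (hVP.trans hPW)).congr fun x => (hψe x (hVP x.2) (hPW (hVP x.2))).symm
  obtain ⟨-, b, hb, hbr⟩ := hk
  obtain ⟨β, hβ, -, hβe⟩ := exists_hom_of_aut hVU hb
  refine Dec.comp hinvD (Dec.of_mem hβ) hn' (fun x => by rw [hβe]; exact (b x).2) fun x => ?_
  have e1 : (k : MulAut P) (Subgroup.inclusion hVP x) = Subgroup.inclusion hVP ⟨β x, by rw [hβe]; exact (b x).2⟩ :=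
    Subtype.ext ((hbr x).trans (hβe x).symm)
  have e2 := congrArg (fun w : X => ((w.1 (Subgroup.inclusion hVP x) : P) : Ω)) hnk
  simp only [Subgroup.coe_mul, MulAut.mul_apply, e1] at e2
  exact e2.symm

end Comm

end Cfsg.Agent.Lib.FS.Inter
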