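import Cfsg.Agent.Lib.FusionSystem.Inter.PairFrattini

/-!
The central product of two commuting normal subsystems is normal.
-/

set_option autoImplicit false
set_option linter.style.haveILetI false
set_option linter.unusedSectionVars false

namespace Cfsg.Agent.Lib.FS.Inter

open Cfsg Cfsg.FusionSystem Cfsg.Agent.Lib Cfsg.Agent.Lib.FS Cfsg.Agent.Lib.FS.NormalCentralizer
open Cfsg.Agent.Lib.FS.CentralLift (Restr)
open Cfsg.Agent.Lib.FusionP3.Prime (img img_le Inv Dec)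
open Cfsg.Agent.Lib.FS.Fitting (centralProduct_isSaturated)

variable {Ω : Type*} [Group Ω] {S T T₁ T₂ : Subgroup Ω} [Finite S] {p : ℕ} [hp : Fact p.Prime]
  {F : FusionSystem S} {E : FusionSystem T} {E₁ : FusionSystem T₁} {E₂ : FusionSystem T₂}

omit [Finite S] hp in
/-- Maps fix the centre of their system. -/
theorem fix_of_le_center [Finite T] {A : Subgroup Ω} (hA : A ≤ E.center) {P : Subgroup Ω} {φ : P →* Ω}
    (hφ : φ ∈ E.Hom P) {x : P} (hx : (x : Ω) ∈ A) : φ x = x := by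
  obtain ⟨ψ, -, h1, h2⟩ := (FusionAlperin.Join.isCentral_center E).2 P φ hφ
  rw [← h1 x]
  exact (congrArg ψ (Subtype.ext rfl : Subgroup.inclusion le_sup_left x =
    Subgroup.inclusion le_sup_right (⟨x, hA hx⟩ : E.center))).trans (h2 ⟨x, hA hx⟩)

/-- Lifts to `T₁ T₂` of automorphisms of `T₁`. -/
def Lift₁ (F : FusionSystem S) (T₁ T₂ : Subgroup Ω) (γ : MulAut T₁) : Prop :=
  ∃ e : MulAut ↥(T₁ ⊔ T₂), MV F (T₁ ⊔ T₂) (T₁ ⊔ T₂) e ∧ Restr le_sup_left e γ ∧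
    Restr le_sup_right e (1 : MulAut T₂)

namespace Comm

variable (h : Comm F E₁ E₂ p)
include h

/-- Existence of the central product. -/
theorem exists_product : ∃ D : FusionSystem (T₁ ⊔ T₂), IsCentralProductOf E₁ E₂ D := by
  haveI := finite_sub h.sc₁.1
  haveI := finite_sub h.sc₂.1
  haveI : Finite ↥(T₁.prod T₂) := finite_prod
  have hp₁ := isPGroup_of_le h.hS h.sc₁.1
  have hp₂ := isPGroup_of_le h.hS h.sc₂.1
  obtain ⟨D₀, hD₀⟩ := exists_productSystem E₁ E₂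
  have hD₀s := product_isSaturated hp₁ hp₂ h.h₁.1.1 h.h₂.1.1 hD₀
  let θ : ↥(T₁.prod T₂) →* Ω :=
    { toFun := fun s => (s : Ω × Ω).1 * (s : Ω × Ω).2
      map_one' := one_mul 1
      map_mul' := fun s t => by
        show (s : Ω × Ω).1 * (t : Ω × Ω).1 * ((s : Ω × Ω).2 * (t : Ω × Ω).2) = _
        rw [mul_assoc, ← mul_assoc (t : Ω × Ω).1, h.comm _ t.2.1 _ s.2.2]
        simp only [mul_assoc] }
  set Z := θ.ker.map (T₁.prod T₂).subtype with hZdef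
  have hkerZ : ∀ s : ↥(T₁.prod T₂), θ s = 1 ↔ (s : Ω × Ω) ∈ Z := fun s =>
    ⟨fun hs => ⟨s, hs, rfl⟩, fun ⟨t, ht, he⟩ => by rw [← Subtype.ext he]; exact ht⟩
  have hZ₁ : ∀ z ∈ Z, z.1 ∈ T₁ ⊓ T₂ ∧ z.2 ∈ T₁ ⊓ T₂ := by
    rintro _ ⟨⟨⟨a, b⟩, ha, hb⟩, ht, rfl⟩
    have h1 : a * b = 1 := ht
    show a ∈ T₁ ⊓ T₂ ∧ b ∈ T₁ ⊓ T₂
    refine ⟨⟨ha, ?_⟩, ⟨?_, hb⟩⟩
    · rw [eq_inv_of_mul_eq_one_left h1]; exact T₂.inv_mem hb
    · rw [eq_inv_of_mul_eq_one_right h1]; exact T₁.inv_mem ha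
  have hZc : D₀.IsCentral Z := by
    refine (isCentral_iff (isPGroup_prod hp₁ hp₂) hD₀s).2 ⟨Subgroup.map_subtype_le _, fun z hz y hy => ?_⟩
    obtain ⟨φ, hφ, rfl⟩ := hy
    obtain ⟨-, φ₁, h1, φ₂, h2, rfl⟩ := (product_mem_iff hD₀).1 hφ
    exact Prod.ext (h.fix₁ _ _ h1 ⟨z.1, fst_mem (Subgroup.mem_zpowers z)⟩ (hZ₁ z hz).1.2)
      (h.fix₂ _ _ h2 ⟨z.2, snd_mem (Subgroup.mem_zpowers z)⟩ (hZ₁ z hz).2.1)
  have hZsc : D₀.StronglyClosed Z := by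
    refine ⟨hZc.1, fun R hR φ hφ x => ?_⟩
    obtain ⟨ψ, -, h1, h2⟩ := hZc.2 R φ hφ
    rw [← h1 x]
    exact (congrArg (· ∈ Z) ((congrArg ψ (Subtype.ext rfl : Subgroup.inclusion le_sup_left x =
      Subgroup.inclusion le_sup_right (⟨x, hR x.2⟩ : Z))).trans (h2 ⟨x, hR x.2⟩))).mpr (hR x.2)
  have hr : θ.range = T₁ ⊔ T₂ := by
    ext x
    constructor
    · rintro ⟨s, rfl⟩; exact Subgroup.mul_mem_sup s.2.1 s.2.2
    · intro hx
      obtain ⟨a, ha, b, hb, rfl⟩ := exists_split h.comm hx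
      exact ⟨⟨(a, b), ha, hb⟩, rfl⟩
  obtain ⟨D, hD⟩ := exists_factorSystem hZsc θ hkerZ hr
  refine ⟨D, D₀, hD₀, Z, θ, le_sSup hZc, ?_, ?_, fun x hx => mul_one x, fun y hy => one_mul y, hD⟩
  · refine le_bot_iff.1 ?_
    rintro ⟨a, b⟩ ⟨hz, -, hb⟩
    obtain rfl : b = 1 := Subgroup.mem_bot.1 hb
    have h1 : a * 1 = 1 := (hkerZ ⟨(a, 1), (Subgroup.map_subtype_le _ : Z ≤ _) hz⟩).2 hz
    rw [mul_one] at h1
    exact Subgroup.mem_bot.2 (Prod.ext h1 rfl)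
  · refine le_bot_iff.1 ?_
    rintro ⟨a, b⟩ ⟨hz, ha, -⟩
    obtain rfl : a = 1 := Subgroup.mem_bot.1 ha
    have h1 : 1 * b = 1 := (hkerZ ⟨(1, b), (Subgroup.map_subtype_le _ : Z ≤ _) hz⟩).2 hz
    rw [one_mul] at h1
    exact Subgroup.mem_bot.2 (Prod.ext rfl h1)

/-- Every automorphism in `E₁` of `T₁` lifts. -/
theorem lift₁ {γ : MulAut T₁} (hγ : γ ∈ E₁.autGroup T₁) : Lift₁ F T₁ T₂ γ := by
  have hscU := h.scU
  haveI := finite_sub hscU.1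
  haveI := finite_sub h.sc₁.1
  have hT₁p := isPGroup_of_le h.hS h.sc₁.1
  let L : Subgroup (MulAut T₁) :=
    { carrier := {γ | Lift₁ F T₁ T₂ γ}
      one_mem' := ⟨1, MV.one hscU hscU.1, Restr.one, Restr.one⟩
      mul_mem' := fun {a b} ⟨e, he, he₁, he₂⟩ ⟨f, hf, hf₁, hf₂⟩ =>
        ⟨e * f, he.mul hf, he₁.mul hf₁, by simpa using he₂.mul hf₂⟩
      inv_mem' := fun {a} ⟨e, he, he₁, he₂⟩ =>
        ⟨e⁻¹, (mvSub hscU hscU.1).inv_mem he, he₁.inv, by simpa using he₂.inv⟩ }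
  have hfn : E₁.IsFullyNormalized T₁ := ⟨le_rfl, fun Q ⟨φ, hφ, hQ⟩ => by
    rw [← hQ, range_eq_of_mem hφ (fun x => apply_mem hφ x) le_rfl]⟩
  refine (FusionP3.Prime.PPower.autGroup_le_sup' E₁ (fullyAutomized_of_fullyNormalized hT₁p h.h₁.1.1 hfn)
    (K := L) (fun b hb hcop => ?_) ?_) hγ
  swap
  · intro b hb
    obtain ⟨g, hg, hge⟩ := mem_autInducedBy.1 hb
    have hgN : g ∈ Subgroup.normalizer ((T₁ ⊔ T₂ : Subgroup Ω) : Set Ω) :=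
      Subgroup.le_normalizer (Subgroup.mem_sup_left hg)
    refine ⟨(T₁ ⊔ T₂).normalizerMonoidHom ⟨g, hgN⟩,
      MV.conj hscU hscU.1 (Subgroup.mem_sup_left hg) fun _ => rfl, fun x => (hge x).symm, fun y => ?_⟩
    show g * (y : Ω) * g⁻¹ = y
    rw [h.comm g hg y y.2, mul_inv_cancel_right]
  obtain ⟨β, hβ, hβe, hβc⟩ := h.h₁.2 b hb
  have hH₁S : T₁ ⊔ centralizerIn S T₁ ≤ S := hull_le h.sc₁.1
  obtain ⟨φ, hφ, -, hφe⟩ := exists_hom_of_aut hH₁S hβ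
  have hC : centralizerIn S (T₁ ⊔ T₂) ≤ centralizerIn S T₁ := centralizerIn_anti le_sup_left
  have hle : (T₁ ⊔ T₂) ⊔ centralizerIn S (T₁ ⊔ T₂) ≤ T₁ ⊔ centralizerIn S T₁ :=
    sup_le (sup_le_sup_left h.le_cent₂ T₁) (hC.trans le_sup_right)
  set H := (T₁ ⊔ T₂) ⊔ centralizerIn S (T₁ ⊔ T₂) with hH
  obtain ⟨φ', hφ', hφ'e⟩ := exists_restrict hφ hle
  have hHS : H ≤ S := hull_le hscU.1
  haveI := finite_sub hHS
  have hmove : ∀ w : H, (w : Ω) ∈ centralizerIn S T₁ → (w : Ω)⁻¹ * φ' w ∈ T₁ := fun w hw => by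
    rw [hφ'e, hφe]
    exact (hβc ⟨w, hle w.2⟩ hw).1
  obtain ⟨B, hB, hBe⟩ := exists_aut hφ' (mapsTo_of_sup
    (fun x => Subgroup.mem_sup_left (stronglyClosed_apply_mem hscU hφ' x.2))
    (fun c => by
      have h1 := H.mul_mem (Subgroup.mem_sup_right (S := T₁ ⊔ T₂) c.2)
        (Subgroup.mem_sup_left (T := centralizerIn S (T₁ ⊔ T₂))
          (Subgroup.mem_sup_left (T := T₂) (hmove (Subgroup.inclusion le_sup_right c) (hC c.2))))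
      rwa [show ((Subgroup.inclusion le_sup_right c : H) : Ω) = (c : Ω) from rfl, mul_inv_cancel_left] at h1))
  have hleT₁ : T₁ ≤ H := le_sup_left.trans le_sup_left
  have hBb : Restr hleT₁ B b := fun x => (hBe _).trans ((hφ'e _).trans ((hφe _).trans (hβe x)))
  have hord : ¬ p ∣ orderOf b := (hp.out.coprime_iff_not_dvd).1 hcop.symm
  obtain ⟨n, hn, hnord⟩ := exists_pow_prime_to (x := B) hord
  have hBnb : Restr hleT₁ (B ^ n) b := hn ▸ hBb.pow n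
  obtain ⟨σ, hσ, -, hσe⟩ := exists_hom_of_aut hHS (pow_mem hB n)
  have hσ1 : ∀ x : ↥(T₁ ⊔ T₂), σ (Subgroup.inclusion le_sup_left x) ∈ T₁ ⊔ T₂ := fun x =>
    stronglyClosed_apply_mem hscU hσ x.2
  obtain ⟨σU, hσU, hσUe⟩ := exists_restrict hσ (le_sup_left : T₁ ⊔ T₂ ≤ H)
  obtain ⟨e, he, hee⟩ := exists_aut hσU fun x => by rw [hσUe]; exact hσ1 x
  obtain ⟨bh, hbh, -, hbhe⟩ := exists_hom_of_aut le_rfl hb
  refine ⟨e, ⟨σ, hσ, fun x => ((hee x).trans (hσUe x)).symm, fun c => ?_⟩,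
    fun x => (hee _).trans ((hσUe _).trans ((hσe _).trans (hBnb x))), fun t => ?_⟩
  · have key : ∀ i : ℕ, (c : Ω)⁻¹ * (((B ^ i) (Subgroup.inclusion le_sup_right c) : H) : Ω) ∈ T₁ ⊔ T₂ := by
      intro i
      induction i with
      | zero => rw [pow_zero]; simp
      | succ i ih =>
        set cX : H := Subgroup.inclusion le_sup_right c with hcX
        set u : H := cX⁻¹ * (B ^ i) cX with hu
        have h1 : (B ^ (i + 1)) cX = B cX * B u := by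
          rw [pow_succ', MulAut.mul_apply, ← map_mul, hu, mul_inv_cancel_left]
        rw [h1, Subgroup.coe_mul, ← mul_assoc, hBe, hBe]
        exact mul_mem (Subgroup.mem_sup_left (hmove cX (hC c.2))) (stronglyClosed_apply_mem hscU hφ' ih)
    rw [hσe]
    exact key n
  · refine ((hee _).trans ((hσUe _).trans (hσe _))).trans ?_
    set tX : H := Subgroup.inclusion le_sup_left (Subgroup.inclusion (le_sup_right : T₂ ≤ T₁ ⊔ T₂) t) with htX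
    set z : H := tX⁻¹ * B tX with hzdef
    have hzA : (z : Ω) ∈ T₁ ⊓ T₂ := by
      show (t : Ω)⁻¹ * ((B tX : H) : Ω) ∈ T₁ ⊓ T₂
      rw [hBe]
      exact ⟨hmove tX (h.le_cent₂ t.2), T₂.mul_mem (T₂.inv_mem t.2) (stronglyClosed_apply_mem h.sc₂ hφ' t.2)⟩
    have h0 : B z = z := by
      refine Subtype.ext ((restr_apply hBb hzA.1).trans ?_)
      rw [← hbhe]
      exact h.fix₁ _ bh hbh _ hzA.2
    have h1 : B tX = tX * z := (mul_inv_cancel_left _ _).symm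
    have hpow : ∀ i : ℕ, (B ^ i) tX = tX * z ^ i := by
      intro i
      induction i with
      | zero => simp
      | succ i ih => rw [pow_succ', MulAut.mul_apply, ih, map_mul, map_pow, h0, h1, mul_assoc, ← pow_succ']
    have h2 := hpow (n * orderOf (B ^ n))
    rw [pow_mul B, pow_orderOf_eq_one, MulAut.one_apply, pow_mul] at h2
    have h3 : (z ^ n) ^ orderOf (B ^ n) = 1 := mul_eq_left.1 h2.symm
    obtain ⟨k, hk⟩ := (isPGroup_of_le h.hS hHS) z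
    have h4 := mem_zpowers_pow (show (z ^ n) ^ p ^ k = 1 by rw [← pow_mul, mul_comm, pow_mul, hk, one_pow]) hnord
    rw [h3, Subgroup.zpowers_one_eq_bot, Subgroup.mem_bot] at h4
    show (((B ^ n) tX : H) : Ω) = _
    rw [hpow n, h4, mul_one]
    rfl

/-- The central product is normal. -/
theorem product_isNormalIn {D : FusionSystem (T₁ ⊔ T₂)} (hD : IsCentralProductOf E₁ E₂ D) :
    D.IsNormalIn F p := by
  haveI := finite_sub h.sc₁.1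
  haveI := finite_sub h.sc₂.1
  have hscU := h.scU
  haveI := finite_sub hscU.1
  have hiff := centralProduct_iff hD
  refine ⟨⟨centralProduct_isSaturated (isPGroup_of_le h.hS h.sc₁.1) (isPGroup_of_le h.hS h.sc₂.1) h.h₁.1.1 h.h₂.1.1
    hD, h.hF, fun P φ hφ => h.pair_mem ((hiff P φ).1 hφ), hscU, fun P hP φ hφ α hα => h.inv hiff hα P hP φ hφ,
    fun P hP φ hφ => h.frattini hiff hP hφ⟩, fun δ hδ => ?_⟩
  obtain ⟨φ, hφ, -, hφe⟩ := exists_hom_of_aut le_rfl hδ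
  obtain ⟨-, P₁, P₂, φ₁, φ₂, h1, h2, he⟩ := (hiff _ φ).1 hφ
  have hP₁ : T₁ ≤ P₁ := fun a ha =>
    (he ⟨a, Subgroup.mem_sup_left ha⟩ a 1 ha T₂.one_mem (mul_one a).symm).1
  have hP₂ : T₂ ≤ P₂ := fun b hb =>
    (he ⟨b, Subgroup.mem_sup_right hb⟩ 1 b T₁.one_mem hb (one_mul b).symm).2.1
  obtain ⟨f₁, hf₁, hf₁e⟩ := exists_restrict h1 hP₁
  obtain ⟨f₂, hf₂, hf₂e⟩ := exists_restrict h2 hP₂
  obtain ⟨γ₁, hγ₁, hγ₁e⟩ := exists_aut hf₁ (apply_mem hf₁)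
  obtain ⟨γ₂, hγ₂, hγ₂e⟩ := exists_aut hf₂ (apply_mem hf₂)
  obtain ⟨e₁, hm₁, ha₁, hb₁⟩ := h.lift₁ hγ₁
  have hmv : MV F (T₁ ⊔ T₂) (T₁ ⊔ T₂) δ := by
    have h2' := h.swap.lift₁ hγ₂
    obtain ⟨e₂, hm₂, hb₂, ha₂⟩ : ∃ e : MulAut ↥(T₁ ⊔ T₂), MV F (T₁ ⊔ T₂) (T₁ ⊔ T₂) e ∧
        Restr le_sup_right e γ₂ ∧ Restr le_sup_left e (1 : MulAut T₁) := by
      have key : ∀ U : Subgroup Ω, U = T₂ ⊔ T₁ → ∀ (hl : T₂ ≤ U) (hr : T₁ ≤ U), ∃ e : MulAut U,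
          MV F U U e ∧ Restr hl e γ₂ ∧ Restr hr e (1 : MulAut T₁) := by
        rintro _ rfl hl hr; exact h2'
      exact key _ (sup_comm _ _) le_sup_right le_sup_left
    have heq : δ = e₁ * e₂ := by
      refine MulEquiv.ext fun x => Subtype.ext ?_
      obtain ⟨a, ha, b, hb, hab⟩ := exists_split h.comm x.2
      obtain ⟨haP, hbP, hx⟩ := he x a b ha hb hab
      rw [← hφe, hx, show x = Subgroup.inclusion le_sup_left ⟨a, ha⟩ * Subgroup.inclusion le_sup_right ⟨b, hb⟩ from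
        Subtype.ext hab, map_mul, Subgroup.coe_mul, MulAut.mul_apply, MulAut.mul_apply]
      refine congrArg₂ (· * ·) ?_ ?_
      · rw [show e₂ (Subgroup.inclusion le_sup_left ⟨a, ha⟩) = Subgroup.inclusion le_sup_left ⟨a, ha⟩ from
          Subtype.ext (ha₂ ⟨a, ha⟩), ha₁, hγ₁e, hf₁e]
      · rw [show e₂ (Subgroup.inclusion le_sup_right ⟨b, hb⟩) = Subgroup.inclusion le_sup_right (γ₂ ⟨b, hb⟩) from
          Subtype.ext (hb₂ ⟨b, hb⟩), hb₁]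
        show φ₂ ⟨b, hbP⟩ = ((γ₂ ⟨b, hb⟩ : T₂) : Ω)
        rw [hγ₂e, hf₂e]
    rw [heq]
    exact hm₁.mul hm₂
  obtain ⟨M, hM, hM1, hM2⟩ := hmv
  haveI := finite_sub (hull_le hscU.1)
  have hMc : ∀ c : centralizerIn S (T₁ ⊔ T₂), M (Subgroup.inclusion le_sup_right c) ∈ centralizerIn S (T₁ ⊔ T₂) :=
    fun c => apply_centralizer_mem hM (fun y hy => ⟨δ⁻¹ ⟨y, hy⟩, by rw [hM1, MulAut.apply_inv_self]⟩) c
  obtain ⟨β, hβ, hβe⟩ := exists_aut hM (mapsTo_of_sup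
    (fun x => by rw [hM1]; exact Subgroup.mem_sup_left (δ x).2)
    (fun c => Subgroup.mem_sup_right (hMc c)))
  refine ⟨β, hβ, fun x => (hβe _).trans (hM1 x), fun c hc => ?_⟩
  rw [hβe, show c = Subgroup.inclusion le_sup_right ⟨(c : Ω), hc⟩ from Subtype.ext rfl]
  exact ⟨hM2 ⟨c, hc⟩,
    ((centralizerIn S _).mul_mem ((centralizerIn S _).inv_mem hc) (hMc ⟨c, hc⟩)).2⟩

end Comm

/-- Commuting normal subsystems: a normal subsystem over the product of the bases. -/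
theorem exists_normal_sup (hS : IsPGroup p S) (h₁ : E₁.IsNormalIn F p) (h₂ : E₂.IsNormalIn F p)
    (hcomm : ∀ a ∈ T₁, ∀ b ∈ T₂, a * b = b * a) :
    ∃ D : FusionSystem (T₁ ⊔ T₂), D.IsNormalIn F p ∧
      (T₁ ⊓ T₂ ≤ E₁.center → T₁ ⊓ T₂ ≤ E₂.center → IsCentralProductOf E₁ E₂ D) := by
  haveI := finite_sub h₁.1.2.2.2.1.1
  haveI := finite_sub h₂.1.2.2.2.1.1
  by_cases hcen : T₁ ⊓ T₂ ≤ E₁.center ∧ T₁ ⊓ T₂ ≤ E₂.center
  · have h : Comm F E₁ E₂ p := ⟨hS, h₁, h₂, hcomm,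
      fun P φ hφ x hx => fix_of_le_center hcen.1 hφ ⟨src_le hφ x.2, hx⟩,
      fun P φ hφ x hx => fix_of_le_center hcen.2 hφ ⟨hx, src_le hφ x.2⟩⟩
    obtain ⟨D, hD⟩ := h.exists_product
    exact ⟨D, h.product_isNormalIn hD, fun _ _ => hD⟩
  have hF := h₁.1.2.1
  have hscA : F.StronglyClosed (T₁ ⊓ T₂) :=
    ⟨inf_le_left.trans h₁.1.2.2.2.1.1, fun R hR φ hφ x =>
      ⟨stronglyClosed_apply_mem h₁.1.2.2.2.1 hφ (hR x.2).1, stronglyClosed_apply_mem h₂.1.2.2.2.1 hφ (hR x.2).2⟩⟩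
  haveI : IsMulCommutative ↥(T₁ ⊓ T₂) := ⟨⟨fun a b => Subtype.ext (hcomm a a.2.1 b b.2.2)⟩⟩
  obtain ⟨C, hC, hCn⟩ := exists_centralizer_normal hS hF (isNormal_of_abelian hS hF hscA)
  have hle₁ : T₁ ≤ centralizerIn S (T₁ ⊓ T₂) := fun a ha =>
    mem_centralizerIn.2 ⟨h₁.1.2.2.2.1.1 ha, fun x hx => (hcomm a ha x hx.2).symm⟩
  have hle₂ : T₂ ≤ centralizerIn S (T₁ ⊓ T₂) := fun b hb =>
    mem_centralizerIn.2 ⟨h₂.1.2.2.2.1.1 hb, fun x hx => hcomm x hx.1 b hb⟩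
  have red : ∀ {V : Subgroup Ω} (E : FusionSystem V), E.IsNormalIn F p → V ≤ centralizerIn S (T₁ ⊓ T₂) →
      ∃ W : FusionSystem V, W.IsNormalIn F p ∧
        ∀ (P : Subgroup Ω) (φ : P →* Ω), φ ∈ W.Hom P → ∀ x : P, (x : Ω) ∈ T₁ ⊓ T₂ → φ x = x := by
    intro V E hE hV
    obtain ⟨W, ⟨hW, -, hWC⟩, -⟩ := exists_inter hS hE hCn
    have key : ∀ V', V' = V → ∀ W' : FusionSystem V', W'.IsNormalIn F p → W'.IsSubsystemOf C →
        ∃ W : FusionSystem V, W.IsNormalIn F p ∧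
          ∀ (P : Subgroup Ω) (φ : P →* Ω), φ ∈ W.Hom P → ∀ x : P, (x : Ω) ∈ T₁ ⊓ T₂ → φ x = x := by
      rintro _ rfl W' hW' hsub
      refine ⟨W', hW', fun P φ hφ x hx => ?_⟩
      obtain ⟨-, -, -, ψ, -, h1, h2⟩ := (hC P).le (hsub P hφ)
      rw [← h1 x]
      exact (congrArg ψ (Subtype.ext rfl : Subgroup.inclusion le_sup_left x =
        Subgroup.inclusion le_sup_right (⟨x, hx⟩ : ↥(T₁ ⊓ T₂)))).trans (h2 ⟨x, hx⟩)
    exact key _ (inf_eq_left.2 hV) W hW hWC.1.2.2.1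
  obtain ⟨W₁, hW₁, hW₁f⟩ := red E₁ h₁ hle₁
  obtain ⟨W₂, hW₂, hW₂f⟩ := red E₂ h₂ hle₂
  have h : Comm F W₁ W₂ p := ⟨hS, hW₁, hW₂, hcomm,
    fun P φ hφ x hx => hW₁f P φ hφ x ⟨src_le hφ x.2, hx⟩,
    fun P φ hφ x hx => hW₂f P φ hφ x ⟨hx, src_le hφ x.2⟩⟩
  obtain ⟨D, hD⟩ := h.exists_product
  exact ⟨D, h.product_isNormalIn hD, fun a b => absurd ⟨a, b⟩ hcen⟩

end Cfsg.Agent.Lib.FS.Inter
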