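import Cfsg.Agent.Lib.FusionSystem.Inter.Trans
import Cfsg.Agent.Lib.FusionP3.Criterion.Main

/-!
The generated system is saturated and weakly normal in `F` and in both normal subsystems.
-/

set_option autoImplicit false
set_option linter.style.haveILetI false
set_option linter.unusedSectionVars false

namespace Cfsg.Agent.Lib.FS.Inter

open Cfsg Cfsg.FusionSystem Cfsg.Agent.Lib Cfsg.Agent.Lib.FS Cfsg.Agent.Lib.FS.NormalCentralizer
open Cfsg.Agent.Lib.FusionP3.Prime (img img_le autRes autRes_range apply_mem_img mem_img Inv Dec)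
open Cfsg.Agent.Lib.FusionP3.Induction (preimageAut)
open Cfsg.Agent.Lib.FS.CentralLift (Restr congr_apply_map congr_inv)

variable {Ω : Type*} [Group Ω] {S T₁ T₂ : Subgroup Ω} [Finite S] {p : ℕ} [hp : Fact p.Prime]
  {F : FusionSystem S} {E₁ : FusionSystem T₁} {E₂ : FusionSystem T₂}

/-- An automorphism of `N_A(Q)` fixing `Q` pointwise moves within cosets of `Q`. -/
theorem fix_le_move {A : Subgroup Ω} (hsc : F.StronglyClosed A) {Q Y : Subgroup Ω}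
    (hC : centralizerIn A Q ≤ Q) (hQY : Q ≤ Y) (hYN : Y ≤ normalizerIn A Q) :
    fixSub Y Q ⊓ F.autGroup Y ≤ moveSub Y Q := by
  intro δ hδ
  have hYS : Y ≤ S := (hYN.trans (normalizerIn_le Q)).trans hsc.1
  refine mem_moveSub (fun x => ⟨fun hx => by rwa [hδ.1 x hx], fun hx => ?_⟩) fun x => ?_
  · have h1 := (fixSub Y Q).inv_mem hδ.1 (δ x) hx
    rw [MulAut.inv_apply_self] at h1
    rwa [← h1] at hx
  · obtain ⟨φ, hφ, -, hφe⟩ := exists_hom_of_aut hYS hδ.2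
    have h1 := agree_mod (Q' := Q) hsc (subtype_mem F hYS) hφ hQY
      (fun q => (hφe _).trans (congrArg Subtype.val (hδ.1 _ q.2)))
      (fun z hz => ⟨⟨z, hz⟩, rfl⟩) hC (hYN x.2)
    rwa [hφe] at h1

variable (h : Setup F E₁ E₂ p)
include h

/-- A `p`-element of `K(N_A(Q))` stabilising a full `Q` restricts into `K(Q)`. -/
theorem restr_mem_kAut {Q : Subgroup Ω} (hQ : Full F (T₁ ⊓ T₂) Q)
    {b : MulAut ↥(normalizerIn (T₁ ⊓ T₂) Q)} (hb : b ∈ kAut F E₁ E₂ p (normalizerIn (T₁ ⊓ T₂) Q)) {e : ℕ}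
    (hbe : b ^ p ^ e = 1) {z : MulAut Q} (hz : Restr (le_normalizerIn hQ.cA.1) b z) :
    z ∈ kAut F E₁ E₂ p Q := by
  haveI := h.finA
  obtain ⟨α, hα, hPn, hMn⟩ := hQ.fn
  have hQA := hQ.cA.1
  have hN : normalizerIn (T₁ ⊓ T₂) Q ≤ T₁ ⊓ T₂ := normalizerIn_le Q
  rw [img_normalizerIn α hQA] at hMn
  revert hMn hPn
  generalize hP : img α Q = P
  intro hPn hMn
  have hPA : P ≤ T₁ ⊓ T₂ := hP ▸ img_le α Q
  have hφ := autRes_memF h.scA.1 hα hQA
  have hr : (autRes α hQA).range = P := (autRes_range α hQA).trans hP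
  have hφN := autRes_memF h.scA.1 hα hN
  have hrN : (autRes α hN).range = normalizerIn (T₁ ⊓ T₂) P := by
    rw [autRes_range, img_normalizerIn α hQA, hP]
  have hPN : P ≤ normalizerIn (T₁ ⊓ T₂) P := le_normalizerIn hPA
  set M := normalizerIn (T₁ ⊓ T₂) P with hM
  set b' := MulAut.congr (homEquiv hφN hrN) b with hb'
  set z' := MulAut.congr (homEquiv hφ hr) z with hz'
  have hb'K : b' ∈ kAut F E₁ E₂ p (normalizerIn (T₁ ⊓ T₂) P) := h.congr_mem_kAut hN hφN hrN hb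
  have hres : Restr hPN b' z' := fun y => by
    obtain ⟨x, rfl⟩ := (homEquiv hφ hr).surjective y
    rw [hz', congr_apply_map,
      show Subgroup.inclusion hPN (homEquiv hφ hr x) =
        homEquiv hφN hrN (Subgroup.inclusion (le_normalizerIn hQA) x) from Subtype.ext rfl,
      hb', congr_apply_map]
    exact congrArg (fun u => ((α u : ↥(T₁ ⊓ T₂)) : Ω)) (Subtype.ext (hz x))
  suffices hz'K : z' ∈ kAut F E₁ E₂ p P by
    obtain ⟨ψ, hψ, hψr, hψl, -⟩ := exists_inv hφ hr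
    have h1 := h.congr_mem_kAut hPA hψ hψr hz'K
    rwa [hz', congr_inv hφ hr hψ hψr hψl] at h1
  clear_value z' b'
  have hPS : P ≤ S := hPn.1
  haveI := finite_sub hPS
  have hMA : M ≤ T₁ ⊓ T₂ := normalizerIn_le P
  have hMS : M ≤ S := hMA.trans h.scA.1
  haveI := finite_sub hMS
  have hb'F : b' ∈ F.autGroup M := h.iAut_le_autF hMA (h.kAut_le_iAut hMA hb'K)
  obtain ⟨bh, hbh, -, hbhe⟩ := exists_hom_of_aut hMS hb'F
  have hz'F : z' ∈ F.autGroup P := mem_autGroup_of_hom (restrict_mem hbh hPN) fun x =>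
    (hres x).symm.trans (hbhe (Subgroup.inclusion hPN x)).symm
  set PA := autInducedBy (T₁ ⊓ T₂) P with hPAdef
  set Mz := F.autGroup P ⊓ Subgroup.normalizer (PA : Set (MulAut P)) with hMz
  have hSle : autInducedBy S P ≤ Mz := fun s hs => by
    refine ⟨autInducedBy_le_autGroup F hPS hs, mem_normalizer_of_conj_mem fun c hc => ?_⟩
    obtain ⟨g, hg, hge⟩ := mem_autInducedBy.1 hs
    obtain ⟨t, ht, hte⟩ := mem_autInducedBy.1 hc
    refine mem_autInducedBy.2 ⟨g * t * g⁻¹,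
      conj_mem_of_normalizer (stronglyClosed_le_normalizer h.scA hg) ht, fun x => ?_⟩
    have h2 : ((s⁻¹ x : P) : Ω) = g⁻¹ * x * g := by
      have h1 := hge (s⁻¹ x)
      rw [MulAut.apply_inv_self] at h1
      rw [h1]; group
    rw [MulAut.mul_apply, MulAut.mul_apply, hge, hte, h2]
    group
  obtain ⟨Sy, hSy⟩ := (fullyAutomized_of_fullyNormalized h.hS h.hF hPn).2
  obtain ⟨SyM, hSyM⟩ := exists_sylow_of_card_ge (A := Mz) hSle (isPGroup_autInducedBy h.hS P) default (by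
    obtain ⟨c, -, hc⟩ := exists_conj_le_sylow Sy hSy
      (T := ((default : Sylow p Mz) : Subgroup Mz).map Mz.subtype)
      ((Subgroup.map_subtype_le _).trans inf_le_left) ((default : Sylow p Mz).2.map _)
    rw [Nat.card_congr ((default : Sylow p Mz).1.equivMapOfInjective Mz.subtype Mz.subtype_injective).toEquiv]
    exact Nat.card_le_card_of_injective (fun t => (⟨c * t * c⁻¹, hc t t.2⟩ : autInducedBy S P))
      fun s t hst => Subtype.ext (mul_left_cancel (mul_right_cancel (congrArg Subtype.val hst))))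
  have hz'N : z' ∈ Subgroup.normalizer (PA : Set (MulAut P)) := mem_normalizer_of_conj_mem fun c hc => by
    obtain ⟨t, ht, hte⟩ := mem_autInducedBy.1 hc
    exact mem_autInducedBy.2 ⟨bh ⟨t, ht, mem_normalizer_of_aut hte⟩,
      stronglyClosed_apply_mem h.scA hbh ht, fun x => conj_aut_eq (g := ⟨t, ht, mem_normalizer_of_aut hte⟩) hPN (fun q => (hbhe _).trans (hres q)) hte x⟩
  have hz'pow : z' ^ p ^ e = 1 := by
    refine MulEquiv.ext fun x => Subtype.ext ?_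
    rw [← hres.pow (p ^ e) x, hb', ← map_pow, hbe, map_one]
    rfl
  obtain ⟨a, ha, haS⟩ := exists_conj_le_sylow SyM hSyM (T := Subgroup.zpowers z')
    (Subgroup.zpowers_le.2 ⟨hz'F, hz'N⟩) (by
      rintro ⟨_, i, rfl⟩
      refine ⟨e, Subtype.ext ?_⟩
      show (z' ^ i) ^ p ^ e = 1
      rw [← zpow_natCast, ← zpow_mul, mul_comm, zpow_mul, zpow_natCast, hz'pow, one_zpow])
  obtain ⟨g, hg, hge⟩ := mem_autInducedBy.1 (haS z' (Subgroup.mem_zpowers z'))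
  obtain ⟨ah, hah, -, hahe⟩ := exists_hom_of_aut hPS ha.1
  have hcA : CentricT F (T₁ ⊓ T₂) P := hP ▸ centricT_congr h.scA hQ.cA (isConj_img h.scA.1 hα hQA)
  have hC := h.centric_self_cen hcA
  obtain ⟨ax, hax, haxe⟩ := extN_of_receptive h.hS h.hF h.scA hPA
    (receptive_of_fullyNormalized h.hS h.hF hPn) hC P le_rfl hPN ah hah a
    (fun q => hahe q) fun c hc => (Subgroup.mem_normalizer_iff.1 ha.2 c).1 hc
  have hres₂ : Restr hPN (ax * b' * ax⁻¹) (a * z' * a⁻¹) := by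
    have hax' : Restr hPN ax a := fun q => (haxe q).trans (hahe q)
    exact (hax'.mul hres).mul hax'.inv
  set b'' := ax * b' * ax⁻¹ with hb''
  have hb''K : b'' ∈ kAut F E₁ E₂ p M := h.kAut_normal hMA hb'K hax
  have hgP : g ∈ Subgroup.normalizer (P : Set Ω) := mem_normalizer_of_aut hge
  have hgM : g ∈ Subgroup.normalizer (M : Set Ω) := mem_normalizer_of_conj_mem fun y hy =>
    ⟨conj_mem_of_normalizer (stronglyClosed_le_normalizer h.scA hg) hy.1,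
      mul_mem (mul_mem hgP hy.2) ((Subgroup.normalizer (P : Set Ω)).inv_mem hgP)⟩
  set κ := M.normalizerMonoidHom ⟨g, hgM⟩ with hκ
  have hκS : κ ∈ autInducedBy S M := mem_autInducedBy.2 ⟨g, hg, fun _ => rfl⟩
  have hCM : centralizerIn S P ≤ Subgroup.normalizer (M : Set Ω) := fun c hc =>
    mem_normalizer_of_conj_mem fun y hy =>
      ⟨conj_mem_of_normalizer (stronglyClosed_le_normalizer h.scA hc.1) hy.1,
        mul_mem (mul_mem (Subgroup.centralizer_le_normalizer _ hc.2) hy.2)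
          ((Subgroup.normalizer (P : Set Ω)).inv_mem (Subgroup.centralizer_le_normalizer _ hc.2))⟩
  set Fx := fixSub M P ⊓ F.autGroup M with hFx
  have hFxp : IsPGroup p Fx :=
    (isPGroup_fix_move h.hS hMS).to_le (le_inf (fix_le_move h.scA hC hPN le_rfl) inf_le_left)
  have hCle : autInducedBy (centralizerIn S P) M ≤ Fx := fun c hc => by
    obtain ⟨t, ht, hte⟩ := mem_autInducedBy.1 hc
    refine ⟨fun x hx => Subtype.ext ((hte x).trans ((mem_centralizerIn'.1 ht).2 x hx)), ?_⟩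
    exact autInducedBy_le_autGroup F hMS (mem_autInducedBy.2 ⟨t, ht.1, hte⟩)
  have hFxeq : autInducedBy (centralizerIn S P) M = Fx :=
    Subgroup.eq_of_le_of_card_ge hCle
      (card_fix_le h.hS h.hF (fullyNormalized_props h.hS h.hF hPn).1 hPN hMn hCM le_rfl hFxp)
  have hd : b'' * κ⁻¹ ∈ Fx := by
    refine ⟨fun x hx => ?_, mul_mem (mul_mem (mul_mem hax hb'F) ((F.autGroup M).inv_mem hax))
      ((F.autGroup M).inv_mem (autInducedBy_le_autGroup F hMS hκS))⟩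
    have h1 := hres₂.mul (restr_conj hPN hgM hgP).inv
    rw [show P.normalizerMonoidHom ⟨g, hgP⟩ = a * z' * a⁻¹ from
      MulEquiv.ext fun y => Subtype.ext (hge y).symm, mul_inv_cancel] at h1
    exact Subtype.ext (restr_apply h1 hx)
  have hb''S : b'' ∈ autInducedBy S M := by
    have h1 := mul_mem (autInducedBy_mono (centralizerIn_le P) (hFxeq.ge hd)) hκS
    rwa [inv_mul_cancel_right] at h1
  obtain ⟨t, ht, hte⟩ := mem_autInducedBy.1 (h.kAut_inf_autS hMA hMn hb''K hb''S)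
  have hfin : a * z' * a⁻¹ ∈ kAut F E₁ E₂ p P :=
    autA_le_kAut hPS (mem_autInducedBy.2 ⟨t, ht, fun x => ((hres₂ x).symm.trans (hte _))⟩)
  have := h.kAut_normal hPA hfin ((F.autGroup P).inv_mem ha.1)
  simpa [mul_assoc] using this

/-- The generated maps on `A` are the elements of `K(A)`. -/
theorem exists_k_of_base {P : Subgroup Ω} {φ : P →* Ω} (hg : WGen F (T₁ ⊓ T₂) (kAut F E₁ E₂ p) φ) :
    ∀ hP : P = T₁ ⊓ T₂, ∃ k ∈ kAut F E₁ E₂ p (T₁ ⊓ T₂),
      ∀ x : P, φ x = ((k ⟨x, hP.le x.2⟩ : ↥(T₁ ⊓ T₂)) : Ω) := by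
  haveI := h.finA
  induction hg with
  | @base P V φ k hV hk hle he =>
    intro hP
    have hVA : V = T₁ ⊓ T₂ := le_antisymm hV.1 (hP.ge.trans hle)
    subst hVA
    exact ⟨k, hk, he⟩
  | @comp P Q φ ψ χ hgφ hgψ hm he ihφ ihψ =>
    intro hP
    subst hP
    have hφ : φ ∈ h.wSys.Hom (T₁ ⊓ T₂) := hgφ
    have hr : φ.range = T₁ ⊓ T₂ := range_eq_of_mem hφ (apply_mem hφ) le_rfl
    have hQ : Q = T₁ ⊓ T₂ :=
      le_antisymm (src_le (show ψ ∈ h.wSys.Hom Q from hgψ)) (hr.ge.trans (by rintro _ ⟨x, rfl⟩; exact hm x))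
    obtain ⟨k₁, hk₁, e₁⟩ := ihφ rfl
    obtain ⟨k₂, hk₂, e₂⟩ := ihψ hQ
    refine ⟨k₂ * k₁, mul_mem hk₂ hk₁, fun x => ?_⟩
    rw [he, e₂, MulAut.mul_apply]
    exact congrArg (fun u => ((k₂ u : ↥(T₁ ⊓ T₂)) : Ω)) (Subtype.ext (e₁ x))

/-- The automorphisms of `A` in the generated system are the elements of `K(A)`. -/
theorem autW_base : h.wSys.autGroup (T₁ ⊓ T₂) = kAut F E₁ E₂ p (T₁ ⊓ T₂) := by
  refine le_antisymm (fun a ha => ?_) (h.kAut_le_w (centricT_self h.scA))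
  obtain ⟨φ, hφ, -, hφe⟩ := exists_hom_of_aut le_rfl ha
  obtain ⟨k, hk, hke⟩ := exists_k_of_base h hφ rfl
  rwa [show a = k from MulEquiv.ext fun x => Subtype.ext ((hφe x).symm.trans (hke x))]

/-- The `p`-elements of the automisers of the generated system lie in `K`. -/
theorem pElt_mem_kAut {R : Subgroup Ω} (hR : CentricT F (T₁ ⊓ T₂) R) {y : MulAut R}
    (hy : y ∈ h.wSys.autGroup R) {e : ℕ} (hye : y ^ p ^ e = 1) : y ∈ kAut F E₁ E₂ p R := by
  haveI := h.finA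
  suffices key : ∀ (d : ℕ) (R : Subgroup Ω), CentricT F (T₁ ⊓ T₂) R →
      Nat.card ↥(T₁ ⊓ T₂) - Nat.card R = d → ∀ y ∈ h.wSys.autGroup R, ∀ e : ℕ, y ^ p ^ e = 1 →
        y ∈ kAut F E₁ E₂ p R from key _ R hR rfl y hy e hye
  intro d
  induction d using Nat.strong_induction_on with
  | _ d ih =>
  intro R hR hd y hy e hye
  haveI := finite_sub hR.1
  rcases hR.1.eq_or_lt with rfl | hlt
  · rwa [autW_base h] at hy
  obtain ⟨Q, ι, hl⟩ := exists_link h hR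
  obtain ⟨g, hg, hgr, -⟩ := hl.onto.exists_hom hl.mem
  obtain ⟨gi, hgi, hgir, hgil, -⟩ := exists_inv hg hgr
  have hQA : Q ≤ T₁ ⊓ T₂ := hl.full.cA.1
  suffices hQK : MulAut.congr (homEquiv hg hgr) y ∈ kAut F E₁ E₂ p Q by
    have h1 := h.congr_mem_kAut hQA (h.w_sub _ hgi) hgir hQK
    rwa [show homEquiv (h.w_sub _ hgi) hgir = homEquiv hgi hgir from rfl,
      congr_inv hg hgr hgi hgir hgil] at h1
  have hcard : Nat.card R < Nat.card ↥(T₁ ⊓ T₂) :=
    lt_of_not_ge fun hle => hlt.ne (Subgroup.eq_of_le_of_card_ge hlt.le hle)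
  have hQc : Nat.card Q = Nat.card R := isConj_card ⟨g, hg, hgr⟩
  have hy' := congr_mem_autGroup hg hgr hy
  have hye' : (MulAut.congr (homEquiv hg hgr) y) ^ p ^ e = 1 := by rw [← map_pow, hye, map_one]
  revert hy' hye'
  generalize MulAut.congr (homEquiv hg hgr) y = y'
  intro hy' hye'
  -- at a full subgroup
  haveI := finite_sub hQA
  haveI := finite_sub (normalizerIn_le (S := T₁ ⊓ T₂) Q)
  obtain ⟨φ, hφ, hφr, hφe⟩ := exists_hom_of_aut hQA hy'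
  have hsub := subtype_mem h.wSys (normalizerIn_le (S := T₁ ⊓ T₂) Q)
  have hl₁ : Link h Q (normalizerIn (T₁ ⊓ T₂) Q).subtype Q :=
    ⟨hsub, hl.full, le_normalizerIn hQA, fun x => x.2, fun z hz => ⟨⟨z, hz⟩, rfl⟩⟩
  obtain ⟨ι₂, hι₂, hι₂e⟩ := exists_restrict hsub
    (le_of_eq (congrArg (normalizerIn (T₁ ⊓ T₂)) hφr))
  have hl₂ : Link h φ.range ι₂ Q :=
    ⟨hι₂, hl.full, le_normalizerIn (range_le_base hφ),
      fun x => (congrArg (· ∈ Q) (hι₂e _)).mpr (hφr.le x.2),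
      fun z hz => ⟨⟨z, hφr.ge hz⟩, hι₂e _⟩⟩
  obtain ⟨v, hv, ho, k, hk, hke⟩ := tr Q hl.full.cA φ hφ Q Q _ ι₂ hl₁ hl₂ φ
    (fun x => (hι₂e ⟨φ x, hl₂.onto.le ⟨x, rfl⟩⟩).symm)
  obtain ⟨a, ha, hae⟩ := exists_aut hv fun x =>
    apply_mem_normalizerIn h.scA (h.w_sub _ hv) ho.le ho.mem ho.surj x.2
  obtain ⟨z, hz, hzr⟩ := exists_restr ho.le (normalizerIn_le Q) ha fun x => by rw [hae]; exact ho.mem x
  have hyz : y' = k * z := MulEquiv.ext fun q => Subtype.ext (by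
    rw [← hφe, hke, MulAut.mul_apply]
    exact congrArg (fun u => ((k u : Q) : Ω)) (Subtype.ext ((hae _).symm.trans (hzr q))))
  have hNlt : Nat.card Q < Nat.card ↥(normalizerIn (T₁ ⊓ T₂) Q) := by
    have hQlt : Q < T₁ ⊓ T₂ := lt_of_le_of_ne hQA fun he => by rw [he] at hQc; omega
    have h1 := FusionP3.Induction.lt_normalizerIn h.pA hQlt
    exact lt_of_not_ge fun hle => h1.ne (Subgroup.eq_of_le_of_card_ge h1.le hle)
  have hNle : Nat.card ↥(normalizerIn (T₁ ⊓ T₂) Q) ≤ Nat.card ↥(T₁ ⊓ T₂) :=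
    Subgroup.card_le_of_le (normalizerIn_le Q)
  obtain ⟨i, m, hm, him⟩ :=
    Nat.exists_eq_pow_mul_and_not_dvd (orderOf_pos a).ne' p hp.out.ne_one
  have ham : (a ^ m) ^ p ^ i = 1 := by rw [← pow_mul, mul_comm, ← him, pow_orderOf_eq_one]
  have hamK := ih _ (by omega) _ (hl.full.cA.mono (le_normalizerIn hQA) (normalizerIn_le Q)) rfl
    (a ^ m) (pow_mem ha m) i ham
  have hzm : z ^ m ∈ kAut F E₁ E₂ p Q := restr_mem_kAut h hl.full hamK ham (hzr.pow m)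
  -- `y'` and `z` agree modulo `K(Q)`
  set K := kAut F E₁ E₂ p Q with hK
  haveI : (K.subgroupOf (F.autGroup Q)).Normal := ⟨fun n hn g =>
    Subgroup.mem_subgroupOf.2 (h.kAut_normal hQA (Subgroup.mem_subgroupOf.1 hn) g.2)⟩
  set f := QuotientGroup.mk' (K.subgroupOf (F.autGroup Q)) with hf
  have hsubF : h.wSys.autGroup Q ≤ F.autGroup Q := autE_le_autF h.w_sub hQA
  have hf1 : ∀ (w : MulAut Q) (hw : w ∈ F.autGroup Q), f ⟨w, hw⟩ = 1 ↔ w ∈ K := fun w hw =>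
    (QuotientGroup.eq_one_iff _).trans Subgroup.mem_subgroupOf
  have hkF : k ∈ F.autGroup Q := h.iAut_le_autF hQA (h.kAut_le_iAut hQA hk)
  have hfy : f ⟨y', hsubF hy'⟩ = f ⟨z, hsubF hz⟩ := by
    rw [show (⟨y', hsubF hy'⟩ : F.autGroup Q) = ⟨k, hkF⟩ * ⟨z, hsubF hz⟩ from Subtype.ext hyz, map_mul,
      (hf1 k hkF).2 hk, one_mul]
  have h1 : (f ⟨y', hsubF hy'⟩) ^ p ^ e = 1 := by
    rw [← map_pow, show (⟨y', hsubF hy'⟩ : F.autGroup Q) ^ p ^ e = 1 from Subtype.ext hye', map_one]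
  have h2 : (f ⟨y', hsubF hy'⟩) ^ m = 1 := by
    rw [hfy, ← map_pow]
    exact (hf1 (z ^ m) (pow_mem (hsubF hz) m)).2 hzm
  refine (hf1 y' (hsubF hy')).1 ?_
  rw [← pow_one (f _), ← ((hp.out.coprime_iff_not_dvd).2 hm).pow_left e]
  exact pow_gcd_eq_one.2 ⟨h1, h2⟩

/-- Full subgroups are fully automised in the generated system. -/
theorem fullyAutomized_w {Q : Subgroup Ω} (hQ : Full F (T₁ ⊓ T₂) Q) :
    h.wSys.IsFullyAutomized p Q := by
  haveI := h.finA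
  haveI := finite_sub hQ.cA.1
  refine ⟨hQ.cA.1, exists_sylow_of_card_ge (autInducedBy_le_autGroup h.wSys hQ.cA.1)
    (isPGroup_autInducedBy h.pA Q) default ?_⟩
  obtain ⟨c, -, hc⟩ := (hQ.rep h).sylow
    (((default : Sylow p (h.wSys.autGroup Q)) : Subgroup (h.wSys.autGroup Q)).map (h.wSys.autGroup Q).subtype)
    (by
      rintro _ ⟨w, hw, rfl⟩
      obtain ⟨i, hi⟩ := (default : Sylow p (h.wSys.autGroup Q)).2 ⟨w, hw⟩
      exact pElt_mem_kAut h hQ.cA w.2 (e := i) (congrArg (fun u => ((u : h.wSys.autGroup Q) : MulAut Q))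
        (congrArg Subtype.val hi :)))
    ((default : Sylow p (h.wSys.autGroup Q)).2.map _)
  rw [Nat.card_congr ((default : Sylow p (h.wSys.autGroup Q)).1.equivMapOfInjective
    (h.wSys.autGroup Q).subtype (h.wSys.autGroup Q).subtype_injective).toEquiv]
  exact Nat.card_le_card_of_injective (fun t => (⟨c * t * c⁻¹, hc t t.2⟩ : autInducedBy (T₁ ⊓ T₂) Q))
    fun s t hst => Subtype.ext (mul_left_cancel (mul_right_cancel (congrArg Subtype.val hst)))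

/-- Full subgroups are receptive in the generated system. -/
theorem receptive_w {Q : Subgroup Ω} (hQ : Full F (T₁ ⊓ T₂) Q) : h.wSys.IsReceptive Q := by
  haveI := h.finA
  refine ⟨hQ.cA.1, fun R φ hφ hr => ?_⟩
  have hRA : R ≤ T₁ ⊓ T₂ := src_le hφ
  have hR : CentricT F (T₁ ⊓ T₂) R := centricT_congr h.scA hQ.cA (isConj_symm ⟨φ, h.w_sub _ hφ, hr⟩)
  haveI := finite_sub hRA
  haveI := finite_sub hQ.cA.1
  obtain ⟨Q₁, ι, hl⟩ := exists_link h hR
  obtain ⟨ι₂, hι₂, hι₂e⟩ := exists_restrict (subtype_mem h.wSys (normalizerIn_le (S := T₁ ⊓ T₂) Q))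
    (le_of_eq (congrArg (normalizerIn (T₁ ⊓ T₂)) hr))
  have hl₂ : Link h φ.range ι₂ Q :=
    ⟨hι₂, hQ, le_normalizerIn (range_le_base hφ),
      fun x => (congrArg (· ∈ Q) (hι₂e _)).mpr (hr.le x.2),
      fun z hz => ⟨⟨z, hr.ge hz⟩, hι₂e _⟩⟩
  obtain ⟨g, hg, hgr, hge⟩ := hl.onto.exists_hom hl.mem
  obtain ⟨gi, hgi, hgir, hgil, -⟩ := exists_inv hg hgr
  obtain ⟨μ, hμ, hμe⟩ := exists_comp hgi hφ fun y => hgir.le ⟨y, rfl⟩
  obtain ⟨v, hv, ho, k, hk, hke⟩ := tr R hR φ hφ Q₁ Q ι ι₂ hl hl₂ μ (fun x => by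
    rw [hμe, hι₂e]
    exact congrArg φ (Subtype.ext ((congrArg gi (Subtype.ext (hge x).symm)).trans (hgil x (hgr.le ⟨x, rfl⟩)))))
  obtain ⟨χ, hχ, hχe⟩ := exists_comp hl.mem hv hl.maps
  set Nφ := extender (T₁ ⊓ T₂) R φ with hNφ
  obtain ⟨χN, hχN, hχNe⟩ := exists_restrict hχ (extender_le_normalizerIn R φ : Nφ ≤ _)
  have hRN : R ≤ Nφ := le_extender hRA (apply_mem hφ)
  have hφk : ∀ (x : R) (hx : χN ⟨x, hRN x.2⟩ ∈ Q), φ x = ((k ⟨_, hx⟩ : Q) : Ω) := fun x hx => by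
    have h1 : μ ⟨_, hl.onto.mem x⟩ = φ x := by
      rw [hμe]
      exact congrArg φ (Subtype.ext ((congrArg gi (Subtype.ext (hge x).symm)).trans (hgil x (hgr.le ⟨x, rfl⟩))))
    rw [← h1, hke]
    exact congrArg (fun u => ((k u : Q) : Ω)) (Subtype.ext ((hχNe ⟨x, hRN x.2⟩).trans (hχe _)).symm)
  have hχR : ∀ x : R, χN ⟨x, hRN x.2⟩ ∈ Q := fun x => by
    rw [hχNe, hχe]; exact ho.mem ⟨_, hl.onto.mem x⟩
  have hχs : ∀ z ∈ Q, ∃ x : R, χN ⟨x, hRN x.2⟩ = z := fun z hz => by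
    obtain ⟨q, hq⟩ := ho.surj z hz
    obtain ⟨x, hx⟩ := hl.onto.surj q q.2
    exact ⟨x, ((hχNe _).trans (hχe _)).trans ((congrArg v (Subtype.ext hx)).trans hq)⟩
  have hχm : ∀ y, χN y ∈ normalizerIn (T₁ ⊓ T₂) Q := fun y =>
    apply_mem_normalizerIn h.scA (h.w_sub _ hχN) hRN hχR hχs (extender_le_normalizerIn R φ y.2)
  have hUN : χN.range ≤ normalizerIn (T₁ ⊓ T₂) Q := by rintro _ ⟨y, rfl⟩; exact hχm y
  have hQU : Q ≤ χN.range := fun z hz => by
    obtain ⟨x, hx⟩ := hχs z hz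
    exact ⟨_, hx⟩
  obtain ⟨e, he, heQ⟩ := (hQ.rep h).fuse h (V := autInducedBy χN.range Q) (inn_le_autInducedBy hQU)
    (autInducedBy_mono (hUN.trans (normalizerIn_le Q))) hk (by
      intro c hc
      obtain ⟨_, ⟨g₀, rfl⟩, hge₀⟩ := mem_autInducedBy.1 hc
      obtain ⟨hgS, hgN, h', hh', hhe⟩ := mem_extender.1 g₀.2
      refine mem_autInducedBy.2 ⟨h', hh', fun z => ?_⟩
      obtain ⟨x, hx⟩ := hχs _ (k⁻¹ z).2
      have hgx : (g₀ : Ω) * x * (g₀ : Ω)⁻¹ ∈ R := conj_mem_of_normalizer hgN x.2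
      have hz : z = k ⟨_, hχR x⟩ := by
        rw [show (⟨_, hχR x⟩ : Q) = k⁻¹ z from Subtype.ext hx, MulAut.apply_inv_self]
      subst hz
      rw [MulAut.mul_apply, MulAut.mul_apply, MulAut.inv_apply_self, ← hφk x (hχR x), ← hhe x hgx,
        hφk ⟨_, hgx⟩ (hχR ⟨_, hgx⟩)]
      refine congrArg (fun u => ((k u : Q) : Ω)) (Subtype.ext ?_)
      refine (hge₀ _).trans ?_
      show χN g₀ * χN ⟨x, hRN x.2⟩ * (χN g₀)⁻¹ = χN ⟨_, hRN hgx⟩
      rw [← map_inv, ← map_mul, ← map_mul]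
      rfl)
  obtain ⟨ψ, hψ, hψe⟩ := exists_comp hχN he fun y => le_preimage_induced hUN ⟨y, rfl⟩
  refine ⟨ψ, hψ, fun x hx hxN => ?_⟩
  rw [hψe]
  exact (heQ ⟨_, hχR ⟨x, hx⟩⟩).trans (hφk ⟨x, hx⟩ _).symm

/-- The generated system is saturated. -/
theorem wSys_isSaturated : h.wSys.IsSaturated p := by
  haveI := h.finA
  refine FusionP3.Criterion.isSaturated (ℋ := {P | CentricT F (T₁ ⊓ T₂) P}) h.pA
    (fun P hP Q hPQ => ?_) (fun P hP => ?_) (fun D hD => ?_) fun P hP hn => absurd ?_ hn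
  · obtain ⟨φ, hφ, hr⟩ := hPQ
    exact centricT_congr h.scA hP ⟨φ, h.w_sub _ hφ, hr⟩
  · obtain ⟨Q, ι, hl⟩ := exists_link h hP
    exact ⟨Q, hl.onto.isConj hl.mem, fullyAutomized_w h hl.full, receptive_w h hl.full⟩
  · intro P φ hφ
    induction hφ with
    | @base P V φ k hV hk hle he =>
      obtain ⟨kh, hkh, -, hkhe⟩ := exists_hom_of_aut hV.1 (h.kAut_le_w hV hk)
      exact mem_of_restrict (hD V hV hkh) hle fun x => (he x).trans (hkhe _).symm
    | comp φ ψ χ _ _ hm he ihφ ihψ => exact mem_comp ihφ ihψ hm he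
  · refine ⟨hP.1, fun R hR => ?_⟩
    obtain ⟨φ, hφ, rfl⟩ := hR
    obtain ⟨α, -, w, hw, hwe⟩ := h.frattini hP.1 hφ
    have hr : φ.range = img α w.range := by
      ext y
      constructor
      · rintro ⟨x, rfl⟩
        exact ⟨⟨w x, apply_mem hw x⟩, ⟨x, rfl⟩, (hwe x _).symm⟩
      · rintro ⟨⟨z, hz⟩, ⟨x, hxz⟩, rfl⟩
        exact ⟨x, (hwe x (apply_mem hw x)).trans
          (congrArg (fun u => ((α u : ↥(T₁ ⊓ T₂)) : Ω)) (Subtype.ext hxz))⟩
    have hC := hP.2 w.range ⟨w, hw, rfl⟩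
    have hRA : w.range ≤ T₁ ⊓ T₂ := range_le_base hw
    rw [hr]
    intro y hy
    rw [mem_img (mem_centralizerIn.1 hy).1]
    refine hC (mem_centralizerIn'.2 ⟨(α⁻¹ _).2, fun z hz => ?_⟩)
    have h2 : (⟨y, (mem_centralizerIn.1 hy).1⟩ : ↥(T₁ ⊓ T₂)) * α ⟨z, hRA hz⟩ *
        (⟨y, (mem_centralizerIn.1 hy).1⟩ : ↥(T₁ ⊓ T₂))⁻¹ = α ⟨z, hRA hz⟩ :=
      Subtype.ext ((mem_centralizerIn'.1 hy).2 _ (apply_mem_img α hRA ⟨z, hz⟩))
    have h3 := congrArg (fun u : ↥(T₁ ⊓ T₂) => ((α⁻¹ u : ↥(T₁ ⊓ T₂)) : Ω)) h2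
    simp only [map_mul, map_inv, MulAut.inv_apply_self] at h3
    exact h3

/-- The generated system is weakly normal in `F`. -/
theorem w_weaklyNormal : h.wSys.IsWeaklyNormalIn F p :=
  ⟨wSys_isSaturated h, h.hF, h.w_sub, h.scA,
    fun P hP φ hφ _ hα => h.w_inv hα P hP φ hφ,
    fun _ hP _ hφ => h.frattini hP hφ⟩

/-- The generated system is weakly normal in the first subsystem. -/
theorem w_weaklyNormal₁ : h.wSys.IsWeaklyNormalIn E₁ p :=
  ⟨wSys_isSaturated h, h.h₁.1.1, h.w_sub₁, Setup.sc_sub h.scA h.h₁.1.2.2.1 inf_le_left,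
    fun P hP φ hφ _ hα => h.w_inv (autE_le_autF h.h₁.1.2.2.1 inf_le_left hα) P hP φ hφ,
    fun _ hP _ hφ => h.frattini₁ hP hφ⟩

/-- The generated system is weakly normal in the second subsystem. -/
theorem w_weaklyNormal₂ : h.wSys.IsWeaklyNormalIn E₂ p :=
  ⟨wSys_isSaturated h, h.h₂.1.1, h.w_sub₂, Setup.sc_sub h.scA h.h₂.1.2.2.1 inf_le_right,
    fun P hP φ hφ _ hα => h.w_inv (autE_le_autF h.h₂.1.2.2.1 inf_le_right hα) P hP φ hφ,
    fun _ hP _ hφ => h.frattini₂ hP hφ⟩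

end Cfsg.Agent.Lib.FS.Inter
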