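import Cfsg.Agent.Lib.FusionSystem.Inter.Moves
import Cfsg.Agent.Lib.FusionSystem.Hyperfocal
import Cfsg.Agent.Lib.FusionSystem.CentralizerNormal

/-!
Two normal subsystems `E₁`, `E₂` over `T₁`, `T₂`: the automorphism groups `K(P)` for the intersection over
`A = T₁ ⊓ T₂`, and the proof that `Aut_A(Q)` is a Sylow subgroup of `K(Q)` for fully normalised `Q ≤ A`.
-/

set_option autoImplicit false
set_option linter.style.haveILetI false
set_option linter.unusedSectionVars false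

namespace Cfsg.Agent.Lib.FS.Inter

open Cfsg Cfsg.FusionSystem Cfsg.Agent.Lib Cfsg.Agent.Lib.FS Cfsg.Agent.Lib.FS.NormalCentralizer
open Cfsg.Agent.Lib.FS.NormalCentralizer.Odd (autE_congr)
open Cfsg.Agent.Lib.FS.CentralLift (Restr congr_eq_conj congr_apply_map congr_comp congr_inv carry)

variable {Ω : Type*} [Group Ω] {S T₁ T₂ : Subgroup Ω} {p : ℕ}
  {F : FusionSystem S} {E₁ : FusionSystem T₁} {E₂ : FusionSystem T₂}

/-- Two normal subsystems. -/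
structure Setup (F : FusionSystem S) (E₁ : FusionSystem T₁) (E₂ : FusionSystem T₂) (p : ℕ) : Prop where
  hS : IsPGroup p S
  h₁ : E₁.IsNormalIn F p
  h₂ : E₂.IsNormalIn F p

/-- `Aut_{E₁}(P) ∩ Aut_{E₂}(P)`. -/
def iAut (E₁ : FusionSystem T₁) (E₂ : FusionSystem T₂) (P : Subgroup Ω) : Subgroup (MulAut P) :=
  E₁.autGroup P ⊓ E₂.autGroup P

/-- The automorphisms carried by maps of the system from automorphisms induced by `A`. -/
def carried (F : FusionSystem S) (A P : Subgroup Ω) : Set (MulAut P) :=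
  {a | ∃ (Q : Subgroup Ω) (φ : Q →* Ω) (hφ : φ ∈ F.Hom Q) (hr : φ.range = P),
    ∃ c ∈ autInducedBy A Q, a = MulAut.congr (homEquiv hφ hr) c}

/-- The automiser of the intersection. -/
def kAut (F : FusionSystem S) (E₁ : FusionSystem T₁) (E₂ : FusionSystem T₂) (p : ℕ) (P : Subgroup Ω) :
    Subgroup (MulAut P) :=
  Subgroup.closure ({b | b ∈ iAut E₁ E₂ P ∧ ¬ p ∣ orderOf b} ∪ carried F (T₁ ⊓ T₂) P)

theorem autA_le_kAut {P : Subgroup Ω} (hPS : P ≤ S) :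
    autInducedBy (T₁ ⊓ T₂) P ≤ kAut F E₁ E₂ p P := fun c hc => by
  refine Subgroup.subset_closure (Or.inr ⟨P, P.subtype, subtype_mem F hPS, P.range_subtype, c, hc, ?_⟩)
  refine MulEquiv.ext fun x => Subtype.ext ?_
  obtain ⟨y, rfl⟩ := (homEquiv (subtype_mem F hPS) P.range_subtype).surjective x
  rw [congr_apply_map]
  rfl

theorem coprime_mem_kAut {P : Subgroup Ω} {b : MulAut P} (hb : b ∈ iAut E₁ E₂ P) (hord : ¬ p ∣ orderOf b) :
    b ∈ kAut F E₁ E₂ p P :=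
  Subgroup.subset_closure (Or.inl ⟨hb, hord⟩)

variable [Finite S] [hp : Fact p.Prime]

namespace Setup

variable (h : Setup F E₁ E₂ p)
include h

theorem hF : F.IsSaturated p := h.h₁.1.2.1
theorem sc₁ : F.StronglyClosed T₁ := h.h₁.1.2.2.2.1
theorem sc₂ : F.StronglyClosed T₂ := h.h₂.1.2.2.2.1

theorem scA : F.StronglyClosed (T₁ ⊓ T₂) :=
  ⟨inf_le_left.trans h.sc₁.1, fun R hR φ hφ x =>
    ⟨h.sc₁.2 R (hR.trans inf_le_left) φ hφ x, h.sc₂.2 R (hR.trans inf_le_right) φ hφ x⟩⟩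

theorem source_le {P Q : Subgroup Ω} {φ : Q →* Ω} (hφ : φ ∈ F.Hom Q) (hr : φ.range = P)
    (hP : P ≤ T₁ ⊓ T₂) : Q ≤ T₁ ⊓ T₂ := by
  obtain ⟨ψ, hψ, hψr, -⟩ := exists_inv hφ hr
  rw [← hψr]
  rintro _ ⟨x, rfl⟩
  exact stronglyClosed_apply_mem h.scA hψ (hP x.2)

theorem congr_mem_iAut {P Q : Subgroup Ω} (hPA : P ≤ T₁ ⊓ T₂) {φ : P →* Ω} (hφ : φ ∈ F.Hom P)
    (hr : φ.range = Q) {a : MulAut P} (ha : a ∈ iAut E₁ E₂ P) :
    MulAut.congr (homEquiv hφ hr) a ∈ iAut E₁ E₂ Q :=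
  ⟨autE_congr h.h₁ (hPA.trans inf_le_left) hφ hr ha.1, autE_congr h.h₂ (hPA.trans inf_le_right) hφ hr ha.2⟩

theorem autA_le_iAut {P : Subgroup Ω} (hPA : P ≤ T₁ ⊓ T₂) : autInducedBy (T₁ ⊓ T₂) P ≤ iAut E₁ E₂ P :=
  le_inf ((autInducedBy_mono inf_le_left).trans (autInducedBy_le_autGroup E₁ (hPA.trans inf_le_left)))
    ((autInducedBy_mono inf_le_right).trans (autInducedBy_le_autGroup E₂ (hPA.trans inf_le_right)))

theorem kAut_le_iAut {P : Subgroup Ω} (hPA : P ≤ T₁ ⊓ T₂) : kAut F E₁ E₂ p P ≤ iAut E₁ E₂ P := by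
  refine (Subgroup.closure_le _).2 (Set.union_subset (fun b hb => hb.1) ?_)
  rintro _ ⟨Q, φ, hφ, hr, c, hc, rfl⟩
  have hQA := h.source_le hφ hr hPA
  exact h.congr_mem_iAut hQA hφ hr (h.autA_le_iAut hQA hc)

theorem iAut_le_autF {P : Subgroup Ω} (hPA : P ≤ T₁ ⊓ T₂) : iAut E₁ E₂ P ≤ F.autGroup P :=
  inf_le_left.trans (autE_le_autF h.h₁.1.2.2.1 (hPA.trans inf_le_left))

theorem congr_mem_kAut {P Q : Subgroup Ω} (hPA : P ≤ T₁ ⊓ T₂) {φ : P →* Ω} (hφ : φ ∈ F.Hom P)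
    (hr : φ.range = Q) {a : MulAut P} (ha : a ∈ kAut F E₁ E₂ p P) :
    MulAut.congr (homEquiv hφ hr) a ∈ kAut F E₁ E₂ p Q := by
  refine ((?_ : _ ≤ (kAut F E₁ E₂ p Q).comap (MulAut.congr (homEquiv hφ hr)).toMonoidHom) ha :)
  refine (Subgroup.closure_le _).2 (Set.union_subset (fun b hb => ?_) ?_)
  · refine coprime_mem_kAut (h.congr_mem_iAut hPA hφ hr hb.1) ?_
    show ¬ p ∣ orderOf (MulAut.congr (homEquiv hφ hr) b)
    rw [MulEquiv.orderOf_eq]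
    exact hb.2
  · rintro _ ⟨R, ψ, hψ, hψr, c, hc, rfl⟩
    obtain ⟨χ, hχ, hχe⟩ := exists_comp hψ hφ fun x => hψr.le ⟨x, rfl⟩
    have hχr : χ.range = Q := by
      ext y
      constructor
      · rintro ⟨x, rfl⟩; rw [hχe]; exact hr.le ⟨_, rfl⟩
      · intro hy
        obtain ⟨z, rfl⟩ := hr.ge hy
        obtain ⟨x, hx⟩ := hψr.ge z.2
        exact ⟨x, (hχe x).trans (congrArg φ (Subtype.ext hx))⟩
    exact Subgroup.subset_closure (Or.inr ⟨R, χ, hχ, hχr, c, hc,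
      (congr_comp hψ hψr hφ hr hχ hχr (fun x _ => hχe x) c).symm⟩)

theorem iAut_normal {P : Subgroup Ω} (hPA : P ≤ T₁ ⊓ T₂) {a g : MulAut P} (ha : a ∈ iAut E₁ E₂ P)
    (hg : g ∈ F.autGroup P) : g * a * g⁻¹ ∈ iAut E₁ E₂ P :=
  ⟨autE_normal h.h₁ (hPA.trans inf_le_left) ha.1 hg, autE_normal h.h₂ (hPA.trans inf_le_right) ha.2 hg⟩

theorem kAut_normal {P : Subgroup Ω} (hPA : P ≤ T₁ ⊓ T₂) {a g : MulAut P} (ha : a ∈ kAut F E₁ E₂ p P)
    (hg : g ∈ F.autGroup P) : g * a * g⁻¹ ∈ kAut F E₁ E₂ p P := by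
  obtain ⟨φ, hφ, hr, he⟩ := exists_hom_of_aut (hPA.trans h.scA.1) hg
  have h1 := h.congr_mem_kAut hPA hφ hr ha
  rwa [congr_eq_conj hφ hr,
    show (homEquiv hφ hr : MulAut P) = g from MulEquiv.ext fun x => Subtype.ext (he x)] at h1

/-- `x⁻¹ β x β⁻¹` is induced by `A`, for `x` induced by `t₁ ∈ T₁` lying in `R C_S(Q)`. -/
theorem focal_core {Q R : Subgroup Ω} (hQ : F.IsFullyCentralized Q) (hQA : Q ≤ T₁ ⊓ T₂) (hQR : Q ≤ R)
    (hRT : R ≤ T₂) (hR : F.IsFullyNormalized R) (hRQ : R ≤ Subgroup.normalizer (Q : Set Ω))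
    (hCR : centralizerIn S Q ≤ Subgroup.normalizer (R : Set Ω)) (hCT : centralizerIn T₂ Q ≤ R)
    {β : MulAut Q} (hβ : β ∈ iAut E₁ E₂ Q) (hord : ¬ p ∣ orderOf β)
    (hβR : ∀ r ∈ R, ∃ r' ∈ R, ∀ (q : Q) (hq : r * (q : Ω) * r⁻¹ ∈ Q),
      ((β ⟨r * q * r⁻¹, hq⟩ : Q) : Ω) = r' * (β q : Q) * r'⁻¹)
    {t s c : Ω} (ht : t ∈ T₁) (hs : s ∈ R) (hc : c ∈ centralizerIn S Q) (htsc : s * c = t)
    {x : MulAut Q} (hx : ∀ q : Q, ((x q : Q) : Ω) = t * q * t⁻¹) :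
    x⁻¹ * (β * x * β⁻¹) ∈ autInducedBy (T₁ ⊓ T₂) Q := by
  haveI := finite_sub h.sc₂.1
  haveI := finite_sub hR.1
  obtain ⟨ψ, hψ, hψe⟩ := FusionP3.Induction.exists_extend_aut
    (receptiveE h.hS h.h₂ (hQA.trans inf_le_right) hQ) (R := R) (fun r hr => ⟨hRT hr, hRQ hr⟩) hβ.2
    (fun r hr => by
      obtain ⟨r', hr', he⟩ := hβR r hr
      exact ⟨r', hRT hr', he⟩)
  have hψQ : ∀ q : Q, ψ ⟨q, hQR q.2⟩ = ((β q : Q) : Ω) := fun q => hψe q q.2 _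
  obtain ⟨δ₀, hδ₀, hδ₀e⟩ := exists_aut hψ fun r => by
    obtain ⟨r', hr', he⟩ := hβR r r.2
    have h1 : r'⁻¹ * ψ r ∈ centralizerIn T₂ Q := by
      refine mem_centralizerIn'.2 ⟨T₂.mul_mem (T₂.inv_mem (hRT hr')) (apply_mem hψ r), fun y hy => ?_⟩
      set q : Q := β⁻¹ ⟨y, hy⟩ with hq
      have hqy : ψ ⟨q, hQR q.2⟩ = y := by rw [hψQ, hq, MulAut.apply_inv_self]
      have hq' : (r : Ω) * q * (r : Ω)⁻¹ ∈ Q := conj_mem_of_normalizer (hRQ r.2) q.2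
      have h2 := he q hq'
      rw [← hψQ, ← hψQ] at h2
      have h3 : ψ r * y * (ψ r)⁻¹ = r' * y * r'⁻¹ := by
        rw [← hqy, ← map_inv, ← map_mul, ← map_mul]
        exact h2
      rw [show r'⁻¹ * ψ r * y * (r'⁻¹ * ψ r)⁻¹ = r'⁻¹ * (ψ r * y * (ψ r)⁻¹) * r' by group, h3]
      group
    have h4 := R.mul_mem hr' (hCT h1)
    rwa [mul_inv_cancel_left] at h4
  obtain ⟨D, hD, δ, hδ, hδβ, hD1, hD2⟩ := exists_lift h.hS h.h₂ hQ hQR hRT hR
    ((centralizerIn_anti hQR).trans hCT) hCR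
    (autE_mv h.hS h.h₂ R hRT (fullyNormalized_props h.hS h.hF hR).1) hδ₀ (β := β)
    (fun q => (hδ₀e _).trans (hψQ q)) hord
  have htX : t ∈ R ⊔ centralizerIn S Q := htsc ▸ Subgroup.mul_mem_sup hs hc
  set u := D ⟨t, htX⟩ with hu
  have huT : u ∈ T₁ := stronglyClosed_apply_mem h.sc₁ hD ht
  have hu2 : t⁻¹ * u ∈ T₂ := by
    rw [hu, show (⟨t, htX⟩ : ↥(R ⊔ centralizerIn S Q)) = Subgroup.inclusion le_sup_left ⟨s, hs⟩ *
      Subgroup.inclusion le_sup_right ⟨c, hc⟩ from Subtype.ext htsc.symm, map_mul, hD1, ← htsc,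
      show (s * c)⁻¹ * (((δ ⟨s, hs⟩ : R) : Ω) * D (Subgroup.inclusion le_sup_right ⟨c, hc⟩)) =
        c⁻¹ * (s⁻¹ * ((δ ⟨s, hs⟩ : R) : Ω)) * c * (c⁻¹ * D (Subgroup.inclusion le_sup_right ⟨c, hc⟩)) by group]
    exact T₂.mul_mem (conj_inv_mem_of_normalizer (stronglyClosed_le_normalizer h.sc₂ hc.1)
      (hRT (R.mul_mem (R.inv_mem hs) (δ _).2))) (hD2 ⟨c, hc⟩)
  refine mem_autInducedBy.2 ⟨t⁻¹ * u, ⟨T₁.mul_mem (T₁.inv_mem ht) huT, hu2⟩, fun q => ?_⟩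
  have hconj : ((β * x * β⁻¹) q : Ω) = u * q * u⁻¹ :=
    conj_aut_eq (hQR.trans le_sup_left) (ψ := D) (g := ⟨t, htX⟩)
      (fun y => (hD1 (Subgroup.inclusion hQR y)).trans (hδβ y)) hx q
  have h5 := hx (x⁻¹ ((β * x * β⁻¹) q))
  rw [MulAut.apply_inv_self, hconj] at h5
  rw [MulAut.mul_apply,
    show (t⁻¹ * u) * (q : Ω) * (t⁻¹ * u)⁻¹ = t⁻¹ * (u * q * u⁻¹) * t by group, h5]
  group

/-- The focal elements of `Aut_{E₁}(Q) ∩ Aut_{E₂}(Q)` are induced by `A`. -/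
theorem focal_mem {Q : Subgroup Ω} (hQA : Q ≤ T₁ ⊓ T₂) (hQ : F.IsFullyNormalized Q)
    {X : Subgroup (MulAut Q)} (hXI : X ≤ iAut E₁ E₂ Q) (hXS : X ≤ autInducedBy S Q)
    {β : MulAut Q} (hβ : β ∈ iAut E₁ E₂ Q) (hord : ¬ p ∣ orderOf β) (hβX : ∀ x ∈ X, β * x * β⁻¹ ∈ X)
    {x : MulAut Q} (hx : x ∈ X) : x⁻¹ * (β * x * β⁻¹) ∈ autInducedBy (T₁ ⊓ T₂) Q := by
  have hX1 : ∀ a ∈ X, a ∈ autInducedBy T₁ Q := fun a ha =>
    autE_inter_autS h.hS h.h₁ (hQA.trans inf_le_left) hQ (hXI ha).1 (hXS ha)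
  have hX2 : ∀ a ∈ X, a ∈ autInducedBy T₂ Q := fun a ha =>
    autE_inter_autS h.hS h.h₂ (hQA.trans inf_le_right) hQ (hXI ha).2 (hXS ha)
  set Xp := FusionP3.Induction.preimageAut S Q X with hXp
  have hXpN : Xp ≤ normalizerIn S Q := FusionP3.Induction.preimageAut_le Q X
  set R₀ := Q ⊔ (Xp ⊓ T₂) with hR₀
  have hR₀S : R₀ ≤ S := sup_le hQ.1 (inf_le_left.trans (hXpN.trans (normalizerIn_le Q)))
  haveI := finite_sub hR₀S
  have hR₀N : R₀ ≤ Subgroup.normalizer (Q : Set Ω) :=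
    sup_le Subgroup.le_normalizer (inf_le_left.trans (hXpN.trans inf_le_right))
  -- the elements whose action on `Q` is carried by `β` into the action of `R₀`
  let L : Subgroup Ω :=
    { carrier := {r | ∃ (hr : r ∈ Subgroup.normalizer (Q : Set Ω)), ∃ r' ∈ R₀, ∀ q : Q,
        ((β (Q.normalizerMonoidHom ⟨r, hr⟩ q) : Q) : Ω) = r' * (β q : Q) * r'⁻¹}
      one_mem' := ⟨one_mem _, 1, R₀.one_mem, fun q => by
        rw [show (⟨1, one_mem _⟩ : ↥(Subgroup.normalizer (Q : Set Ω))) = 1 from rfl, map_one]; simp⟩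
      mul_mem' := by
        rintro a b ⟨ha, a', ha', hae⟩ ⟨hb, b', hb', hbe⟩
        refine ⟨mul_mem ha hb, a' * b', R₀.mul_mem ha' hb', fun q => ?_⟩
        rw [show (⟨a * b, mul_mem ha hb⟩ : ↥(Subgroup.normalizer (Q : Set Ω))) = ⟨a, ha⟩ * ⟨b, hb⟩ from rfl,
          map_mul, MulAut.mul_apply, hae, hbe]
        group
      inv_mem' := by
        rintro a ⟨ha, a', ha', hae⟩
        refine ⟨(Subgroup.normalizer (Q : Set Ω)).inv_mem ha, a'⁻¹, R₀.inv_mem ha', fun q => ?_⟩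
        have h1 := hae ((Q.normalizerMonoidHom ⟨a, ha⟩)⁻¹ q)
        rw [MulAut.apply_inv_self, ← map_inv] at h1
        rw [h1]
        group
        rfl }
  have hL : R₀ ≤ L := by
    refine sup_le (fun r hr => ⟨Subgroup.le_normalizer hr, _, (le_sup_left : Q ≤ R₀) (β ⟨r, hr⟩).2,
      fun q => ?_⟩) fun r hr => ?_
    · rw [show Q.normalizerMonoidHom ⟨r, Subgroup.le_normalizer hr⟩ q = ⟨r, hr⟩ * q * (⟨r, hr⟩ : Q)⁻¹ from
        Subtype.ext rfl, map_mul, map_mul, map_inv]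
      rfl
    · obtain ⟨hrN, w, hw, hwe⟩ := hr.1
      obtain ⟨t', ht', hte'⟩ := mem_autInducedBy.1 (hX2 _ (hβX w hw))
      refine ⟨hrN.2, t', (le_sup_right : Xp ⊓ T₂ ≤ R₀)
        ⟨⟨⟨h.sc₂.1 ht', mem_normalizer_of_aut hte'⟩, _, hβX w hw, hte'⟩, ht'⟩, fun q => ?_⟩
      rw [← hte' (β q), MulAut.mul_apply, MulAut.mul_apply, MulAut.inv_apply_self,
        show Q.normalizerMonoidHom ⟨r, hrN.2⟩ q = w q from Subtype.ext (hwe q).symm]
  -- `t₁` and its decomposition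
  obtain ⟨t, ht, hte⟩ := mem_autInducedBy.1 (hX1 x hx)
  obtain ⟨t', ht', hte'⟩ := mem_autInducedBy.1 (hX2 x hx)
  have htN : t ∈ normalizerIn S Q := ⟨h.sc₁.1 ht, mem_normalizer_of_aut hte⟩
  have ht'N : t' ∈ normalizerIn S Q := ⟨h.sc₂.1 ht', mem_normalizer_of_aut hte'⟩
  have htXp : t ∈ Xp := ⟨htN, x, hx, hte⟩
  have ht'R : t' ∈ R₀ := (le_sup_right : Xp ⊓ T₂ ≤ R₀) ⟨⟨ht'N, x, hx, hte'⟩, ht'⟩
  have hcQ : t'⁻¹ * t ∈ centralizerIn S Q := by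
    refine mem_centralizerIn'.2 ⟨S.mul_mem (S.inv_mem ht'N.1) htN.1, fun q hq => ?_⟩
    have h1 := hte ⟨q, hq⟩
    rw [hte'] at h1
    rw [show t'⁻¹ * t * q * (t'⁻¹ * t)⁻¹ = t'⁻¹ * (t * q * t⁻¹) * t' by group, ← h1]
    group
  have hCXp : centralizerIn S Q ≤ Xp := fun c hc =>
    ⟨centralizerIn_le_normalizerIn Q hc, 1, X.one_mem, fun q => ((mem_centralizerIn'.1 hc).2 q q.2).symm⟩
  have hXpR₀ : ∀ g ∈ Xp, g ∈ normalizerIn S R₀ := fun g hg => by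
    refine ⟨(hXpN hg).1, mem_normalizer_sup (hXpN hg).2 ?_⟩
    haveI := finite_sub ((inf_le_left : Xp ⊓ T₂ ≤ Xp).trans (hXpN.trans (normalizerIn_le Q)))
    exact mem_normalizer_of_conj_mem fun y hy => ⟨Xp.mul_mem (Xp.mul_mem hg hy.1) (Xp.inv_mem hg),
      conj_mem_of_normalizer (stronglyClosed_le_normalizer h.sc₂ (hXpN hg).1) hy.2⟩
  -- move to a fully normalised subgroup
  obtain ⟨R, hR₀R, hR⟩ := exists_isFullyNormalized F hR₀S
  obtain ⟨χ, hχ, hχm, hχR⟩ := exists_normalizer_map h.hS h.hF hR hR₀R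
  have hR₀N' : R₀ ≤ normalizerIn S R₀ := le_normalizerIn hR₀S
  have hQN : Q ≤ normalizerIn S R₀ := le_sup_left.trans hR₀N'
  obtain ⟨χQ, hχQ, hχQe⟩ := exists_restrict hχ hQN
  set Q' := χQ.range with hQ'
  have hQQ' : F.IsConj Q Q' := ⟨χQ, hχQ, rfl⟩
  have hQ'A : Q' ≤ T₁ ⊓ T₂ := by
    rintro _ ⟨q, rfl⟩; exact stronglyClosed_apply_mem h.scA hχQ (hQA q.2)
  have hCN : centralizerIn S Q ≤ normalizerIn S R₀ := fun c hc => hXpR₀ c (hCXp hc)
  obtain ⟨χC, hχC, hχCe⟩ := exists_restrict hχ hCN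
  have hχCm : ∀ c, χC c ∈ centralizerIn S Q' := fun c => by
    refine mem_centralizerIn.2 ⟨apply_mem hχC c, ?_⟩
    rintro _ ⟨q, rfl⟩
    rw [hχQe, hχCe, ← map_mul, ← map_mul]
    exact congrArg χ (Subtype.ext ((mem_centralizerIn.1 c.2).2 q q.2))
  haveI := finite_sub (centralizerIn_le (S := S) Q')
  have hQc := (fullyNormalized_props h.hS h.hF hQ).1
  have hQ'c : F.IsFullyCentralized Q' :=
    ⟨range_le_base hχQ, fun P hP => (hQc.2 P (isConj_trans hQQ' hP)).trans (card_le_of_hom hχC hχCm)⟩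
  have hχCr : χC.range = centralizerIn S Q' := range_eq_of_mem hχC hχCm (hQc.2 Q' hQQ')
  have hRmem : ∀ r ∈ R, ∃ r₀ : normalizerIn S R₀, (r₀ : Ω) ∈ R₀ ∧ χ r₀ = r := fun r hr => by
    obtain ⟨r₀, hr₀, he⟩ := hχR.ge hr
    exact ⟨r₀, Subgroup.mem_subgroupOf.1 hr₀, he⟩
  have hRin : ∀ (r₀ : normalizerIn S R₀), (r₀ : Ω) ∈ R₀ → χ r₀ ∈ R := fun r₀ hr₀ =>
    hχR.le ⟨r₀, Subgroup.mem_subgroupOf.2 hr₀, rfl⟩
  set e := homEquiv hχQ hQ'.symm with he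
  have hconj' : ∀ (g : normalizerIn S R₀) (q : Q) (hgq : (g : Ω) * q * (g : Ω)⁻¹ ∈ Q),
      χ g * (e q : Ω) * (χ g)⁻¹ = (e ⟨_, hgq⟩ : Ω) := fun g q hgq => by
    rw [he, homEquiv_coe, homEquiv_coe, hχQe, hχQe, ← map_inv, ← map_mul, ← map_mul]
    rfl
  have hcore := h.focal_core (Q := Q') (R := R) hQ'c hQ'A ?_ ?_ hR ?_ ?_ ?_
    (β := MulAut.congr e β) (h.congr_mem_iAut hQA hχQ hQ'.symm hβ) (by rwa [MulEquiv.orderOf_eq])
    ?_ (t := χ ⟨t, hXpR₀ t htXp⟩) (s := χ ⟨t', hR₀N' ht'R⟩) (c := χ ⟨t'⁻¹ * t, hCN hcQ⟩)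
    (stronglyClosed_apply_mem h.sc₁ hχ ht) (hRin _ ht'R) ?_ ?_ (x := MulAut.congr e x) ?_
  · -- carry back
    obtain ⟨ψ, hψ, hψr, hψl, -⟩ := exists_inv hχQ hQ'.symm
    have hback := carry h.scA hψ hψr (receptive_of_fullyNormalized h.hS h.hF hQ) hcore
    rw [← map_inv, ← map_inv, ← map_mul, ← map_mul, ← map_mul, he,
      congr_inv hχQ hQ'.symm hψ hψr hψl] at hback
    exact hback (mul_mem (inv_mem (hXS hx)) (hXS (hβX x hx)))
  · rintro _ ⟨q, rfl⟩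
    rw [hχQe]; exact hRin _ ((le_sup_left : Q ≤ R₀) q.2)
  · intro r hr
    obtain ⟨r₀, hr₀, rfl⟩ := hRmem r hr
    exact stronglyClosed_apply_mem h.sc₂ hχ
      ((sup_le (hQA.trans inf_le_right) inf_le_right : R₀ ≤ T₂) hr₀)
  · intro r hr
    obtain ⟨r₀, hr₀, rfl⟩ := hRmem r hr
    haveI := finite_sub hQ'c.1
    refine mem_normalizer_of_conj_mem fun y hy => ?_
    obtain ⟨q, rfl⟩ := e.surjective ⟨y, hy⟩ |>.imp fun q hq => congrArg Subtype.val hq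
    rw [hconj' r₀ q (conj_mem_of_normalizer (hR₀N hr₀) q.2)]
    exact SetLike.coe_mem _
  · intro d hd
    obtain ⟨c, rfl⟩ := hχCr.ge hd
    rw [hχCe]
    exact (hχm _).2
  · intro d hd
    obtain ⟨c, rfl⟩ := hχCr.ge ⟨h.sc₂.1 hd.1, hd.2⟩
    obtain ⟨χi, hχi, -, hl, -⟩ := exists_inv hχC rfl
    have hcT : (c : Ω) ∈ T₂ := by
      have h1 := stronglyClosed_apply_mem h.sc₂ hχi (x := ⟨χC c, c, rfl⟩) hd.1
      rwa [hl c ⟨c, rfl⟩] at h1
    rw [hχCe]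
    exact hRin _ ((le_sup_right : Xp ⊓ T₂ ≤ R₀) ⟨hCXp c.2, hcT⟩)
  · intro r hr
    obtain ⟨r₀, hr₀, rfl⟩ := hRmem r hr
    obtain ⟨hrN, r', hr', hre⟩ := hL hr₀
    refine ⟨χ ⟨r', hR₀N' hr'⟩, hRin _ hr', fun y hy => ?_⟩
    obtain ⟨q, rfl⟩ := e.surjective y
    have h1 : (r₀ : Ω) * q * (r₀ : Ω)⁻¹ ∈ Q := conj_mem_of_normalizer hrN q.2
    have h2 : r' * ((β q : Q) : Ω) * r'⁻¹ ∈ Q := by rw [← hre q]; exact SetLike.coe_mem _
    rw [show (⟨χ r₀ * (e q : Ω) * (χ r₀)⁻¹, hy⟩ : Q') = e ⟨_, h1⟩ from Subtype.ext (hconj' r₀ q h1),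
      congr_apply_map, congr_apply_map]
    have h3 := hconj' ⟨r', hR₀N' hr'⟩ (β q) h2
    rw [he, homEquiv_coe, homEquiv_coe] at h3
    rw [h3]
    exact congrArg χQ (Subtype.ext (hre q))
  · exact hχCm ⟨_, hcQ⟩ |> fun h1 => by rwa [hχCe] at h1
  · rw [← map_mul]
    exact congrArg χ (Subtype.ext (mul_inv_cancel_left _ _))
  · intro y
    obtain ⟨q, rfl⟩ := e.surjective y
    rw [congr_apply_map]
    have h1 : t * (q : Ω) * t⁻¹ ∈ Q := conj_mem_of_normalizer htN.2 q.2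
    rw [hconj' ⟨t, hXpR₀ t htXp⟩ q h1, he, homEquiv_coe]
    exact congrArg χQ (Subtype.ext (hte q))

/-- `Aut_A(Q)` contains the automorphisms of `K(Q)` induced by `S`. -/
theorem kAut_inf_autS {Q : Subgroup Ω} (hQA : Q ≤ T₁ ⊓ T₂) (hQ : F.IsFullyNormalized Q)
    {k : MulAut Q} (hk : k ∈ kAut F E₁ E₂ p Q) (hkS : k ∈ autInducedBy S Q) :
    k ∈ autInducedBy (T₁ ⊓ T₂) Q := by
  haveI := finite_sub hQ.1
  set I := iAut E₁ E₂ Q with hI
  set B := autInducedBy (T₁ ⊓ T₂) Q with hB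
  have hIF : I ≤ F.autGroup Q := h.iAut_le_autF hQA
  have hBI : B ≤ I := h.autA_le_iAut hQA
  set PI := I ⊓ autInducedBy S Q with hPI
  obtain ⟨Sy, hSy⟩ := (fullyAutomized_of_fullyNormalized h.hS h.hF hQ).2
  obtain ⟨SI, hSI⟩ := exists_sylow_of_card_ge (A := I) (R₀ := PI) inf_le_left
    ((isPGroup_autInducedBy h.hS Q).to_le inf_le_right) default (by
      set K := ((default : Sylow p I) : Subgroup I).map I.subtype with hK
      obtain ⟨a, ha, hac⟩ := exists_conj_le_sylow Sy hSy (T := K) ((Subgroup.map_subtype_le _).trans hIF)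
        ((default : Sylow p I).2.map _)
      rw [Nat.card_congr ((default : Sylow p I).1.equivMapOfInjective I.subtype I.subtype_injective).toEquiv]
      exact Nat.card_le_card_of_injective (fun t : K => (⟨a * t * a⁻¹,
        h.iAut_normal hQA (Subgroup.map_subtype_le _ t.2) ha, hac t t.2⟩ : PI))
        fun s t hst => Subtype.ext (mul_left_cancel (mul_right_cancel (congrArg Subtype.val hst))))
  set O := (pResidual p I).map I.subtype with hO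
  haveI hOn : (pResidual p I).Normal := Transfer.PResidual.pResidual_normal
  have hOI : O ≤ I := Subgroup.map_subtype_le _
  have hSImem : ∀ a : I, a ∈ (SI : Subgroup I) ↔ (a : MulAut Q) ∈ autInducedBy S Q := fun a => by
    rw [hSI, Subgroup.mem_subgroupOf]
    exact ⟨fun h1 => h1.2, fun h1 => ⟨a.2, h1⟩⟩
  -- focal part
  have hOS : ∀ o ∈ O, o ∈ autInducedBy S Q → o ∈ B := by
    rintro _ ⟨o, ho, rfl⟩ hoS
    have h1 : o ∈ (SI : Subgroup I) ⊓ pResidual p I := ⟨(hSImem o).2 hoS, ho⟩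
    rw [← hyperfocal_group] at h1
    refine Subgroup.mem_subgroupOf.1 (hyperfocal_group_le _ (K := B.subgroupOf I) ?_ h1)
    intro X hX n hn hco x hx
    rw [Subgroup.mem_subgroupOf]
    refine h.focal_mem hQA hQ (X := X.map I.subtype) (Subgroup.map_subtype_le _) ?_ n.2 ?_ ?_ ⟨x, hx, rfl⟩
    · rintro _ ⟨y, hy, rfl⟩; exact (hSImem y).1 (hX hy)
    · rw [Subgroup.orderOf_coe]
      exact (hp.out.coprime_iff_not_dvd).1 hco.symm
    · rintro _ ⟨y, hy, rfl⟩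
      exact ⟨n * y * n⁻¹, conj_mem_of_normalizer hn hy, rfl⟩
  have hOnorm : ∀ i ∈ I, ∀ o ∈ O, i * o * i⁻¹ ∈ O := by
    rintro i hi _ ⟨o, ho, rfl⟩
    exact ⟨⟨i, hi⟩ * o * (⟨i, hi⟩ : I)⁻¹, hOn.conj_mem o ho _, rfl⟩
  have hBN : B ≤ Subgroup.normalizer (O : Set (MulAut Q)) := fun b hb => by
    haveI : Finite O := inferInstance
    exact mem_normalizer_of_conj_mem fun o ho => hOnorm b (hBI hb) o ho
  -- `O Aut_A(Q)` is normal in `Aut_F(Q)`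
  set M := O ⊔ B with hM
  have hconj : ∀ g ∈ F.autGroup Q, ∀ c ∈ B, g * c * g⁻¹ ∈ M := by
    intro g hg c hc
    obtain ⟨i, hi, hic⟩ := exists_conj_le_sylow SI hSI (T := PI.map (MulAut.conj g).toMonoidHom)
      (by rintro _ ⟨y, hy, rfl⟩; exact h.iAut_normal hQA hy.1 hg)
      (((isPGroup_autInducedBy h.hS Q).to_le inf_le_right).map _)
    have htop : (⟨i, hi⟩ : I) ∈ (SI : Subgroup I) ⊔ pResidual p I := by
      rw [sup_comm, Transfer.PResidual.sup_sylow_eq_top]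
      trivial
    obtain ⟨u, hu, o, ho, huo⟩ := Subgroup.mem_sup_of_normal_right.1 htop
    have hiuo : i = (u : MulAut Q) * o := congrArg Subtype.val huo.symm
    have hoO : (o : MulAut Q) ∈ O := ⟨o, ho, rfl⟩
    set m := (o : MulAut Q) * g with hm
    have hmF : m ∈ F.autGroup Q := mul_mem (hIF o.2) hg
    have hmc : m * c * m⁻¹ ∈ PI := by
      have h1 := hic _ ⟨c, ⟨hBI hc, (autInducedBy_mono h.scA.1) hc⟩, rfl⟩
      rw [hiuo] at h1
      have hu' : (u : MulAut Q) ∈ PI := ⟨u.2, (hSImem u).1 hu⟩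
      have h2 := PI.mul_mem (PI.mul_mem (PI.inv_mem hu') h1) hu'
      convert h2 using 1
      simp only [hm, MulEquiv.coe_toMonoidHom, MulAut.conj_apply]
      group
    obtain ⟨φ, hφ, hr, hφe⟩ := exists_hom_of_aut hQ.1 hmF
    have hcarry := carry h.scA hφ hr (receptive_of_fullyNormalized h.hS h.hF hQ) hc
    rw [congr_eq_conj hφ hr,
      show (homEquiv hφ hr : MulAut Q) = m from MulEquiv.ext fun y => Subtype.ext (hφe y)] at hcarry
    have h3 := M.mul_mem (M.mul_mem (M.inv_mem ((le_sup_left : O ≤ M) hoO))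
      ((le_sup_right : B ≤ M) (hcarry hmc.2))) ((le_sup_left : O ≤ M) hoO)
    convert h3 using 1
    rw [hm]
    group
  have hKM : kAut F E₁ E₂ p Q ≤ M := by
    refine (Subgroup.closure_le _).2 (Set.union_subset (fun b hb => ?_) ?_)
    · refine (le_sup_left : O ≤ M) ⟨⟨b, hb.1⟩, Transfer.PResidual.mem_pResidual ?_, rfl⟩
      rw [Subgroup.orderOf_mk]
      exact ((hp.out.coprime_iff_not_dvd).2 hb.2).symm
    · rintro _ ⟨P, φ, hφ, hr, c, hc, rfl⟩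
      obtain ⟨a, ha, ψ, hψ, -, -, hψe⟩ := exists_twist_extension h.hS
        (fullyAutomized_of_fullyNormalized h.hS h.hF hQ) (receptive_of_fullyNormalized h.hS h.hF hQ) hφ hr
      obtain ⟨t, ht, hte⟩ := mem_autInducedBy.1 hc
      have htN : t ∈ normalizerIn S P := ⟨h.scA.1 ht, mem_normalizer_of_aut hte⟩
      have hPN : P ≤ normalizerIn S P := le_normalizerIn (src_le hφ)
      have hac : a * MulAut.congr (homEquiv hφ hr) c * a⁻¹ ∈ B := by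
        refine mem_autInducedBy.2 ⟨ψ ⟨t, htN⟩, stronglyClosed_apply_mem h.scA hψ ht, fun y => ?_⟩
        obtain ⟨x, rfl⟩ := ((homEquiv hφ hr).trans a).surjective y
        have h1 : ∀ z : P, ψ ⟨z, hPN z.2⟩ = (((homEquiv hφ hr).trans a) z : Ω) := fun z =>
          hψe z _ (hr.le ⟨z, rfl⟩)
        rw [← h1, MulAut.mul_apply, MulAut.mul_apply, MulEquiv.trans_apply, MulAut.inv_apply_self,
          ← map_inv, ← map_mul, ← map_mul,
          show MulAut.congr (homEquiv hφ hr) c (homEquiv hφ hr x) = homEquiv hφ hr (c x) from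
            Subtype.ext (congr_apply_map hφ hr c x),
          ← MulEquiv.trans_apply (homEquiv hφ hr) a, ← h1]
        exact congrArg ψ (Subtype.ext (hte x))
      have h2 := hconj a⁻¹ (inv_mem ha) _ hac
      simpa [mul_assoc] using h2
  have hk' : k ∈ ((O ⊔ B : Subgroup (MulAut Q)) : Set (MulAut Q)) := hKM hk
  rw [Subgroup.coe_mul_of_right_le_normalizer_left O B hBN] at hk'
  obtain ⟨o, ho, b, hb, rfl⟩ := hk'
  have hoS : o ∈ autInducedBy S Q := by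
    have h1 := mul_mem hkS (inv_mem ((autInducedBy_mono h.scA.1) hb))
    rwa [mul_inv_cancel_right] at h1
  exact mul_mem (hOS o ho hoS) hb

/-- `Aut_A(Q)` is a Sylow subgroup of `K(Q)`. -/
theorem exists_sylow_kAut {Q : Subgroup Ω} (hQA : Q ≤ T₁ ⊓ T₂) (hQ : F.IsFullyNormalized Q) :
    ∃ R : Sylow p (kAut F E₁ E₂ p Q),
      (R : Subgroup (kAut F E₁ E₂ p Q)) = (autInducedBy (T₁ ⊓ T₂) Q).subgroupOf (kAut F E₁ E₂ p Q) := by
  haveI := finite_sub hQ.1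
  set K := kAut F E₁ E₂ p Q with hK
  obtain ⟨Sy, hSy⟩ := (fullyAutomized_of_fullyNormalized h.hS h.hF hQ).2
  refine exists_sylow_of_card_ge (autA_le_kAut hQ.1)
    (isPGroup_autInducedBy_of_le h.hS h.scA.1 Q) default ?_
  set Z := ((default : Sylow p K) : Subgroup K).map K.subtype with hZ
  obtain ⟨a, ha, hac⟩ := exists_conj_le_sylow Sy hSy (T := Z)
    ((Subgroup.map_subtype_le _).trans ((h.kAut_le_iAut hQA).trans (h.iAut_le_autF hQA)))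
    ((default : Sylow p K).2.map _)
  rw [Nat.card_congr ((default : Sylow p K).1.equivMapOfInjective K.subtype K.subtype_injective).toEquiv]
  exact Nat.card_le_card_of_injective (fun t : Z => (⟨a * t * a⁻¹,
    h.kAut_inf_autS hQA hQ (h.kAut_normal hQA (Subgroup.map_subtype_le _ t.2) ha) (hac t t.2)⟩ :
      autInducedBy (T₁ ⊓ T₂) Q))
    fun s t hst => Subtype.ext (mul_left_cancel (mul_right_cancel (congrArg Subtype.val hst)))

end Setup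

end Cfsg.Agent.Lib.FS.Inter
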