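import Cfsg.Agent.Lib.FusionSystem.Inter.Full

/-!
Decomposition of the generated maps between full subgroups: a map of the normalisers followed by an element of
`K(Q)`.
-/

set_option autoImplicit false
set_option linter.style.haveILetI false
set_option linter.unusedSectionVars false

namespace Cfsg.Agent.Lib.FS.Inter

open Cfsg Cfsg.FusionSystem Cfsg.Agent.Lib Cfsg.Agent.Lib.FS Cfsg.Agent.Lib.FS.NormalCentralizer
open Cfsg.Agent.Lib.FusionP3.Prime (img img_le autRes autRes_range apply_mem_img mem_img Inv Dec)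
open Cfsg.Agent.Lib.FusionP3.Induction (preimageAut)
open Cfsg.Agent.Lib.FS.CentralLift (Restr congr_apply_map congr_inv)

variable {Ω : Type*} [Group Ω] {S T₁ T₂ : Subgroup Ω} [Finite S] {p : ℕ} [hp : Fact p.Prime]
  {F : FusionSystem S} {E₁ : FusionSystem T₁} {E₂ : FusionSystem T₂}

/-- `μ : Q₁ → Q₂` is a map of the normalisers followed by an element of `K(Q₂)`. -/
def Dcp (h : Setup F E₁ E₂ p) (Q₁ Q₂ : Subgroup Ω) (μ : Q₁ →* Ω) : Prop :=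
  ∃ v ∈ h.wSys.Hom (normalizerIn (T₁ ⊓ T₂) Q₁), ∃ ho : MapsOnto v Q₁ Q₂, ∃ k ∈ kAut F E₁ E₂ p Q₂,
    ∀ q : Q₁, μ q = ((k ⟨v ⟨q, ho.le q.2⟩, ho.mem q⟩ : Q₂) : Ω)

variable {h : Setup F E₁ E₂ p} {Q₁ Q₂ Q₃ : Subgroup Ω}
include h

theorem Dcp.congr {μ μ' : Q₁ →* Ω} (hd : Dcp h Q₁ Q₂ μ) (he : ∀ q, μ' q = μ q) : Dcp h Q₁ Q₂ μ' := by
  obtain ⟨v, hv, ho, k, hk, hke⟩ := hd
  exact ⟨v, hv, ho, k, hk, fun q => (he q).trans (hke q)⟩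

theorem Dcp.of_normalizer {v : ↥(normalizerIn (T₁ ⊓ T₂) Q₁) →* Ω}
    (hv : v ∈ h.wSys.Hom (normalizerIn (T₁ ⊓ T₂) Q₁)) (ho : MapsOnto v Q₁ Q₂) {μ : Q₁ →* Ω}
    (he : ∀ q : Q₁, μ q = v ⟨q, ho.le q.2⟩) : Dcp h Q₁ Q₂ μ :=
  ⟨v, hv, ho, 1, one_mem _, fun q => by rw [he, MulAut.one_apply]⟩

theorem Dcp.mem {μ : Q₁ →* Ω} (hd : Dcp h Q₁ Q₂ μ) (q : Q₁) : μ q ∈ Q₂ := by
  obtain ⟨v, -, ho, k, -, hke⟩ := hd
  rw [hke]
  exact SetLike.coe_mem _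

theorem Dcp.apply_k {μ μ' : Q₁ →* Ω} (hd : Dcp h Q₁ Q₂ μ) {k : MulAut Q₂} (hk : k ∈ kAut F E₁ E₂ p Q₂)
    (he : ∀ q, μ' q = ((k ⟨μ q, hd.mem q⟩ : Q₂) : Ω)) : Dcp h Q₁ Q₂ μ' := by
  obtain ⟨v, hv, ho, k', hk', hke⟩ := id hd
  refine ⟨v, hv, ho, k * k', mul_mem hk hk', fun q => ?_⟩
  rw [he, MulAut.mul_apply]
  exact congrArg (fun z => ((k z : Q₂) : Ω)) (Subtype.ext (hke q))

theorem Dcp.comp {μ : Q₁ →* Ω} {μ' : Q₂ →* Ω} {χ : Q₁ →* Ω} (hQ₂ : Q₂ ≤ T₁ ⊓ T₂) (hd : Dcp h Q₁ Q₂ μ)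
    (hd' : Dcp h Q₂ Q₃ μ') (he : ∀ q, χ q = μ' ⟨μ q, hd.mem q⟩) : Dcp h Q₁ Q₃ χ := by
  obtain ⟨v, hv, ho, k, hk, hke⟩ := id hd
  obtain ⟨v', hv', ho', k', hk', hke'⟩ := hd'
  have hvm : ∀ y, v y ∈ normalizerIn (T₁ ⊓ T₂) Q₂ := fun y =>
    apply_mem_normalizerIn h.scA (h.w_sub _ hv) ho.le ho.mem ho.surj y.2
  obtain ⟨w, hw, hwe⟩ := exists_comp hv hv' hvm
  have how : MapsOnto w Q₁ Q₃ := ho.comp ho' hvm hwe
  obtain ⟨φ, hφ, hr, hφe⟩ := ho'.exists_hom (h.w_sub _ hv')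
  refine ⟨w, hw, how, k' * MulAut.congr (homEquiv hφ hr) k,
    mul_mem hk' (h.congr_mem_kAut hQ₂ hφ hr hk), fun q => ?_⟩
  rw [he, hke', MulAut.mul_apply]
  refine congrArg (fun z => ((k' z : Q₃) : Ω)) (Subtype.ext ?_)
  set z : Q₂ := ⟨v ⟨q, ho.le q.2⟩, ho.mem q⟩ with hz
  have e : (⟨w ⟨q, how.le q.2⟩, how.mem q⟩ : Q₃) = homEquiv hφ hr z :=
    Subtype.ext ((hwe _).trans (hφe z).symm)
  simp only [e]
  rw [congr_apply_map, hφe]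
  exact congrArg v' (Subtype.ext (hke q))

/-- The statement at the level of a subgroup `R` centric relative to `A`. -/
def Tr (h : Setup F E₁ E₂ p) (R : Subgroup Ω) : Prop :=
  ∀ φ ∈ h.wSys.Hom R, ∀ (Q₁ Q₂ : Subgroup Ω) (ι₁ : ↥(normalizerIn (T₁ ⊓ T₂) R) →* Ω)
    (ι₂ : ↥(normalizerIn (T₁ ⊓ T₂) φ.range) →* Ω) (hl₁ : Link h R ι₁ Q₁) (hl₂ : Link h φ.range ι₂ Q₂)
    (μ : Q₁ →* Ω), (∀ x : R, μ ⟨_, hl₁.onto.mem x⟩ = ι₂ ⟨φ x, hl₂.onto.le ⟨x, rfl⟩⟩) → Dcp h Q₁ Q₂ μ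

section Main

/-- An automorphism of `A` agreeing on `Y` with a generated map. -/
theorem main_core {Q Y : Subgroup Ω} {α : MulAut ↥(T₁ ⊓ T₂)} (hα : α ∈ F.autGroup (T₁ ⊓ T₂))
    (hQ : Full F (T₁ ⊓ T₂) Q) (hQY : Q ≤ Y) (hYN : Y < normalizerIn (T₁ ⊓ T₂) Q)
    (hpred : Tr h Y)
    (hρ : autRes α (hYN.le.trans (normalizerIn_le Q)) ∈ h.wSys.Hom Y) :
    ∃ Z, Y < Z ∧ ∃ hZ : Z ≤ normalizerIn (T₁ ⊓ T₂) Q, ∃ σ ∈ h.wSys.Hom Z,
      ∀ y : Z, (y : Ω) ∈ Y → σ y = ((α ⟨y, normalizerIn_le Q (hZ y.2)⟩ : ↥(T₁ ⊓ T₂)) : Ω) := by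
  haveI := h.finA
  have hYA : Y ≤ (T₁ ⊓ T₂) := hYN.le.trans (normalizerIn_le Q)
  have hYc : CentricT F (T₁ ⊓ T₂) Y := hQ.cA.mono hQY hYA
  obtain ⟨Ys, ι, hl⟩ := exists_link h hYc
  obtain ⟨ι', hl', hι'e⟩ := Link.conj h hl hYA hα
  set ρ := autRes α hYA with hρdef
  have hρr : ρ.range = img α Y := autRes_range α hYA
  obtain ⟨ι₂, hι₂, hι₂e⟩ := exists_restrict hl'.mem
    (le_of_eq (congrArg (normalizerIn (T₁ ⊓ T₂)) hρr) : normalizerIn (T₁ ⊓ T₂) ρ.range ≤ normalizerIn (T₁ ⊓ T₂) (img α Y))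
  have hl₂ : Link h ρ.range ι₂ (img α Ys) := ⟨hι₂, hl'.full, hl'.onto.restrict
    (Y := normalizerIn (T₁ ⊓ T₂) (img α Y)) (R := img α Y) (g := ι₂)
    ((hρr.symm.le).trans (le_normalizerIn (range_le_base hρ))) (fun x => hι₂e _) |> fun ho =>
      ⟨le_normalizerIn (range_le_base hρ), fun x => ho.mem ⟨x, hρr.le x.2⟩, fun z hz => by
        obtain ⟨x, hx⟩ := ho.surj z hz
        exact ⟨⟨x, hρr.ge x.2⟩, hx⟩⟩⟩
  have hYsA : Ys ≤ (T₁ ⊓ T₂) := hl.full.cA.1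
  obtain ⟨v₁, hv₁, ho₁, k, hk, hke⟩ := hpred ρ hρ Ys (img α Ys) ι ι₂ hl hl₂ (autRes α hYsA) (fun x => by
    rw [hι₂e]
    exact (hι'e ⟨x, hl.onto.le x.2⟩ _).symm)
  -- the image of `v₁`
  have hY₂c : CentricT F (T₁ ⊓ T₂) (img α Ys) := hl'.full.cA
  have hv₁m : ∀ g, v₁ g ∈ normalizerIn (T₁ ⊓ T₂) (img α Ys) := fun g =>
    apply_mem_normalizerIn h.scA (h.w_sub _ hv₁) ho₁.le ho₁.mem ho₁.surj g.2
  haveI := finite_sub (normalizerIn_le (S := (T₁ ⊓ T₂)) (img α Ys))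
  have hv₁r : v₁.range = normalizerIn (T₁ ⊓ T₂) (img α Ys) := range_eq_of_mem hv₁ hv₁m (by
    rw [← img_normalizerIn α hYsA, card_img α (normalizerIn_le _)])
  have hkn : ∀ c ∈ autInducedBy (T₁ ⊓ T₂) (img α Ys), k * c * k⁻¹ ∈ autInducedBy (T₁ ⊓ T₂) (img α Ys) := by
    intro c hc
    obtain ⟨g, hg, hge⟩ := mem_autInducedBy.1 hc
    obtain ⟨g', hg'⟩ := hv₁r.ge (show g ∈ normalizerIn (T₁ ⊓ T₂) (img α Ys) from ⟨hg, mem_normalizer_of_aut hge⟩)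
    refine mem_autInducedBy.2 ⟨_, (α ⟨g', normalizerIn_le Ys g'.2⟩).2, fun z => ?_⟩
    obtain ⟨y, hy⟩ : ∃ y : Ys, k ⟨v₁ ⟨y, ho₁.le y.2⟩, ho₁.mem y⟩ = z := by
      obtain ⟨y, hy⟩ := ho₁.surj _ (k⁻¹ z).2
      exact ⟨y, by
        rw [show (⟨v₁ ⟨y, ho₁.le y.2⟩, ho₁.mem y⟩ : (img α Ys)) = k⁻¹ z from Subtype.ext hy,
          MulAut.apply_inv_self]⟩
    have hy' : (g' : Ω) * y * (g' : Ω)⁻¹ ∈ Ys := conj_mem_of_normalizer g'.2.2 y.2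
    have h1 : c ⟨v₁ ⟨y, ho₁.le y.2⟩, ho₁.mem y⟩ = ⟨v₁ ⟨_, ho₁.le hy'⟩, ho₁.mem ⟨_, hy'⟩⟩ := by
      refine Subtype.ext ((hge _).trans ?_)
      show g * v₁ ⟨y, ho₁.le y.2⟩ * g⁻¹ = _
      rw [← hg', ← map_inv, ← map_mul, ← map_mul]
      rfl
    rw [← hy, MulAut.mul_apply, MulAut.mul_apply, MulAut.inv_apply_self, h1, ← hke, ← hke ⟨_, hy'⟩,
      FusionP3.Prime.autRes_apply, FusionP3.Prime.autRes_apply,
      show (⟨(g' : Ω) * y * (g' : Ω)⁻¹, hYsA hy'⟩ : ↥(T₁ ⊓ T₂)) =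
        ⟨g', normalizerIn_le Ys g'.2⟩ * ⟨y, hYsA y.2⟩ * (⟨g', normalizerIn_le Ys g'.2⟩ : ↥(T₁ ⊓ T₂))⁻¹ from Subtype.ext rfl,
      map_mul, map_mul, map_inv]
    rfl
  obtain ⟨e, he, heQ⟩ := (hl'.full.rep h).fuse h (V := autInducedBy (T₁ ⊓ T₂) (img α Ys)) (inn_le_autInducedBy hY₂c.1)
    le_rfl hk hkn
  have hv₁p : ∀ g, v₁ g ∈ preimageAut (T₁ ⊓ T₂) (img α Ys) (autInducedBy (T₁ ⊓ T₂) (img α Ys)) := fun g => by
    rw [preimageAut_top]; exact hv₁m g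
  obtain ⟨v, hv, hve⟩ := exists_comp hv₁ he hv₁p
  have hvY : ∀ y : Ys, v ⟨y, ho₁.le y.2⟩ = ((α ⟨y, hYsA y.2⟩ : ↥(T₁ ⊓ T₂)) : Ω) := fun y => by
    rw [hve]
    exact (heQ ⟨_, ho₁.mem y⟩).trans (hke y).symm
  -- transport back
  set Z := normalizerIn (normalizerIn (T₁ ⊓ T₂) Q) Y with hZ
  have hNA : normalizerIn (T₁ ⊓ T₂) Q ≤ (T₁ ⊓ T₂) := normalizerIn_le Q
  haveI := finite_sub hNA
  have hYZ : Y < Z :=
    FusionP3.Induction.lt_normalizerIn (isPGroup_of_le h.pA hNA) hYN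
  have hZN : Z ≤ normalizerIn (T₁ ⊓ T₂) Q := normalizerIn_le Y
  have hZY : Z ≤ normalizerIn (T₁ ⊓ T₂) Y := fun g hg => ⟨hNA hg.1, hg.2⟩
  obtain ⟨ιZ, hιZ, hιZe⟩ := exists_restrict hl.mem hZY
  have hιZm : ∀ y, ιZ y ∈ normalizerIn (T₁ ⊓ T₂) Ys := fun y => by rw [hιZe]; exact hl.maps _
  obtain ⟨τ, hτ, hτe⟩ := exists_comp hιZ hv hιZm
  obtain ⟨ιi, hιi, -, hιil, -⟩ := exists_inv hl'.mem rfl
  have hτm : ∀ y, τ y ∈ ι'.range := fun y => by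
    have hαv : autRes α (normalizerIn_le (S := (T₁ ⊓ T₂)) Ys) ∈ F.Hom (normalizerIn (T₁ ⊓ T₂) Ys) :=
      autRes_memF h.scA.1 hα _
    have h1 : ((α ⟨ιZ y, normalizerIn_le Ys (hιZm y)⟩ : ↥(T₁ ⊓ T₂)) : Ω)⁻¹ * τ y ∈ (img α Ys) := by
      rw [hτe]
      refine agree_mod h.scA hαv (h.w_sub _ hv) ho₁.le (fun q => hvY q) ?_
        (h.centric_self_cen hY₂c) (y := ⟨ιZ y, hιZm y⟩) (hιZm y)
      intro z hz
      rw [← autRes_range α hYsA] at hz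
      obtain ⟨q, rfl⟩ := hz
      exact ⟨q, rfl⟩
    have h2 : ((α ⟨ιZ y, normalizerIn_le Ys (hιZm y)⟩ : ↥(T₁ ⊓ T₂)) : Ω) ∈ ι'.range := by
      refine ⟨⟨_, (img_normalizerIn α hYA).le (apply_mem_img α (normalizerIn_le Y) ⟨y, hZY y.2⟩)⟩, ?_⟩
      rw [hι'e ⟨y, hZY y.2⟩]
      exact congrArg (fun u => ((α u : ↥(T₁ ⊓ T₂)) : Ω)) (Subtype.ext (hιZe y).symm)
    have h3 : (img α Ys) ≤ ι'.range := fun z hz => by
      obtain ⟨x, hx⟩ := hl'.onto.surj z hz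
      exact ⟨_, hx⟩
    have := mul_mem h2 (h3 h1)
    rwa [mul_inv_cancel_left] at this
  obtain ⟨σ, hσ, hσe⟩ := exists_comp hτ hιi hτm
  refine ⟨Z, hYZ, hZN, σ, hσ, fun y hy => ?_⟩
  have hαy : ((α ⟨y, hYA hy⟩ : ↥(T₁ ⊓ T₂)) : Ω) ∈ normalizerIn (T₁ ⊓ T₂) (img α Y) :=
    le_normalizerIn (img_le α Y) (apply_mem_img α hYA ⟨y, hy⟩)
  have h1 : τ y = ι' ⟨_, hαy⟩ := by
    have hιy : ιZ y ∈ Ys := by rw [hιZe]; exact hl.onto.mem ⟨y, hy⟩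
    rw [hτe, hι'e ⟨y, hZY y.2⟩ hαy]
    exact (hvY ⟨_, hιy⟩).trans (congrArg (fun u => ((α u : ↥(T₁ ⊓ T₂)) : Ω)) (Subtype.ext (hιZe y)))
  rw [hσe]
  exact (congrArg ιi (Subtype.ext h1 : (⟨τ y, hτm y⟩ : ι'.range) = ⟨_, _, rfl⟩)).trans (hιil ⟨_, hαy⟩ _)

/-- Generated maps between full subgroups defined beyond them decompose. -/
theorem main {n : ℕ} (hpred : ∀ R, CentricT F (T₁ ⊓ T₂) R → n < Nat.card R → Tr h R) :
    ∀ (d : ℕ) (Q₁ Q₂ Y : Subgroup Ω), Full F (T₁ ⊓ T₂) Q₁ → Full F (T₁ ⊓ T₂) Q₂ → Nat.card Q₁ = n →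
      Q₁ < Y ∨ Y = normalizerIn (T₁ ⊓ T₂) Q₁ → Y ≤ normalizerIn (T₁ ⊓ T₂) Q₁ →
      Nat.card (normalizerIn (T₁ ⊓ T₂) Q₁) - Nat.card Y = d →
      ∀ μ ∈ h.wSys.Hom Y, ∀ ho : MapsOnto μ Q₁ Q₂, ∀ μQ : Q₁ →* Ω,
        (∀ q : Q₁, μQ q = μ ⟨q, ho.le q.2⟩) → Dcp h Q₁ Q₂ μQ := by
  intro d
  induction d using Nat.strong_induction_on with
  | _ d ih =>
  intro Q₁ Q₂ Y hQ₁ hQ₂ hn hlt hYN hd μ hμ ho μQ hμQ
  set A := T₁ ⊓ T₂ with hA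
  haveI := h.finA
  have hQ₁A := hQ₁.cA.1
  have hQ₂A := hQ₂.cA.1
  rcases hYN.eq_or_lt with rfl | hYN'
  · exact Dcp.of_normalizer hμ ho hμQ
  have hlt' : Q₁ < Y := hlt.resolve_right hYN'.ne
  -- a map of the normalisers
  obtain ⟨β₁, hβ₁, hP₁, -⟩ := hQ₁.fn
  obtain ⟨β₂, hβ₂, hP₂, -⟩ := hQ₂.fn
  have hconjQ : F.IsConj Q₁ Q₂ := ho.isConj (h.w_sub _ hμ)
  have hPP : F.IsConj (img β₁ Q₁) (img β₂ Q₂) := isConj_trans (isConj_symm (isConj_img h.scA.1 hβ₁ hQ₁A))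
    (isConj_trans hconjQ (isConj_img h.scA.1 hβ₂ hQ₂A))
  obtain ⟨η, hη, -, hηP⟩ := exists_normalizer_map h.hS h.hF hP₂ hPP
  have hm₁ : ∀ x, autRes β₁ (normalizerIn_le (S := A) Q₁) x ∈ normalizerIn S (img β₁ Q₁) := fun x => by
    have h1 := (img_normalizerIn β₁ hQ₁A).le (apply_mem_img β₁ (normalizerIn_le Q₁) x)
    exact ⟨h.scA.1 h1.1, h1.2⟩
  obtain ⟨θ₁, hθ₁, hθ₁e⟩ := exists_comp (autRes_memF h.scA.1 hβ₁ (normalizerIn_le Q₁)) hη hm₁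
  have hθ₁A : ∀ x, θ₁ x ∈ A := fun x => stronglyClosed_apply_mem h.scA hθ₁ (normalizerIn_le Q₁ x.2)
  obtain ⟨θ, hθ, hθe⟩ :=
    exists_comp hθ₁ (autRes_memF h.scA.1 ((F.autGroup A).inv_mem hβ₂) le_rfl) hθ₁A
  have hθo : MapsOnto θ Q₁ Q₂ := by
    haveI := finite_sub hQ₂A
    refine MapsOnto.of_mem hθ (le_normalizerIn hQ₁A) (fun x => ?_) (isConj_card hconjQ).le
    rw [hθe, FusionP3.Prime.autRes_apply, ← mem_img]
    show θ₁ _ ∈ img β₂ Q₂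
    rw [hθ₁e, ← hηP]
    exact ⟨_, Subgroup.mem_subgroupOf.2 (apply_mem_img β₁ hQ₁A x), rfl⟩
  obtain ⟨δ, hδ, w, hw, hwe⟩ := h.frattini (normalizerIn_le Q₁) hθ
  have hδi := (F.autGroup A).inv_mem hδ
  set Q := img δ⁻¹ Q₂ with hQdef
  have hQf : Full F A Q := hQ₂.image h.scA hδi
  have hQA : Q ≤ A := hQf.cA.1
  have hQimg : img δ Q = Q₂ := img_img_inv δ hQ₂A
  haveI := finite_sub hQA
  have hcardQ : Nat.card Q = n := by rw [hQdef, card_img _ hQ₂A, isConj_card hconjQ, hn]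
  have how : MapsOnto w Q₁ Q := by
    refine MapsOnto.of_mem hw (le_normalizerIn hQ₁A) (fun x => ?_) (le_of_eq (hcardQ.trans hn.symm))
    rw [hQdef, mem_img (apply_mem hw _), inv_inv, ← hwe _ (apply_mem hw _)]
    exact hθo.mem x
  have hwm : ∀ y, w y ∈ normalizerIn A Q := fun y =>
    apply_mem_normalizerIn h.scA (h.w_sub _ hw) how.le how.mem how.surj y.2
  have hcardN : Nat.card (normalizerIn A Q) = Nat.card (normalizerIn A Q₁) :=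
    le_antisymm (hQ₁.card_le h.hS h.hF h.scA hQA (isConj_symm (how.isConj (h.w_sub _ hw))))
      (hQf.card_le h.hS h.hF h.scA hQ₁A (how.isConj (h.w_sub _ hw)))
  haveI := finite_sub (normalizerIn_le (S := A) Q)
  haveI := finite_sub (normalizerIn_le (S := A) Q₁)
  have hwr : w.range = normalizerIn A Q := range_eq_of_mem hw hwm hcardN.le
  obtain ⟨ω, hω, hωr, hωl, -⟩ := exists_inv hw hwr
  -- move `μ` to `Q`
  obtain ⟨wY, hwY, hwYe⟩ := exists_restrict hw hYN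
  set Y' := wY.range with hY'
  have hY'N : Y' ≤ normalizerIn A Q := by rintro _ ⟨y, rfl⟩; rw [hwYe]; exact hwm _
  obtain ⟨ωY, hωY, hωYe⟩ := exists_restrict hω hY'N
  have hωYm : ∀ z, ωY z ∈ Y := by
    rintro ⟨_, y, rfl⟩
    rw [hωYe]
    exact (congrArg (· ∈ Y) ((congrArg ω (Subtype.ext (hwYe y))).trans (hωl ⟨y, hYN y.2⟩ (hwm _)))).mpr y.2
  obtain ⟨μ₁, hμ₁, hμ₁e⟩ := exists_comp hωY hμ hωYm
  have hQY' : Q ≤ Y' := fun z hz => by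
    obtain ⟨x, hx⟩ := how.surj z hz
    exact ⟨⟨x, ho.le x.2⟩, (hwYe _).trans hx⟩
  have hωQ : ∀ (x : Q₁) (hx : w ⟨x, how.le x.2⟩ ∈ Y'), ωY ⟨_, hx⟩ = x := fun x hx => by
    rw [hωYe]; exact hωl ⟨x, how.le x.2⟩ _
  have ho₁ : MapsOnto μ₁ Q Q₂ := by
    refine ⟨hQY', fun z => ?_, fun z hz => ?_⟩
    · obtain ⟨x, hx⟩ := how.surj z z.2
      rw [hμ₁e]
      have h1 : (⟨ωY ⟨z, hQY' z.2⟩, hωYm _⟩ : Y) = ⟨x, ho.le x.2⟩ :=
        Subtype.ext ((congrArg ωY (Subtype.ext hx.symm)).trans (hωQ x (hx ▸ hQY' z.2)))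
      rw [h1]
      exact ho.mem x
    · obtain ⟨x, rfl⟩ := ho.surj z hz
      refine ⟨⟨_, how.mem x⟩, ?_⟩
      rw [hμ₁e]
      exact congrArg μ (Subtype.ext (hωQ x _))
  haveI := finite_sub (hY'N.trans (normalizerIn_le Q))
  haveI := finite_sub (hYN.trans (normalizerIn_le Q₁))
  have hcardY : Nat.card Y' = Nat.card Y := card_range hwY
  obtain ⟨μ₁Q, -, hμ₁Q⟩ := exists_restrict hμ₁ hQY'
  suffices hcore : Dcp h Q Q₂ μ₁Q by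
    obtain ⟨wQ, -, hwQ⟩ := exists_restrict hw how.le
    refine Dcp.comp hQA (Dcp.of_normalizer hw how hwQ) hcore fun q => ?_
    rw [hμQ, hμ₁Q, hμ₁e]
    refine congrArg μ (Subtype.ext ?_)
    exact ((congrArg ωY (Subtype.ext (hwQ q))).trans
      (hωQ q (hQY' (how.mem q)))).symm
  clear hμQ μQ hlt
  -- now `Q₂` is the image of `Q` under `δ`
  have hμ₁A : ∀ y, μ₁ y ∈ A := fun y => apply_mem hμ₁ y
  obtain ⟨ν, hν, hνe⟩ :=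
    exists_comp (h.w_sub _ hμ₁) (autRes_memF h.scA.1 hδi le_rfl) hμ₁A
  obtain ⟨x, hx, R, ψ, hψ, hψν, hQR, k₀, hk₀, hk₀e⟩ := (hQf.rep h).split h h.w_sub (fun _ _ hf => hf)
    (hQf.extN h) hQY' hY'N hν (fun q => by
      rw [hνe]
      exact ⟨⟨_, hμ₁A _⟩, ho₁.mem q, rfl⟩)
  obtain ⟨e₂, he₂, he₂e⟩ := exists_conj_map h hδ hψ
  obtain ⟨xh, hxh, -, hxhe⟩ := exists_hom_of_aut ((normalizerIn_le Q).trans h.scA.1) hx
  have hxA : ∀ y, xh y ∈ A := fun y => by rw [hxhe]; exact normalizerIn_le Q (x y).2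
  obtain ⟨ϑ, hϑ, hϑe⟩ := exists_comp hxh (autRes_memF h.scA.1 hδ le_rfl) hxA
  have hϑR : ∀ y : Y', ϑ ⟨y, hY'N y.2⟩ ∈ img δ R := fun y => by
    obtain ⟨hy, -⟩ := hψν y
    rw [hϑe, FusionP3.Prime.autRes_apply]
    exact ⟨⟨_, hxA _⟩, (congrArg (· ∈ R) (hxhe ⟨y, hY'N y.2⟩)).mpr hy, rfl⟩
  have hμe₂ : ∀ y : Y', μ₁ y = e₂ ⟨_, hϑR y⟩ := fun y => by
    obtain ⟨hy, hye⟩ := hψν y
    have e : (⟨_, hϑR y⟩ : img δ R) = ⟨_, apply_mem_img δ (src_le hψ) ⟨_, hy⟩⟩ := by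
      refine Subtype.ext ?_
      show ϑ _ = _
      rw [hϑe, FusionP3.Prime.autRes_apply]
      exact congrArg (fun u => ((δ u : A) : Ω)) (Subtype.ext (hxhe _))
    rw [e, he₂e]
    simp only [hye, hνe, FusionP3.Prime.autRes_apply]
    simp
  obtain ⟨α, hα, w₂, hw₂, hw₂e⟩ := h.frattini (normalizerIn_le Q) hϑ
  have hαi := (F.autGroup A).inv_mem hα
  set M := img α⁻¹ Q₂ with hM
  have hMf : Full F A M := hQ₂.image h.scA hαi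
  have hMA : M ≤ A := hMf.cA.1
  haveI := finite_sub hMA
  have hϑQ : ∀ q : Q, ϑ ⟨q, le_normalizerIn hQA q.2⟩ ∈ Q₂ := fun q => by
    rw [hϑe, ← hQimg, FusionP3.Prime.autRes_apply]
    refine ⟨⟨_, hxA _⟩, ?_, rfl⟩
    show xh _ ∈ Q
    rw [hxhe]
    obtain ⟨hy, hye⟩ := hψν ⟨q, hQY' q.2⟩
    obtain ⟨z, hz⟩ : ∃ z : Q, ψ ⟨z, hQR z.2⟩ = ν ⟨q, hQY' q.2⟩ := by
      have hνq : ν ⟨q, hQY' q.2⟩ ∈ Q := by rw [hνe]; exact ⟨⟨_, hμ₁A _⟩, ho₁.mem q, rfl⟩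
      exact ⟨k₀⁻¹ ⟨_, hνq⟩, by rw [hk₀e, MulAut.apply_inv_self]⟩
    have h1 := h.wSys.injective_of_mem hψ (hye.trans hz.symm)
    exact (congrArg (fun u : R => (u : Ω)) h1).symm ▸ z.2
  have how₂ : MapsOnto w₂ Q M := by
    refine MapsOnto.of_mem hw₂ (le_normalizerIn hQA) (fun q => ?_) ?_
    · rw [hM, mem_img (apply_mem hw₂ _), inv_inv, ← hw₂e _ (apply_mem hw₂ _)]
      exact hϑQ q
    · rw [hM, card_img _ hQ₂A, isConj_card hconjQ, hn, hcardQ]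
  have hw₂m : ∀ y, w₂ y ∈ normalizerIn A M := fun y =>
    apply_mem_normalizerIn h.scA (h.w_sub _ hw₂) how₂.le how₂.mem how₂.surj y.2
  have hcardN₂ : Nat.card (normalizerIn A M) = Nat.card (normalizerIn A Q) :=
    le_antisymm (hQf.card_le h.hS h.hF h.scA hMA (isConj_symm (how₂.isConj (h.w_sub _ hw₂))))
      (hMf.card_le h.hS h.hF h.scA hQA (how₂.isConj (h.w_sub _ hw₂)))
  obtain ⟨w₂Y, hw₂Y, hw₂Ye⟩ := exists_restrict hw₂ hY'N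
  set Y'' := w₂Y.range with hY''
  have hY''N : Y'' ≤ normalizerIn A M := by rintro _ ⟨y, rfl⟩; rw [hw₂Ye]; exact hw₂m _
  have hMY'' : M ≤ Y'' := fun z hz => by
    obtain ⟨q, hq⟩ := how₂.surj z hz
    exact ⟨⟨q, hQY' q.2⟩, (hw₂Ye _).trans hq⟩
  haveI := finite_sub (hY''N.trans (normalizerIn_le M))
  haveI := finite_sub (normalizerIn_le (S := A) M)
  have hcardY'' : Nat.card Y'' = Nat.card Y' := card_range hw₂Y
  have hYcard : Nat.card Y < Nat.card (normalizerIn A Q₁) :=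
    lt_of_not_ge fun hle => hYN'.ne (Subgroup.eq_of_le_of_card_ge hYN hle)
  have hY''lt : Y'' < normalizerIn A M := lt_of_le_of_ne hY''N fun he => by
    rw [he] at hcardY''; omega
  have hρ : autRes α (hY''lt.le.trans (normalizerIn_le M)) ∈ h.wSys.Hom Y'' := by
    obtain ⟨e₂i, he₂i, -, he₂l, -⟩ := exists_inv he₂ rfl
    obtain ⟨w₂i, hw₂i, hw₂ir, hw₂l, hw₂r⟩ := exists_inv hw₂Y rfl
    have hm : ∀ y, w₂i y ∈ Y' := fun y => hw₂ir.le ⟨y, rfl⟩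
    obtain ⟨τ, hτ, hτe⟩ := exists_comp hw₂i hμ₁ hm
    obtain ⟨σ, hσ, hσe⟩ := exists_comp hτ he₂i fun y => by rw [hτe, hμe₂]; exact ⟨_, rfl⟩
    refine hom_congr hσ fun y => ?_
    obtain ⟨_, z, rfl⟩ := y
    have e : τ ⟨w₂Y z, z, rfl⟩ = e₂ ⟨_, hϑR z⟩ := by
      rw [hτe, ← hμe₂]
      exact congrArg μ₁ (Subtype.ext (hw₂l z ⟨z, rfl⟩))
    rw [hσe]
    refine Eq.symm ((congrArg e₂i (Subtype.ext e)).trans ((he₂l _ ⟨_, rfl⟩).trans ?_))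
    rw [FusionP3.Prime.autRes_apply]
    exact (hw₂e _ (apply_mem hw₂ _)).trans
      (congrArg (fun u => ((α u : A) : Ω)) (Subtype.ext (hw₂Ye z).symm))
  have hcardM : Nat.card M = n := by rw [hM, card_img _ hQ₂A, isConj_card hconjQ, hn]
  have hQ₁card : n < Nat.card Y := by
    haveI := finite_sub hQ₁A
    rw [← hn]
    exact lt_of_not_ge fun hle => hlt'.ne (Subgroup.eq_of_le_of_card_ge hlt'.le hle)
  obtain ⟨Z, hY''Z, hZN, σ, hσ, hσe⟩ := main_core hα hMf hMY'' hY''lt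
    (hpred _ (hMf.cA.mono hMY'' (hY''lt.le.trans (normalizerIn_le M))) (by omega)) hρ
  have hMZ : M ≤ Z := hMY''.trans hY''Z.le
  have hσM : ∀ q : M, σ ⟨q, hMZ q.2⟩ = ((α ⟨q, hMA q.2⟩ : A) : Ω) := fun q => hσe _ (hMY'' q.2)
  have hoσ : MapsOnto σ M Q₂ := by
    refine ⟨hMZ, fun q => ?_, fun z hz => ?_⟩
    · rw [hσM, ← img_img_inv α hQ₂A]
      exact apply_mem_img α hMA q
    · rw [← img_img_inv α hQ₂A] at hz
      obtain ⟨q, hq, rfl⟩ := hz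
      exact ⟨⟨q, hq⟩, hσM ⟨q, hq⟩⟩
  haveI := finite_sub (hZN.trans (normalizerIn_le M))
  have hZcard : Nat.card Y'' < Nat.card Z :=
    lt_of_not_ge fun hle => hY''Z.ne (Subgroup.eq_of_le_of_card_ge hY''Z.le hle)
  have hZle : Nat.card Z ≤ Nat.card (normalizerIn A M) := Subgroup.card_le_of_le hZN
  have hN12 : Nat.card (normalizerIn A M) = Nat.card (normalizerIn A Q₁) := hcardN₂.trans hcardN
  have hMlt : M < Z := lt_of_le_of_lt hMY'' hY''Z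
  obtain ⟨σQ, -, hσQ⟩ := exists_restrict hσ hMZ
  have hlt2 : Nat.card (normalizerIn A M) - Nat.card Z < d := by omega
  have hdσ : Dcp h M Q₂ σQ := ih _ hlt2 M Q₂ Z hMf hQ₂ hcardM (Or.inl hMlt) hZN rfl σ hσ hoσ σQ hσQ
  -- assemble
  obtain ⟨w₂Q, -, hw₂Q⟩ := exists_restrict hw₂ how₂.le
  let χ : Q →* Ω := ϑ.comp (Subgroup.inclusion (le_normalizerIn hQA))
  have hdχ : Dcp h Q Q₂ χ := by
    refine Dcp.comp hMA (Dcp.of_normalizer hw₂ how₂ hw₂Q) hdσ fun q => ?_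
    show ϑ _ = _
    rw [hw₂e _ (apply_mem hw₂ _), hσQ, hσM]
    exact congrArg (fun u => ((α u : A) : Ω)) (Subtype.ext (hw₂Q q).symm)
  have hφk := autRes_memF h.scA.1 hδ hQA
  have hφkr : (autRes δ hQA).range = Q₂ := (autRes_range δ hQA).trans hQimg
  refine hdχ.apply_k (h.congr_mem_kAut hQA hφk hφkr hk₀) fun q => ?_
  rw [hμ₁Q, hμe₂]
  obtain ⟨hy, -⟩ := hψν ⟨q, hQY' q.2⟩
  set u : normalizerIn A Q := x ⟨q, hY'N (hQY' q.2)⟩ with hu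
  have huQ : (u : Ω) ∈ Q := by
    have h1 := hϑQ q
    rw [hϑe, FusionP3.Prime.autRes_apply, ← hQimg, mem_img (SetLike.coe_mem _)] at h1
    simpa [hxhe] using h1
  have e₁ : (⟨χ q, hdχ.mem q⟩ : Q₂) = homEquiv hφk hφkr ⟨u, huQ⟩ := by
    refine Subtype.ext ?_
    show ϑ _ = _
    rw [hϑe, homEquiv_coe]
    exact congrArg (fun v => ((δ v : A) : Ω)) (Subtype.ext (hxhe _))
  have e₂' : (⟨_, hϑR ⟨q, hQY' q.2⟩⟩ : img δ R) = ⟨_, apply_mem_img δ (src_le hψ) ⟨u, hy⟩⟩ := by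
    refine Subtype.ext ?_
    show ϑ _ = _
    rw [hϑe]
    exact congrArg (fun v => ((δ v : A) : Ω)) (Subtype.ext (hxhe _))
  rw [e₁, congr_apply_map, e₂', he₂e]
  exact congrArg (fun v => ((δ v : A) : Ω)) (Subtype.ext (hk₀e ⟨u, huQ⟩))

end Main

/-- Generated maps between subgroups centric relative to `A` decompose through links. -/
theorem tr (R : Subgroup Ω) (hR : CentricT F (T₁ ⊓ T₂) R) : Tr h R := by
  set A := T₁ ⊓ T₂ with hA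
  haveI := h.finA
  suffices key : ∀ (d : ℕ) (R : Subgroup Ω), CentricT F A R → Nat.card A - Nat.card R = d → Tr h R from
    key _ R hR rfl
  intro d
  induction d using Nat.strong_induction_on with
  | _ d ih =>
  intro R hR hd φ hφ
  have hpred : ∀ X, CentricT F A X → Nat.card R < Nat.card X → Tr h X := fun X hX hlt => by
    have h1 : Nat.card X ≤ Nat.card A := Subgroup.card_le_of_le hX.1
    exact ih _ (by omega) X hX rfl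
  suffices gen : ∀ {P : Subgroup Ω} {φ : P →* Ω}, WGen F A (kAut F E₁ E₂ p) φ → ∀ (R' : Subgroup Ω),
      CentricT F A R' → Nat.card R' = Nat.card R → ∀ (hR'P : R' ≤ P) (ψ : R' →* Ω), ψ ∈ h.wSys.Hom R' →
      (∀ x : R', ψ x = φ ⟨x, hR'P x.2⟩) → ∀ (Q₁ Q₂ : Subgroup Ω) (ι₁ : ↥(normalizerIn A R') →* Ω)
        (ι₂ : ↥(normalizerIn A ψ.range) →* Ω) (hl₁ : Link h R' ι₁ Q₁) (hl₂ : Link h ψ.range ι₂ Q₂)
        (μ : Q₁ →* Ω), (∀ x : R', μ ⟨_, hl₁.onto.mem x⟩ = ι₂ ⟨ψ x, hl₂.onto.le ⟨x, rfl⟩⟩) →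
        Dcp h Q₁ Q₂ μ from
    gen hφ R hR rfl le_rfl φ hφ (fun _ => rfl)
  intro P φ hg
  induction hg with
  | @comp P P' φ χ φχ hgφ hgχ hm he ihφ ihχ =>
    intro R' hR' hc hR'P ψ hψ hψe Q₁ Q₂ ι₁ ι₂ hl₁ hl₂ μ hμ
    obtain ⟨φR, hφR, hφRe⟩ := exists_restrict (show φ ∈ h.wSys.Hom P from hgφ) hR'P
    have hMc : CentricT F A φR.range := centricT_congr h.scA hR' ⟨φR, h.w_sub _ hφR, rfl⟩
    have hMP : φR.range ≤ P' := by rintro _ ⟨x, rfl⟩; rw [hφRe]; exact hm _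
    obtain ⟨χM, hχM, hχMe⟩ := exists_restrict (show χ ∈ h.wSys.Hom P' from hgχ) hMP
    have hχψ : ∀ x : R', χM ⟨φR x, x, rfl⟩ = ψ x := fun x => by
      rw [hχMe, hψe, he]
      exact congrArg χ (Subtype.ext (hφRe x))
    have hr : χM.range = ψ.range := by
      ext y
      constructor
      · rintro ⟨⟨_, x, rfl⟩, rfl⟩; exact ⟨x, (hχψ x).symm⟩
      · rintro ⟨x, rfl⟩; exact ⟨_, hχψ x⟩
    obtain ⟨QM, ιM, hlM⟩ := exists_link h hMc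
    obtain ⟨ι₂', hι₂', hι₂'e⟩ := exists_restrict hl₂.mem
      (le_of_eq (congrArg (normalizerIn A) hr) : normalizerIn A χM.range ≤ normalizerIn A ψ.range)
    have hl₂' : Link h χM.range ι₂' Q₂ :=
      ⟨hι₂', hl₂.full, le_normalizerIn (range_le_base hχM),
        fun z => by rw [hι₂'e]; exact hl₂.onto.mem ⟨z, hr.le z.2⟩, fun z hz => by
          obtain ⟨x, hx⟩ := hl₂.onto.surj z hz
          exact ⟨⟨x, hr.ge x.2⟩, (hι₂'e _).trans hx⟩⟩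
    obtain ⟨g₁, hg₁, hg₁r, hg₁e⟩ := hl₁.onto.exists_hom (h.w_sub _ hl₁.mem)
    obtain ⟨gi, hgi, hgir, hgil, -⟩ := exists_inv hg₁ hg₁r
    obtain ⟨gM, hgM, hgMr, hgMe⟩ := hlM.onto.exists_hom (h.w_sub _ hlM.mem)
    obtain ⟨a, ha, hae⟩ := exists_comp hgi (h.w_sub _ hφR) fun y => hgir.le ⟨y, rfl⟩
    obtain ⟨μ₁, hμ₁, hμ₁e⟩ := exists_comp ha hgM fun y => by rw [hae]; exact ⟨_, rfl⟩
    obtain ⟨bi, hbi, hbir, hbil, -⟩ := exists_inv hgM hgMr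
    obtain ⟨b, hb, hbe⟩ := exists_comp hbi (h.w_sub _ hχM) fun y => hbir.le ⟨y, rfl⟩
    obtain ⟨μ₂, hμ₂, hμ₂e⟩ := exists_comp hb
      (restrict_mem (h.w_sub _ hι₂') hl₂'.onto.le) fun y => by rw [hbe]; exact ⟨_, rfl⟩
    have h₁ : ∀ x : R', μ₁ ⟨_, hl₁.onto.mem x⟩ = ιM ⟨φR x, hlM.onto.le ⟨x, rfl⟩⟩ := fun x => by
      rw [hμ₁e, hgMe]
      refine congrArg ιM (Subtype.ext ?_)
      show a _ = _
      rw [hae]
      refine congrArg φR (Subtype.ext ?_)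
      exact (congrArg gi (Subtype.ext (hg₁e x).symm)).trans (hgil x (hg₁r.le ⟨x, rfl⟩))
    have h₂ : ∀ z : φR.range, μ₂ ⟨_, hlM.onto.mem z⟩ = ι₂' ⟨χM z, hl₂'.onto.le ⟨z, rfl⟩⟩ := fun z => by
      rw [hμ₂e]
      show ι₂' _ = _
      refine congrArg ι₂' (Subtype.ext ?_)
      show b _ = _
      rw [hbe]
      refine congrArg χM (Subtype.ext ?_)
      exact (congrArg bi (Subtype.ext (hgMe z).symm)).trans (hbil z (hgMr.le ⟨z, rfl⟩))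
    have hd₁ : Dcp h Q₁ QM μ₁ :=
      ihφ R' hR' hc hR'P φR hφR hφRe Q₁ QM ι₁ ιM hl₁ hlM μ₁ h₁
    have hd₂ : Dcp h QM Q₂ μ₂ :=
      ihχ φR.range hMc (by rw [card_range hφR, hc]) hMP χM hχM hχMe QM Q₂ ιM ι₂' hlM hl₂' μ₂ h₂
    refine Dcp.comp hlM.full.cA.1 hd₁ hd₂ fun q => ?_
    obtain ⟨x, hx⟩ := hl₁.onto.surj q q.2
    have hq : q = ⟨_, hl₁.onto.mem x⟩ := Subtype.ext hx.symm
    subst hq
    simp only [h₁]
    rw [hμ x, h₂ ⟨φR x, x, rfl⟩, hι₂'e]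
    exact congrArg ι₂ (Subtype.ext (hχψ x).symm)
  | @base P V φ k hV hk hle he =>
    intro R' hR' hc hR'P ψ hψ hψe Q₁ Q₂ ι₁ ι₂ hl₁ hl₂ μ hμ
    have hR'V : R' ≤ V := hR'P.trans hle
    have hψk : ∀ x : R', ψ x = ((k ⟨x, hR'V x.2⟩ : V) : Ω) := fun x => (hψe x).trans (he _)
    haveI := finite_sub hR'.1
    haveI := finite_sub hV.1
    haveI := finite_sub hl₁.full.cA.1
    have hψV : ψ.range ≤ V := by rintro _ ⟨x, rfl⟩; rw [hψk]; exact SetLike.coe_mem _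
    obtain ⟨ιi, hιi, hιir, hιil, -⟩ := exists_inv hl₁.mem rfl
    haveI := finite_sub (normalizerIn_le (S := A) R')
    have hQ₁card : Nat.card Q₁ = Nat.card R := by
      rw [isConj_card (hl₁.onto.isConj (h.w_sub _ hl₁.mem)), hc]
    rcases hR'.1.eq_or_lt with hRA | hRA
    · -- `R'` is `A`
      have hQA : Q₁ = A := Subgroup.eq_of_le_of_card_ge hl₁.full.cA.1 (by rw [hQ₁card, ← hc, hRA])
      have hNA : normalizerIn A R' ≤ R' := (normalizerIn_le R').trans hRA.ge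
      have hQN : Q₁ = normalizerIn A Q₁ :=
        le_antisymm (le_normalizerIn hl₁.full.cA.1) ((normalizerIn_le _).trans hQA.ge)
      obtain ⟨j, hj, hje⟩ := exists_restrict hιi (fun y hy => by
        obtain ⟨x, hx⟩ := hl₁.onto.surj y (hQN.ge hy)
        exact ⟨_, hx⟩ : normalizerIn A Q₁ ≤ ι₁.range)
      have hjm : ∀ y, j y ∈ R' := fun y => by rw [hje]; exact hNA (hιir.le ⟨_, rfl⟩)
      obtain ⟨a, ha, hae⟩ := exists_comp hj hψ hjm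
      obtain ⟨v, hv, hve⟩ := exists_comp ha hl₂.mem fun y => by
        rw [hae]; exact hl₂.onto.le ⟨_, rfl⟩
      have hkey : ∀ x : R', v ⟨_, hQN.le (hl₁.onto.mem x)⟩ = μ ⟨_, hl₁.onto.mem x⟩ := fun x => by
        rw [hμ, hve]
        refine congrArg ι₂ (Subtype.ext ?_)
        show a _ = _
        rw [hae]
        refine congrArg ψ (Subtype.ext ?_)
        show j _ = _
        rw [hje]
        exact hιil ⟨x, hl₁.onto.le x.2⟩ ⟨_, rfl⟩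
      have hvμ : ∀ q : Q₁, μ q = v ⟨q, hQN.le q.2⟩ := fun q => by
        obtain ⟨x, hx⟩ := hl₁.onto.surj q q.2
        have hq : q = ⟨_, hl₁.onto.mem x⟩ := Subtype.ext hx.symm
        subst hq
        exact (hkey x).symm
      refine Dcp.of_normalizer hv ⟨hQN.le, fun q => ?_, fun z hz => ?_⟩ hvμ
      · obtain ⟨x, hx⟩ := hl₁.onto.surj q q.2
        have hq : q = ⟨_, hl₁.onto.mem x⟩ := Subtype.ext hx.symm
        subst hq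
        rw [hkey, hμ]
        exact hl₂.onto.mem ⟨_, x, rfl⟩
      · obtain ⟨⟨_, x, rfl⟩, hzx⟩ := hl₂.onto.surj z hz
        exact ⟨⟨_, hl₁.onto.mem x⟩, (hkey x).trans ((hμ x).trans hzx)⟩
    -- choose the domain
    obtain ⟨X, hRX, hXN, f, hf, hfψ, k', hk', hμf⟩ : ∃ X : Subgroup Ω, R' < X ∧ ∃ hXN : X ≤ normalizerIn A R',
        ∃ f ∈ h.wSys.Hom X, ∃ hm : ∀ (x : X), (x : Ω) ∈ R' → f x ∈ ψ.range,
        ∃ k' ∈ kAut F E₁ E₂ p Q₂, ∀ (x : R') (hx : (x : Ω) ∈ X) (hz : ι₂ ⟨f ⟨x, hx⟩,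
            hl₂.onto.le (hm ⟨x, hx⟩ x.2)⟩ ∈ Q₂),
          μ ⟨_, hl₁.onto.mem x⟩ = ((k' ⟨_, hz⟩ : Q₂) : Ω) := by
      rcases hR'V.eq_or_lt with hRV | hRV
      · -- `R' = V`
        subst hRV
        have hψr : ψ.range = R' := Subgroup.eq_of_le_of_card_ge hψV (by rw [card_range hψ])
        obtain ⟨g₂, hg₂, hg₂r, hg₂e⟩ := hl₂.onto.exists_hom (h.w_sub _ hl₂.mem)
        obtain ⟨g, hg, hge⟩ := exists_restrict hg₂ (hψr.ge : R' ≤ ψ.range)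
        have hgr : g.range = Q₂ := by
          rw [← hg₂r]
          ext z
          constructor
          · rintro ⟨x, rfl⟩; exact ⟨_, (hge x).symm⟩
          · rintro ⟨x, rfl⟩; exact ⟨⟨x, hψr.le x.2⟩, hge _⟩
        refine ⟨normalizerIn A R', FusionP3.Induction.lt_normalizerIn h.pA hRA, le_rfl,
          (normalizerIn A R').subtype, subtype_mem h.wSys (normalizerIn_le R'),
          fun x hx => hψr.ge hx, _, h.congr_mem_kAut hR'.1 hg hgr hk, fun x hx hz => ?_⟩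
        rw [hμ x]
        have e : (⟨_, hz⟩ : Q₂) = homEquiv hg hgr x := Subtype.ext ((hge x).trans (hg₂e _)).symm
        rw [e, congr_apply_map, hge, hg₂e]
        exact congrArg ι₂ (Subtype.ext (hψk x))
      · -- `R' < V`
        set X := normalizerIn V R' with hX
        have hRX : R' < X := FusionP3.Induction.lt_normalizerIn (isPGroup_of_le h.pA hV.1) hRV
        obtain ⟨kh, hkh, -, hkhe⟩ := exists_hom_of_aut hV.1 (h.kAut_le_w hV hk)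
        obtain ⟨f, hf, hfe⟩ := exists_restrict hkh (normalizerIn_le R' : X ≤ V)
        refine ⟨X, hRX, fun g hg => ⟨hV.1 hg.1, hg.2⟩, f, hf,
          fun x hx => ⟨⟨x, hx⟩, ((hfe x).trans ((hkhe _).trans (hψk ⟨x, hx⟩).symm)).symm⟩,
          1, one_mem _, fun x hx hz => ?_⟩
        rw [hμ x, MulAut.one_apply]
        exact congrArg ι₂ (Subtype.ext ((hψk x).trans ((hkhe _).symm.trans (hfe ⟨x, hx⟩).symm)))
    haveI := finite_sub (hXN.trans (normalizerIn_le R'))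
    have hψA : ψ.range ≤ A := range_le_base hψ
    have hsurjψ : ∀ z ∈ ψ.range, ∃ r : R', f ⟨r, hRX.le r.2⟩ = z := fun z hz => by
      obtain ⟨φ', hφ', hφ'e⟩ := exists_restrict hf hRX.le
      haveI := finite_sub hψA
      have hr := range_eq_of_mem hφ' (Q := ψ.range) (fun r => by rw [hφ'e]; exact hfψ _ r.2)
        (card_range hψ).le
      obtain ⟨r, rfl⟩ := hr.ge hz
      exact ⟨r, (hφ'e r).symm⟩
    have hfN : ∀ x, f x ∈ normalizerIn A ψ.range := fun x =>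
      apply_mem_normalizerIn h.scA (h.w_sub _ hf) hRX.le (fun r => hfψ _ r.2) hsurjψ (hXN x.2)
    obtain ⟨ι₁X, hι₁X, hι₁Xe⟩ := exists_restrict hl₁.mem hXN
    obtain ⟨j, hj, hjr, hjl, -⟩ := exists_inv hι₁X rfl
    obtain ⟨a, ha, hae⟩ := exists_comp hj hf fun y => hjr.le ⟨y, rfl⟩
    obtain ⟨μ₀, hμ₀, hμ₀e⟩ := exists_comp ha hl₂.mem fun y => by rw [hae]; exact hfN _
    have hYN : ι₁X.range ≤ normalizerIn A Q₁ := by rintro _ ⟨x, rfl⟩; rw [hι₁Xe]; exact hl₁.maps _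
    have hQY : Q₁ ≤ ι₁X.range := fun z hz => by
      obtain ⟨x, hx⟩ := hl₁.onto.surj z hz
      exact ⟨⟨x, hRX.le x.2⟩, (hι₁Xe _).trans hx⟩
    haveI := finite_sub (hYN.trans (normalizerIn_le Q₁))
    have hlt : Q₁ < ι₁X.range := by
      refine lt_of_le_of_ne hQY fun he => hRX.ne ?_
      refine Subgroup.eq_of_le_of_card_ge hRX.le ?_
      rw [← card_range hι₁X, ← he, hQ₁card, hc]
    have hval : ∀ (x : R') (hx : ι₁ ⟨x, hl₁.onto.le x.2⟩ ∈ ι₁X.range),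
        μ₀ ⟨_, hx⟩ = ι₂ ⟨f ⟨x, hRX.le x.2⟩, hl₂.onto.le (hfψ _ x.2)⟩ := fun x hx => by
      rw [hμ₀e]
      refine congrArg ι₂ (Subtype.ext ?_)
      show a _ = _
      rw [hae]
      refine congrArg f (Subtype.ext ?_)
      exact (congrArg j (Subtype.ext (hι₁Xe ⟨x, hRX.le x.2⟩).symm)).trans (hjl _ ⟨_, rfl⟩)
    have ho : MapsOnto μ₀ Q₁ Q₂ := by
      refine ⟨hQY, fun q => ?_, fun z hz => ?_⟩
      · obtain ⟨x, hx⟩ := hl₁.onto.surj q q.2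
        have hq : q = ⟨_, hl₁.onto.mem x⟩ := Subtype.ext hx.symm
        subst hq
        rw [hval x]
        exact hl₂.onto.mem ⟨_, hfψ _ x.2⟩
      · obtain ⟨⟨z', hz'⟩, hzx⟩ := hl₂.onto.surj z hz
        obtain ⟨x, hx⟩ := hsurjψ z' hz'
        exact ⟨⟨_, hl₁.onto.mem x⟩, (hval x _).trans ((congrArg ι₂ (Subtype.ext hx)).trans hzx)⟩
    obtain ⟨μQ, -, hμQ⟩ := exists_restrict hμ₀ hQY
    have hd₀ : Dcp h Q₁ Q₂ μQ := main hpred _ Q₁ Q₂ ι₁X.range hl₁.full hl₂.full hQ₁card (Or.inl hlt)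
      hYN rfl μ₀ hμ₀ ho μQ hμQ
    refine hd₀.apply_k hk' fun q => ?_
    obtain ⟨x, hx⟩ := hl₁.onto.surj q q.2
    have hq : q = ⟨_, hl₁.onto.mem x⟩ := Subtype.ext hx.symm
    subst hq
    rw [hμf x (hRX.le x.2) (hl₂.onto.mem ⟨_, hfψ _ x.2⟩)]
    exact congrArg (fun u => ((k' u : Q₂) : Ω)) (Subtype.ext ((hμQ _).trans (hval x _)).symm)

end Cfsg.Agent.Lib.FS.Inter
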